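import Groth.Agent.Fibres16.SuppDims
import Groth.Agent.GUOpen.Equidim
import Groth.Agent.VarDim.Scheme
import Groth.Agent.RegLoc.SupportDim
import Groth.Agent.QSect.Scheme
import Groth.Agent.FDesc.QuasiFlat
import Groth.Agent.LimTop.TensorQC

/-!
# Equidimensionality of stalks of modules, read on points
-/

set_option autoImplicit false
set_option linter.style.haveILetI false

universe u

open CategoryTheory AlgebraicGeometry TopologicalSpace Topology Opposite
open Groth.Agent.PullStalk.Sky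

namespace Groth.Agent.Fibres16.EquidimStalk

open SuppDims

variable {Z : Scheme.{u}} (M : Z.Modules) [M.IsQuasicoherent] [M.IsFiniteType]

/-- The support of a stalk consists of the generizations in the support. -/
theorem annihilator_le_iff (x : Z) (Q : PrimeSpectrum (Z.presheaf.stalk x)) :
    Module.annihilator (Z.presheaf.stalk x) (M.presheaf.stalk x) ≤ Q.asIdeal ↔
      Nontrivial (M.presheaf.stalk (Z.fromSpecStalk x Q)) := by
  obtain ⟨U, hU, hx, -⟩ := exists_isAffineOpen_mem_and_subset (Opens.mem_top x)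
  letI := TopCat.Presheaf.algebra_section_stalk Z.presheaf (⟨x, hx⟩ : U)
  haveI := hU.isLocalization_stalk ⟨x, hx⟩
  haveI := QCoh.finite_sections_of_isFiniteType M hU
  let q : PrimeSpectrum Γ(Z, U) := PrimeSpectrum.comap (Z.presheaf.germ U x hx).hom Q
  have hy : Z.fromSpecStalk x Q = hU.fromSpec q := by
    rw [← hU.fromSpecStalk_eq_fromSpecStalk hx]
    rfl
  have hyU : hU.fromSpec q ∈ U := hU.range_fromSpec.subset ⟨q, rfl⟩
  rw [hy, CycLib.nontrivial_stalk_iff M hU hyU,
    show hU.primeIdealOf ⟨_, hyU⟩ = q from hU.fromSpec.isOpenEmbedding.injective (hU.fromSpec_primeIdealOf _)]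
  constructor
  · intro h a ha
    refine h (Module.mem_annihilator.2 fun t => ?_)
    obtain ⟨m, r, hr, hrt⟩ := CycLib.exists_smul_germ_eq M hU hx t
    refine (hr.smul_eq_zero).1 ?_
    rw [smul_comm, hrt, ← germM_smul, Module.mem_annihilator.1 ha m]
    exact map_zero (M.presheaf.germ U x hx).hom
  · intro h a ha
    classical
    obtain ⟨⟨a', s⟩, hs⟩ := IsLocalization.surj (hU.primeIdealOf ⟨x, hx⟩).asIdeal.primeCompl a
    obtain ⟨S, hS⟩ := Module.Finite.fg_top (R := Γ(Z, U)) (M := Γ(M, U))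
    have hkill : ∀ m : Γ(M, U), germM M U x hx (a' • m) = 0 := fun m => by
      rw [germM_smul]
      refine (congrArg (· • germM M U x hx m) (show Z.presheaf.germ U x hx a' = a * algebraMap Γ(Z, U) (Z.presheaf.stalk x) s from hs.symm)).trans ?_
      rw [mul_comm, mul_smul, Module.mem_annihilator.1 ha, smul_zero]
    choose c hc hcm using fun m : Γ(M, U) => CycLib.exists_smul_eq_zero_of_germ_eq_zero M hU hx _ (hkill m)
    have hann : (∏ m ∈ S, c m) * a' ∈ Module.annihilator Γ(Z, U) Γ(M, U) := by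
      refine Module.mem_annihilator.2 fun m => ?_
      have hm : m ∈ Submodule.span Γ(Z, U) (S : Set Γ(M, U)) := hS ▸ Submodule.mem_top
      induction hm using Submodule.span_induction with
      | mem v hv =>
        obtain ⟨d, hd⟩ := Finset.dvd_prod_of_mem c hv
        rw [hd, mul_assoc, mul_comm d a', ← mul_assoc, mul_comm _ d, mul_smul, mul_smul, hcm v, smul_zero]
      | zero => exact smul_zero _
      | add v w _ _ hv hw => rw [smul_add, hv, hw, add_zero]
      | smul r v _ hv => rw [smul_comm, hv, smul_zero]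
    have hu : IsUnit (Z.presheaf.germ U x hx (∏ m ∈ S, c m)) := by
      rw [map_prod]
      exact IsUnit.prod_iff.2 fun m _ => hc m
    have ha' : Z.presheaf.germ U x hx a' ∈ Q.asIdeal := (Q.2.mem_or_mem (by rw [← map_mul]; exact h hann)).resolve_left
      fun h1 => Q.2.ne_top (Ideal.eq_top_of_isUnit_mem _ h1 hu)
    have hsu := IsLocalization.map_units (Z.presheaf.stalk x) s
    refine (Ideal.mul_unit_mem_iff_mem _ hsu).1 ?_
    rw [show a * algebraMap Γ(Z, U) (Z.presheaf.stalk x) s = Z.presheaf.germ U x hx a' from hs]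
    exact ha'

variable (k : Type u) [Field k] [Z.Over (Spec (CommRingCat.of k))] [LocallyOfFiniteType (Z ↘ Spec (CommRingCat.of k))]

/-- The number of steps between two points. -/
theorem krullDim_between {x w : Z} (h : w ⤳ x) :
    Order.krullDim {z : Z | w ⤳ z ∧ z ⤳ x} = ((VarDim.dimPt k Z w - VarDim.dimPt k Z x : ℕ) : WithBot ℕ∞) := by
  refine le_antisymm ?_ ?_
  on_goal 1 => refine iSup_le fun l => ?_
  · let l' : LTSeries Z := l.map Subtype.val fun _ _ hab => hab
    have h1 := VarDim.dimPt_add_length_le k l'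
    have hhead : VarDim.dimPt k Z x ≤ VarDim.dimPt k Z l'.head := (VarDim.exists_ltSeries_of_le k (show x ≤ l'.head from l.head.2.2)).1
    have hlast : VarDim.dimPt k Z l'.last ≤ VarDim.dimPt k Z w := (VarDim.exists_ltSeries_of_le k (show l'.last ≤ w from l.last.2.1)).1
    have hlen : l'.length = l.length := rfl
    exact_mod_cast (by omega : l.length ≤ VarDim.dimPt k Z w - VarDim.dimPt k Z x)
  · obtain ⟨hle, l, hl1, hl2, hl3⟩ := VarDim.exists_ltSeries_of_le k (show x ≤ w from h)
    have hmem : ∀ i, w ⤳ l i ∧ l i ⤳ x := fun i =>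
      ⟨show l i ≤ w from (l.monotone (Fin.le_last i)).trans hl2,
       show x ≤ l i from hl1 ▸ l.monotone (Fin.zero_le i)⟩
    let l' : LTSeries {z : Z | w ⤳ z ∧ z ⤳ x} := ⟨l.length, fun i => ⟨l i, hmem i⟩, fun i => l.step i⟩
    refine le_trans ?_ (Order.LTSeries.length_le_krullDim l')
    exact_mod_cast (by show _ ≤ l.length; omega : VarDim.dimPt k Z w - VarDim.dimPt k Z x ≤ l'.length)

theorem topDim_closure (w : Z) :
    topologicalKrullDim ↥(closure ({w} : Set Z)) = (VarDim.dimPt k Z w : WithBot ℕ∞) := by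
  rw [QSect.topDim_closure_singleton, VarDim.height_eq_dimPt k]
  rfl


omit [Z.Over (Spec (CommRingCat.of k))] [LocallyOfFiniteType (Z ↘ Spec (CommRingCat.of k))] in
/-- Minimal primes of the support of a stalk are the maximal points of the support. -/
theorem mem_maxPts_iff (x : Z) (Q : PrimeSpectrum (Z.presheaf.stalk x)) :
    Z.fromSpecStalk x Q ∈ maxPts {z : Z | Nontrivial (M.presheaf.stalk z)} ↔
      Q.asIdeal ∈ (Module.annihilator (Z.presheaf.stalk x) (M.presheaf.stalk x)).minimalPrimes := by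
  let i := Z.fromSpecStalk x
  have hle : ∀ a b : PrimeSpectrum (Z.presheaf.stalk x), a.asIdeal ≤ b.asIdeal ↔ i a ⤳ i b := fun a b =>
    (PrimeSpectrum.le_iff_specializes a b).trans i.isEmbedding.specializes_iff.symm
  have hr : ∀ z, z ⤳ x ↔ z ∈ Set.range i := fun z => by
    rw [show Set.range i = {z | z ⤳ x} from Scheme.range_fromSpecStalk]
    rfl
  constructor
  · rintro ⟨hS, hmax⟩
    refine ⟨⟨Q.2, (annihilator_le_iff M x Q).2 hS⟩, fun p ⟨hp, hpann⟩ hpQ => ?_⟩
    have h := hmax _ ((annihilator_le_iff M x ⟨p, hp⟩).1 hpann) ((hle ⟨p, hp⟩ Q).1 hpQ)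
    exact (congrArg PrimeSpectrum.asIdeal (i.isEmbedding.injective h)).ge
  · intro hQ
    refine ⟨(annihilator_le_iff M x Q).1 hQ.1.2, fun w hw hwQ => ?_⟩
    obtain ⟨P, rfl⟩ := (hr w).1 (hwQ.trans ((hr _).2 ⟨Q, rfl⟩))
    have hPQ := (hle P Q).2 hwQ
    have := hQ.2 ⟨P.2, (annihilator_le_iff M x P).2 hw⟩ hPQ
    rw [show P = Q from PrimeSpectrum.ext (le_antisymm hPQ this)]

omit [Z.Over (Spec (CommRingCat.of k))] [LocallyOfFiniteType (Z ↘ Spec (CommRingCat.of k))] in
theorem exists_eq_fromSpecStalk {x w : Z} (h : w ⤳ x) : ∃ Q, Z.fromSpecStalk x Q = w := by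
  have : w ∈ Set.range (Z.fromSpecStalk x) := Scheme.range_fromSpecStalk ▸ h
  exact this

include k in
theorem ringKrullDim_quotient (x : Z) (Q : PrimeSpectrum (Z.presheaf.stalk x)) :
    ringKrullDim (Z.presheaf.stalk x ⧸ Q.asIdeal) =
      ((VarDim.dimPt k Z (Z.fromSpecStalk x Q) - VarDim.dimPt k Z x : ℕ) : WithBot ℕ∞) := by
  have hQ : Z.fromSpecStalk x Q ⤳ x := by
    have : Z.fromSpecStalk x Q ∈ Set.range (Z.fromSpecStalk x) := ⟨Q, rfl⟩
    rwa [Scheme.range_fromSpecStalk] at this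
  rw [GUOpen.ringKrullDim_quotient_stalk, krullDim_between k hQ]

/-- All maximal points of the support through `x` of one dimension: equidimensional at `x`. -/
theorem isEquidimModule_of_forall (x : Z) (n : ℕ)
    (h : ∀ w ∈ maxPts {z : Z | Nontrivial (M.presheaf.stalk z)}, w ⤳ x → VarDim.dimPt k Z w = n) :
    EGA4.IsEquidimModule (Z.presheaf.stalk x) (M.presheaf.stalk x) := by
  haveI := LimTop.TensorQC.finite_stalk M x
  set A := Z.presheaf.stalk x
  set J := Module.annihilator A (M.presheaf.stalk x)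
  have hdim : ∀ p ∈ J.minimalPrimes, ringKrullDim (A ⧸ p) = ((n - VarDim.dimPt k Z x : ℕ) : WithBot ℕ∞) := by
    intro p hp
    have hQ : Z.fromSpecStalk x ⟨p, hp.1.1⟩ ⤳ x := by
      have : Z.fromSpecStalk x ⟨p, hp.1.1⟩ ∈ Set.range (Z.fromSpecStalk x) := ⟨_, rfl⟩
      rwa [Scheme.range_fromSpecStalk] at this
    rw [ringKrullDim_quotient k x ⟨p, hp.1.1⟩, h _ ((mem_maxPts_iff M x ⟨p, hp.1.1⟩).2 hp) hQ]
  intro p hp
  rw [Module.supportDim_eq_ringKrullDim_quotient_annihilator]
  refine le_antisymm (ringKrullDim_le_of_surjective (Ideal.Quotient.factor hp.1.2)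
    (Ideal.Quotient.factor_surjective hp.1.2)) ?_
  rw [hdim p hp, _root_.ringKrullDim_quotient]
  refine iSup_le fun l => ?_
  obtain ⟨q, hq, hql⟩ := Ideal.exists_minimalPrimes_le (show J ≤ l.head.1.asIdeal from l.head.2)
  rw [← hdim q hq, _root_.ringKrullDim_quotient]
  let l' : LTSeries ↥(PrimeSpectrum.zeroLocus (R := A) (q : Set A)) :=
    ⟨l.length, fun i => ⟨(l i).1, fun a ha => (l.head_le i) (hql ha)⟩, fun i => l.step i⟩
  exact Order.LTSeries.length_le_krullDim l'

/-- Equidimensional at `x`: maximal points of the support through `x` have one dimension. -/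
theorem dimPt_eq_of_isEquidimModule (x : Z) (h : EGA4.IsEquidimModule (Z.presheaf.stalk x) (M.presheaf.stalk x))
    {w w' : Z} (hw : w ∈ maxPts {z : Z | Nontrivial (M.presheaf.stalk z)}) (hwx : w ⤳ x)
    (hw' : w' ∈ maxPts {z : Z | Nontrivial (M.presheaf.stalk z)}) (hwx' : w' ⤳ x) :
    VarDim.dimPt k Z w = VarDim.dimPt k Z w' := by
  obtain ⟨Q, rfl⟩ := exists_eq_fromSpecStalk hwx
  obtain ⟨Q', rfl⟩ := exists_eq_fromSpecStalk hwx'
  have h1 := h _ ((mem_maxPts_iff M x Q).1 hw)
  replace h1 := ((ringKrullDim_quotient k x Q).symm.trans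
    (h1.trans (h _ ((mem_maxPts_iff M x Q').1 hw')).symm)).trans (ringKrullDim_quotient k x Q')
  rw [Nat.cast_inj] at h1
  have h2 := (VarDim.exists_ltSeries_of_le k (show x ≤ Z.fromSpecStalk x Q from hwx)).1
  have h3 := (VarDim.exists_ltSeries_of_le k (show x ≤ Z.fromSpecStalk x Q' from hwx')).1
  omega

omit [Z.Over (Spec (CommRingCat.of k))] [LocallyOfFiniteType (Z ↘ Spec (CommRingCat.of k))] in
/-- `(S_1)` at an associated point: it is a maximal point of the support. -/
theorem eq_of_hasSk [IsLocallyNoetherian Z] {j : ℕ} (hj : 1 ≤ j) {a w : Z} (ha : a ∈ AssSch.Ass M)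
    (hsk : LocCoh.HasSk j (Z.presheaf.stalk a) (M.presheaf.stalk a))
    (hw : Nontrivial (M.presheaf.stalk w)) (hwa : w ⤳ a) : w = a := by
  haveI := LimTop.TensorQC.finite_stalk M a
  have h1 : LocCoh.HasSk 1 (Z.presheaf.stalk a) (M.presheaf.stalk a) := fun p _ =>
    le_trans (min_le_min_right _ (by exact_mod_cast hj)) (hsk p)
  have hmin := RegLoc.SupportDim.hasSk_one_iff.1 h1 _ ha
  obtain ⟨Q, rfl⟩ := exists_eq_fromSpecStalk hwa
  have hmax : IsLocalRing.maximalIdeal (Z.presheaf.stalk a) ≤ Q.asIdeal :=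
    hmin.2 ⟨Q.2, (annihilator_le_iff M a Q).2 hw⟩ (IsLocalRing.le_maximalIdeal Q.2.ne_top)
  rw [show Q = IsLocalRing.closedPoint _ from PrimeSpectrum.ext (le_antisymm (IsLocalRing.le_maximalIdeal Q.2.ne_top) hmax)]
  exact Scheme.fromSpecStalk_closedPoint

end Groth.Agent.Fibres16.EquidimStalk
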