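import Groth.Agent.CycLib.Interval
import Groth.Agent.TopDimLib.Basic
import Groth.Prelude.Def_Flat
import Mathlib.Topology.Sober

/-!
# Dimensions of closed subsets of a Jacobson scheme with a dimension function

For a dimension function `δ` vanishing on closed points and a closed set `Y ∋ x`, all of
`dim_x Y`, `dim cl{x} + codim(cl{x}, Y)` and the dimension of the components through `x` are the
maximum of `δ` over the generizations of `x` in `Y`.
-/

set_option autoImplicit false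
set_option linter.style.haveILetI false

universe u

open CategoryTheory AlgebraicGeometry TopologicalSpace

namespace Groth.Agent.Fibres16.JacobsonDim

variable {X : Scheme.{u}}

/-- The dimension of a locally closed subset is computed on the specialisation order. -/
theorem topDim_eq_of_isLocallyClosed {S : Set X} (hS : IsLocallyClosed S) :
    topologicalKrullDim S = Order.krullDim S := by
  obtain ⟨O, C, hO, hC, rfl⟩ := hS
  haveI : QuasiSober (O ∩ C : Set X) := by
    haveI : QuasiSober O := hO.isOpenEmbedding_subtypeVal.quasiSober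
    let j : (O ∩ C : Set X) → O := Set.inclusion Set.inter_subset_left
    have hj : Topology.IsClosedEmbedding j := by
      refine ⟨Topology.IsEmbedding.inclusion _, ?_⟩
      rw [Set.range_inclusion]
      refine isClosed_induced_iff.mpr ⟨C, hC, ?_⟩
      ext ⟨z, hz⟩
      simp [hz]
    exact hj.quasiSober
  exact Order.krullDim_eq_of_orderIso
    { toEquiv := irreducibleSetEquivPoints.toEquiv
      map_rel_iff' := fun {a b} => (subtype_specializes_iff (irreducibleSetEquivPoints b)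
        (irreducibleSetEquivPoints a)).symm.trans irreducibleSetEquivPoints.map_rel_iff' }

/-- Finitely many irreducible closed pieces carry a closed set near a point. -/
theorem exists_nhd [IsLocallyNoetherian X] {Y : Set X} (hY : IsClosed Y) {x : X} (hx : x ∈ Y) :
    ∃ (U : Set X) (G : Finset X), IsOpen U ∧ x ∈ U ∧ (∀ g ∈ G, g ∈ Y ∧ g ⤳ x) ∧
      (∀ y ∈ U ∩ Y, ∃ g ∈ G, g ⤳ y) := by
  classical
  obtain ⟨V, hV, hxV, -⟩ := exists_isAffineOpen_mem_and_subset (X := X) (x := x) (U := ⊤) trivial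
  haveI : IsNoetherianRing Γ(X, V) := IsLocallyNoetherian.component_noetherian ⟨V, hV⟩
  haveI : NoetherianSpace ↥(V : Set X) := noetherianSpace_of_isAffineOpen V hV
  obtain ⟨T, hTfin, hTcl, hTirr, hT⟩ := NoetherianSpace.exists_finite_set_isClosed_irreducible
    (α := ↥(V : Set X)) (s := Subtype.val ⁻¹' Y) (hY.preimage continuous_subtype_val)
  have hirr : ∀ S : T, IsIrreducible (Subtype.val '' (S : Set ↥(V : Set X)) : Set X) := fun S =>
    (hTirr S S.2).image _ continuous_subtype_val.continuousOn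
  let gen : T → X := fun S => (hirr S).genericPoint
  have hgen : ∀ S : T, closure {gen S} = closure (Subtype.val '' (S : Set ↥(V : Set X)) : Set X) :=
    fun S => (hirr S).isGenericPoint_genericPoint_closure
  haveI : Finite T := hTfin.to_subtype
  haveI := Fintype.ofFinite T
  let Bad : Set X := ⋃ S ∈ {S : T | ¬ gen S ⤳ x}, closure {gen S}
  have hBad : IsClosed Bad := (Set.toFinite _).isClosed_biUnion fun _ _ => isClosed_closure
  refine ⟨(V : Set X) \ Bad, (Finset.univ.filter fun S : T => gen S ⤳ x).image gen, V.2.sdiff hBad,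
    ⟨hxV, ?_⟩, ?_, ?_⟩
  · simp only [Bad, Set.mem_iUnion, not_exists]
    exact fun S hS h => hS (specializes_iff_mem_closure.2 h)
  · intro g hg
    obtain ⟨S, hS, rfl⟩ := Finset.mem_image.1 hg
    refine ⟨?_, (Finset.mem_filter.1 hS).2⟩
    have : closure (Subtype.val '' (S : Set ↥(V : Set X)) : Set X) ⊆ Y := by
      refine closure_minimal ?_ hY
      rintro _ ⟨v, hv, rfl⟩
      exact (hT.symm ▸ Set.subset_sUnion_of_mem S.2 hv : v ∈ Subtype.val ⁻¹' Y)
    exact this (hgen S ▸ subset_closure rfl)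
  · rintro y ⟨⟨hyV, hyB⟩, hyY⟩
    have : (⟨y, hyV⟩ : ↥(V : Set X)) ∈ ⋃₀ T := hT ▸ hyY
    obtain ⟨S, hS, hyS⟩ := Set.mem_sUnion.1 this
    have hy : gen ⟨S, hS⟩ ⤳ y := specializes_iff_mem_closure.2
      (hgen ⟨S, hS⟩ ▸ subset_closure ⟨_, hyS, rfl⟩)
    refine ⟨_, Finset.mem_image.2 ⟨⟨S, hS⟩, Finset.mem_filter.2 ⟨Finset.mem_univ _, ?_⟩, rfl⟩, hy⟩
    by_contra hn
    exact hyB (Set.mem_biUnion (show (⟨S, hS⟩ : T) ∈ {S : T | ¬ gen S ⤳ x} from hn)
      (specializes_iff_mem_closure.1 hy))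

variable [IsLocallyNoetherian X] [JacobsonSpace X] {δ : X → ℤ} (hd : Cyc.IsDimFun X δ)
  (h0 : ∀ x : X, IsClosed ({x} : Set X) → δ x = 0)
include hd h0

/-- The largest value of `δ` on generizations in a closed set is attained. -/
theorem exists_top {Y : Set X} (hY : IsClosed Y) {x : X} (hx : x ∈ Y) :
    ∃ ξ ∈ Y, ξ ⤳ x ∧ ∀ η ∈ Y, η ⤳ x → δ η ≤ δ ξ := by
  classical
  obtain ⟨U, G, hU, hxU, hG, hcov⟩ := exists_nhd hY hx
  obtain ⟨g₀, hg₀, -⟩ := hcov x ⟨hxU, hx⟩
  obtain ⟨ξ, hξ, hmax⟩ := G.exists_max_image δ ⟨g₀, hg₀⟩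
  refine ⟨ξ, (hG ξ hξ).1, (hG ξ hξ).2, fun η hη hηx => ?_⟩
  obtain ⟨g, hg, hgη⟩ := hcov η ⟨hηx.mem_open hU hxU, hη⟩
  exact (CycLib.le_of_specializes hd hgη).trans (hmax g hg)

theorem topDim_closure (ξ : X) :
    topologicalKrullDim ↥(closure ({ξ} : Set X)) = ((δ ξ).toNat : WithBot ℕ∞) := by
  rw [CycLib.topologicalKrullDim_closure, (CycLib.height_eq hd h0 ξ).2]
  rfl

/-- Generizations in a closed set. -/
theorem topDim_gen {Y : Set X} (hY : IsClosed Y) {x ξ : X} (hξ : ξ ∈ Y) (hξx : ξ ⤳ x)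
    (hmax : ∀ η ∈ Y, η ⤳ x → δ η ≤ δ ξ) :
    topologicalKrullDim ↥{t : X | t ∈ Y ∧ t ⤳ x} = ((δ ξ - δ x).toNat : WithBot ℕ∞) := by
  haveI : QuasiSober ↥{t : X | t ∈ Y ∧ t ⤳ x} := ⟨fun {Z} hZ hZc => by
    have hi : IsIrreducible (Subtype.val '' Z : Set X) := hZ.image _ continuous_subtype_val.continuousOn
    have hg := hi.isGenericPoint_genericPoint_closure
    obtain ⟨z, hz⟩ := hZ.1
    have h1 : hi.genericPoint ⤳ (z : X) := hg.specializes (subset_closure ⟨z, hz, rfl⟩)
    have h2 : closure (Subtype.val '' Z : Set X) ⊆ Y := by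
      refine closure_minimal ?_ hY
      rintro _ ⟨w, -, rfl⟩
      exact w.2.1
    have hgA : hi.genericPoint ∈ {t : X | t ∈ Y ∧ t ⤳ x} := ⟨h2 hg.mem, h1.trans z.2.2⟩
    refine ⟨⟨hi.genericPoint, hgA⟩, ?_⟩
    rw [isGenericPoint_def]
    ext w
    rw [closure_subtype, Set.image_singleton, hg.def, ← closure_subtype, hZc.closure_eq]⟩
  have hk : topologicalKrullDim ↥{t : X | t ∈ Y ∧ t ⤳ x} = Order.krullDim ↥{t : X | t ∈ Y ∧ t ⤳ x} :=
    Order.krullDim_eq_of_orderIso
      { toEquiv := irreducibleSetEquivPoints.toEquiv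
        map_rel_iff' := fun {a b} => (subtype_specializes_iff (irreducibleSetEquivPoints b)
          (irreducibleSetEquivPoints a)).symm.trans irreducibleSetEquivPoints.map_rel_iff' }
  rw [hk]
  refine le_antisymm (iSup_le fun l => ?_) ?_
  · let t : LTSeries X := l.map Subtype.val fun _ _ hab => hab
    have h1 := CycLib.length_le hd t
    have h2 : δ x ≤ δ t.head := CycLib.le_of_specializes hd l.head.2.2
    have h3 : δ t.last ≤ δ ξ := hmax _ l.last.2.1 l.last.2.2
    have ht : t.length = l.length := rfl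
    exact_mod_cast (show l.length ≤ (δ ξ - δ x).toNat by omega)
  · obtain ⟨s, hl, hh, hlast⟩ := CycLib.exists_series hd (δ ξ - δ x).toNat x hξx
      (by have := CycLib.le_of_specializes hd hξx; omega)
    let t : LTSeries ↥{t : X | t ∈ Y ∧ t ⤳ x} :=
      { length := s.length
        toFun := fun i => ⟨s i, (show ξ ⤳ s i from hlast ▸ s.monotone (Fin.le_last i)).mem_closed hY hξ,
          (show s i ⤳ x from hh ▸ s.monotone (Fin.zero_le i))⟩
        step := fun i => s.step i }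
    exact le_of_eq_of_le (by rw [← hl]) (le_iSup (fun p : LTSeries ↥{t : X | t ∈ Y ∧ t ⤳ x} => (p.length : WithBot ℕ∞)) t)

theorem le_topDim_inter {Y : Set X} (hY : IsClosed Y) {U : Set X} (hU : IsOpen U) {x ξ : X} (hxU : x ∈ U)
    (hξ : ξ ∈ Y) (hξx : ξ ⤳ x) : ((δ ξ).toNat : WithBot ℕ∞) ≤ topologicalKrullDim ↥(U ∩ Y) := by
  rw [topDim_eq_of_isLocallyClosed ⟨U, Y, hU, hY, rfl⟩]
  obtain ⟨z, ⟨hzU, hzx⟩, hzc⟩ := nonempty_inter_closedPoints (Z := U ∩ closure ({x} : Set X))
    ⟨x, hxU, subset_closure rfl⟩ (hU.isLocallyClosed.inter isClosed_closure.isLocallyClosed)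
  have hξz : ξ ⤳ z := hξx.trans (specializes_iff_mem_closure.2 hzx)
  have hz0 := h0 z (mem_closedPoints_iff.1 hzc)
  have hnn := (CycLib.height_eq hd h0 ξ).1
  obtain ⟨s, hl, hh, hlast⟩ := CycLib.exists_series hd (δ ξ).toNat z hξz (by rw [hz0]; omega)
  let t : LTSeries ↥(U ∩ Y) :=
    { length := s.length
      toFun := fun i => ⟨s i, (show s i ⤳ z from hh ▸ s.monotone (Fin.zero_le i)).mem_open hU hzU,
        (show ξ ⤳ s i from hlast ▸ s.monotone (Fin.le_last i)).mem_closed hY hξ⟩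
      step := fun i => s.step i }
  exact le_of_eq_of_le (by rw [← hl]) (le_iSup (fun p : LTSeries ↥(U ∩ Y) => (p.length : WithBot ℕ∞)) t)

theorem topDim_inter_le {Y : Set X} (hY : IsClosed Y) {U : Set X} (hU : IsOpen U) {x : X} {ξ : X}
    (hmax : ∀ η ∈ Y, η ⤳ x → δ η ≤ δ ξ) (hcov : ∀ y ∈ U ∩ Y, ∃ g ∈ Y, g ⤳ x ∧ g ⤳ y) :
    topologicalKrullDim ↥(U ∩ Y) ≤ ((δ ξ).toNat : WithBot ℕ∞) := by
  rw [topDim_eq_of_isLocallyClosed ⟨U, Y, hU, hY, rfl⟩]
  refine iSup_le fun l => ?_
  let t : LTSeries X := l.map Subtype.val fun _ _ hab => hab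
  have h1 := CycLib.length_le hd t
  obtain ⟨g, hgY, hgx, hgy⟩ := hcov _ l.last.2
  have h2 : δ t.last ≤ δ g := CycLib.le_of_specializes hd hgy
  have h3 := hmax g hgY hgx
  have h4 := (CycLib.height_eq hd h0 t.head).1
  have ht : t.length = l.length := rfl
  exact_mod_cast (show l.length ≤ (δ ξ).toNat by omega)

/-- The local dimension of a closed set. -/
theorem localDim_eq {Y : Set X} (hY : IsClosed Y) {x ξ : X} (hx : x ∈ Y) (hξ : ξ ∈ Y) (hξx : ξ ⤳ x)
    (hmax : ∀ η ∈ Y, η ⤳ x → δ η ≤ δ ξ) :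
    FlatMor.localDim ↥Y ⟨x, hx⟩ = ((δ ξ).toNat : WithBot ℕ∞) := by
  have key : ∀ U : Set X, IsOpen U →
      topologicalKrullDim ↥(Subtype.val ⁻¹' U : Set ↥Y) = topologicalKrullDim ↥(U ∩ Y) := by
    intro U _
    let e : ↥(Subtype.val ⁻¹' U : Set ↥Y) ≃ₜ ↥(U ∩ Y) :=
      { toFun := fun z => ⟨z.1.1, z.2, z.1.2⟩
        invFun := fun z => ⟨⟨z.1, z.2.2⟩, z.2.1⟩
        left_inv := fun _ => rfl
        right_inv := fun _ => rfl
        continuous_toFun := (continuous_subtype_val.comp continuous_subtype_val).subtype_mk _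
        continuous_invFun := (continuous_subtype_val.subtype_mk _).subtype_mk _ }
    exact IsHomeomorph.topologicalKrullDim_eq _ e.isHomeomorph
  refine le_antisymm ?_ (le_iInf fun W => ?_)
  · obtain ⟨U, G, hU, hxU, hG, hcov⟩ := exists_nhd hY hx
    refine (TopDimLib.localDim_le (x := (⟨x, hx⟩ : ↥Y)) (hU.preimage continuous_subtype_val) hxU).trans ?_
    rw [key U hU]
    refine topDim_inter_le hd h0 hY hU hmax fun y hy => ?_
    obtain ⟨g, hg, hgy⟩ := hcov y hy
    exact ⟨g, (hG g hg).1, (hG g hg).2, hgy⟩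
  · obtain ⟨U, hU, hUW⟩ := isOpen_induced_iff.1 W.1.2
    show _ ≤ topologicalKrullDim ↥(W.1 : Set ↥Y)
    rw [show ((W.1 : TopologicalSpace.Opens ↥Y) : Set ↥Y) = Subtype.val ⁻¹' U from hUW.symm, key U hU]
    exact le_topDim_inter hd h0 hY hU (hUW.symm.le W.2 : x ∈ U) hξ hξx

/-- The components through a point. -/
theorem iSup_components {Y : Set X} (hY : IsClosed Y) {x ξ : X} (hx : x ∈ Y) (hξ : ξ ∈ Y) (hξx : ξ ⤳ x)
    (hmax : ∀ η ∈ Y, η ⤳ x → δ η ≤ δ ξ) :
    (⨆ C ∈ {C : Set ↥Y | C ∈ irreducibleComponents ↥Y ∧ (⟨x, hx⟩ : ↥Y) ∈ C}, topologicalKrullDim ↥C) =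
      ((δ ξ).toNat : WithBot ℕ∞) := by
  have key : ∀ C : Set ↥Y, IsClosed C → IsIrreducible C → ∃ g, closure ({g} : Set X) = Subtype.val '' C ∧
      topologicalKrullDim ↥C = ((δ g).toNat : WithBot ℕ∞) := by
    intro C hCc hCi
    have hi : IsIrreducible (Subtype.val '' C : Set X) := hCi.image _ continuous_subtype_val.continuousOn
    have hc : IsClosed (Subtype.val '' C : Set X) := hY.isClosedEmbedding_subtypeVal.isClosedMap _ hCc
    refine ⟨hi.genericPoint, hi.isGenericPoint_genericPoint_closure.def.trans hc.closure_eq, ?_⟩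
    rw [← topDim_closure hd h0]
    have e1 := hY.isClosedEmbedding_subtypeVal.isEmbedding.homeomorphImage C
    have e2 : (Subtype.val '' C : Set X) = closure {hi.genericPoint} :=
      (hi.isGenericPoint_genericPoint_closure.def.trans hc.closure_eq).symm
    exact IsHomeomorph.topologicalKrullDim_eq _ (e1.trans (Homeomorph.setCongr e2)).isHomeomorph
  refine le_antisymm (iSup₂_le fun C hC => ?_) ?_
  · obtain ⟨g, hg, hdim⟩ := key C (isClosed_of_mem_irreducibleComponents C hC.1) hC.1.1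
    rw [hdim]
    have hxg : x ∈ closure ({g} : Set X) := hg.symm ▸ ⟨_, hC.2, rfl⟩
    have hgY : g ∈ Y := by
      obtain ⟨c, -, hc⟩ : g ∈ Subtype.val '' C := hg ▸ subset_closure rfl
      exact hc ▸ c.2
    exact_mod_cast Int.toNat_le_toNat (hmax g hgY (specializes_iff_mem_closure.2 hxg))
  · obtain ⟨C, hC, hCξ⟩ := exists_mem_irreducibleComponents_subset_of_isIrreducible
      (closure {(⟨ξ, hξ⟩ : ↥Y)}) isIrreducible_singleton.closure
    have hxC : (⟨x, hx⟩ : ↥Y) ∈ C := hCξ (specializes_iff_mem_closure.1 (subtype_specializes_iff _ _ |>.2 hξx))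
    obtain ⟨g, hg, hdim⟩ := key C (isClosed_of_mem_irreducibleComponents C hC) hC.1
    refine le_trans ?_ (le_iSup₂ (f := fun (C : Set ↥Y) _ => topologicalKrullDim ↥C) C ⟨hC, hxC⟩)
    rw [hdim]
    have hgξ : g ⤳ ξ := specializes_iff_mem_closure.2 (hg.symm ▸ ⟨_, hCξ (subset_closure rfl), rfl⟩)
    exact_mod_cast Int.toNat_le_toNat (CycLib.le_of_specializes hd hgξ)

end Groth.Agent.Fibres16.JacobsonDim
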