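import Groth.Agent.FittLib.Rank
import Groth.Agent.FlatOpen.Scheme
import Groth.Agent.FlatSect.Basic
import Groth.Agent.CycLib.ModStalk
import Groth.Agent.Props.QFP
import Mathlib.RingTheory.Spectrum.Prime.Chevalley
import Mathlib.RingTheory.Nakayama
import Mathlib.RingTheory.Ideal.MinimalPrime.Localization

/-!
# The support of a flat finitely presented module maps openly to the base
-/

set_option autoImplicit false
set_option linter.style.haveILetI false

universe u

open TopologicalSpace
open scoped TensorProduct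

namespace Groth.Agent.Fibres16.SuppOpen

section Algebra

variable {B : Type u} [CommRing B] (N : Type u) [AddCommGroup N] [Module B N] [Module.FinitePresentation B N]

/-- The zeroth Fitting ideal of a finitely presented module is finitely generated. -/
theorem fg_fitting_zero : (Fitt.ideal B N 0).FG := by
  classical
  obtain ⟨n, x, hx⟩ := Module.Finite.exists_fin (R := B) (M := N)
  let l : (Fin n → B) →ₗ[B] N := Fintype.linearCombination B x
  have hl : Function.Surjective l := by
    rw [← LinearMap.range_eq_top, Fintype.range_linearCombination, hx]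
  obtain ⟨s, hs⟩ := Module.FinitePresentation.fg_ker l hl
  let D : Set B := Set.range fun r : Fin n → ↥s => Matrix.det (Matrix.of fun i => (r i : Fin n → B))
  suffices Fitt.ideal B N 0 = Ideal.span D by
    rw [this]; exact Submodule.fg_span (Set.finite_range _)
  rw [FittLib.ideal_eq_G x hx 0]
  refine le_antisymm (Ideal.span_le.mpr ?_) (Ideal.span_le.mpr ?_)
  · rintro _ ⟨a, ha, rfl⟩
    refine FittLib.det_mem_of_rows (Ideal.span D) (fun _ => (s : Set (Fin n → B))) (fun b hb => ?_)
      Finset.univ a (fun i _ => ?_) fun i hi => absurd (Finset.mem_univ i) hi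
    · exact Ideal.subset_span ⟨fun i => ⟨b i, hb i⟩, rfl⟩
    · rw [hs, LinearMap.mem_ker]
      simpa [l, Fintype.linearCombination_apply] using ha i (by simp)
  · rintro _ ⟨r, rfl⟩
    refine Ideal.subset_span ⟨_, fun i _ => ?_, rfl⟩
    have h : (r i : Fin n → B) ∈ LinearMap.ker l := hs ▸ Submodule.subset_span (r i).2
    simpa [l, Fintype.linearCombination_apply] using LinearMap.mem_ker.mp h

/-- The support of a finitely presented module is constructible. -/
theorem isConstructible_support : Topology.IsConstructible (Module.support B N) := by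
  rw [← FittLib.zeroLocus_ideal_zero, ← Topology.isConstructible_compl]
  obtain ⟨s, hs⟩ := fg_fitting_zero (B := B) N
  rw [← hs, PrimeSpectrum.zeroLocus_span]
  have hc := (PrimeSpectrum.isCompact_isOpen_iff (R := B) (s := (PrimeSpectrum.zeroLocus (s : Set B))ᶜ)).mpr ⟨s, rfl⟩
  exact hc.1.isConstructible hc.2

variable {A : Type u} [CommRing A] [Algebra A B] [Module A N] [IsScalarTower A B N] [Module.Flat A N]

/-- Going down for the support of a flat module. -/
theorem exists_le_of_le (q : PrimeSpectrum B) (hq : q ∈ Module.support B N) (p : Ideal A) [p.IsPrime]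
    (hp : p ≤ q.asIdeal.under A) :
    ∃ q' : PrimeSpectrum B, q'.asIdeal ≤ q.asIdeal ∧ q' ∈ Module.support B N ∧ q'.asIdeal.under A = p := by
  let P : Submodule B N := p.map (algebraMap A B) • ⊤
  -- a class which survives at q
  obtain ⟨n, hn⟩ : ∃ n : N, ∀ s : B, s ∉ q.asIdeal → s • n ∉ P := by
    by_contra hne
    push Not at hne
    let L := Localization.AtPrime q.asIdeal
    let Nq := LocalizedModule q.asIdeal.primeCompl N
    have hle : (⊤ : Submodule L Nq) ≤ IsLocalRing.maximalIdeal L • ⊤ := by
      intro z _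
      induction z using LocalizedModule.induction_on with
      | h m s =>
        obtain ⟨t, ht, htm⟩ := hne m
        have hu : IsUnit (algebraMap B L t) := IsLocalization.map_units L (⟨t, ht⟩ : q.asIdeal.primeCompl)
        rw [← Submodule.smul_mem_iff_of_isUnit _ hu, algebraMap_smul, LocalizedModule.smul'_mk]
        have key : ∀ y ∈ P, ∀ s : q.asIdeal.primeCompl, LocalizedModule.mk y s ∈ IsLocalRing.maximalIdeal L • (⊤ : Submodule L Nq) := by
          intro y hy
          refine Submodule.smul_induction_on hy (fun b hb m _ s => ?_) fun a b ha hb s => ?_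
          · rw [← LocalizedModule.smul'_mk, ← algebraMap_smul L b (LocalizedModule.mk m s)]
            refine Submodule.smul_mem_smul ?_ Submodule.mem_top
            refine (IsLocalization.AtPrime.to_map_mem_maximal_iff L q.asIdeal b).mpr ?_
            exact Ideal.map_le_iff_le_comap.mpr hp hb
          · rw [show LocalizedModule.mk (a + b) s = LocalizedModule.mk a s + LocalizedModule.mk b s by
              rw [LocalizedModule.mk_add_mk, ← smul_add, LocalizedModule.mk_cancel_common_left]]
            exact add_mem (ha s) (hb s)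
        exact key _ htm s
    have hnt : Nontrivial Nq := hq
    obtain ⟨r, hr, hr0⟩ := Submodule.exists_sub_one_mem_and_smul_eq_zero_of_fg_of_le_smul _ _ Module.Finite.fg_top hle
    have hu : IsUnit r := by
      by_contra hnu
      exact (IsLocalRing.maximalIdeal.isMaximal L).ne_top ((Ideal.eq_top_iff_one _).mpr (by
        have := sub_mem (show r ∈ IsLocalRing.maximalIdeal L from hnu) hr
        rwa [sub_sub_cancel] at this))
    obtain ⟨z, hz⟩ := exists_ne (0 : Nq)
    exact hz (hu.smul_eq_zero.mp (hr0 z Submodule.mem_top))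
  let J : Ideal B := P.colon {n}
  have hJq : J ≤ q.asIdeal := fun s hs => by
    by_contra hsq
    exact hn s hsq (Submodule.mem_colon_singleton.mp hs)
  obtain ⟨Q, hQ, hQq⟩ := Ideal.exists_minimalPrimes_le hJq
  haveI := hQ.1.1
  refine ⟨⟨Q, hQ.1.1⟩, hQq, ?_, le_antisymm (fun a ha => ?_) fun a ha => ?_⟩
  · rw [Module.mem_support_iff_of_finite]
    intro b hb
    refine hQ.1.2 (Submodule.mem_colon_singleton.mpr ?_)
    rw [Module.mem_annihilator.mp hb n]; exact zero_mem _
  · by_contra hap
    let π := Ideal.Quotient.mk J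
    have hreg : π (algebraMap A B a) ∈ nonZeroDivisors (B ⧸ J) := by
      refine mem_nonZeroDivisors_iff_right.mpr fun b hb => ?_
      obtain ⟨b, rfl⟩ := Ideal.Quotient.mk_surjective b
      rw [← map_mul, Ideal.Quotient.eq_zero_iff_mem, Submodule.mem_colon_singleton, mul_comm, mul_smul,
        algebraMap_smul] at hb
      rw [Ideal.Quotient.eq_zero_iff_mem, Submodule.mem_colon_singleton]
      have hPA : ∀ y : N, y ∈ P ↔ y ∈ (p • ⊤ : Submodule A N) := fun y => by
        rw [← Submodule.restrictScalars_mem A, Ideal.smul_restrictScalars, Submodule.restrictScalars_top]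
      rw [hPA] at hb ⊢
      haveI : Module.Flat (A ⧸ p) (N ⧸ (p • ⊤ : Submodule A N)) :=
        Module.Flat.of_linearEquiv (M := (A ⧸ p) ⊗[A] N)
          ((TensorProduct.quotTensorEquivQuotSMul N p).extendScalarsOfSurjective Ideal.Quotient.mk_surjective).symm
      have h0 : Ideal.Quotient.mk p a • Submodule.Quotient.mk (p := (p • ⊤ : Submodule A N)) (b • n) = 0 := by
        rw [← Ideal.Quotient.algebraMap_eq, algebraMap_smul, ← Submodule.Quotient.mk_smul,
          Submodule.Quotient.mk_eq_zero]
        exact hb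
      haveI : IsDomain (A ⧸ p) := Ideal.Quotient.isDomain p
      haveI : Module.IsTorsionFree (A ⧸ p) (N ⧸ (p • ⊤ : Submodule A N)) := Module.Flat.isTorsionFree
      have hne : Ideal.Quotient.mk p a ≠ 0 := by rwa [Ne, Ideal.Quotient.eq_zero_iff_mem]
      exact (Submodule.Quotient.mk_eq_zero _).mp ((smul_eq_zero_iff_right hne).mp h0)
    have hQm : Q.map π ∈ minimalPrimes (B ⧸ J) := by
      rw [Ideal.minimalPrimes_eq_comap] at hQ
      obtain ⟨Q', hQ', rfl⟩ := hQ
      rwa [Ideal.map_comap_of_surjective _ Ideal.Quotient.mk_surjective]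
    exact (Ideal.disjoint_nonZeroDivisors_of_mem_minimalPrimes hQm).le_bot
      ⟨Ideal.mem_map_of_mem π (show algebraMap A B a ∈ Q from ha), hreg⟩
  · refine hQ.1.2 (Submodule.mem_colon_singleton.mpr ?_)
    exact Submodule.smul_mem_smul (Ideal.mem_map_of_mem _ ha) Submodule.mem_top

/-- The image of an open subset of the support is open. -/
theorem isOpen_image_support_inter [Algebra.FinitePresentation A B] (g : B) :
    IsOpen (PrimeSpectrum.comap (algebraMap A B) '' (Module.support B N ∩ PrimeSpectrum.basicOpen g)) := by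
  refine PrimeSpectrum.isOpen_of_stableUnderGeneralization_of_isConstructible ?_
    (PrimeSpectrum.isConstructible_comap_image (RingHom.finitePresentation_algebraMap.mpr ‹_›)
      ((isConstructible_support N).inter PrimeSpectrum.isConstructible_basicOpen))
  rintro y p hpy ⟨q, ⟨hq, hqg⟩, rfl⟩
  obtain ⟨q', hq'q, hq'N, hq'p⟩ := exists_le_of_le N q hq p.asIdeal ((PrimeSpectrum.le_iff_specializes p _).mpr hpy)
  exact ⟨q', ⟨hq'N, fun h => hqg (hq'q h)⟩, PrimeSpectrum.ext hq'p⟩

end Algebra

section Scheme

open CategoryTheory AlgebraicGeometry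

variable {X Y : Scheme.{u}} (f : X ⟶ Y) [LocallyOfFinitePresentation f] (F : X.Modules)

/-- EGA IV 2.4.6 for modules: the support of a flat finitely presented module maps openly. -/
theorem isOpen_image_support (hF : CohB1.IsFP F) (hflat : FlatMod.IsFlatOver f F) {W : Set X} (hW : IsOpen W) :
    IsOpen (f.base '' (W ∩ {x : X | Nontrivial (F.presheaf.stalk x)})) := by
  haveI : SheafOfModules.IsFinitePresentation.{u} F := hF
  haveI : F.IsQuasicoherent := by
    obtain ⟨σ, -⟩ := SheafOfModules.IsFinitePresentation.exists_quasicoherentData.{u} F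
    exact { nonempty_quasicoherentData := ⟨σ⟩ }
  rw [isOpen_iff_forall_mem_open]
  rintro _ ⟨x, ⟨hxW, hxS⟩, rfl⟩
  obtain ⟨V, U, hV, hU, e, hxU⟩ := FlatSect.exists_chart f x
  letI := (f.appLE V U e).hom.toAlgebra
  letI : Module Γ(Y, V) Γ(F, U) := Module.compHom _ (f.appLE V U e).hom
  haveI : IsScalarTower Γ(Y, V) Γ(X, U) Γ(F, U) := IsScalarTower.of_algebraMap_smul fun _ _ => rfl
  haveI : Algebra.FinitePresentation Γ(Y, V) Γ(X, U) := f.finitePresentation_appLE hV hU e
  haveI : Module.FinitePresentation Γ(X, U) Γ(F, U) := Props.QFP.finitePresentation_sections_of_isFP F hU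
  haveI : Module.Flat Γ(Y, V) Γ(F, U) := FlatSect.flat_sections_of_isFlatOverAt f hV hU e F fun x _ => hflat x
  obtain ⟨g, hgW, hxg⟩ := hU.exists_basicOpen_le (V := ⟨W, hW⟩) ⟨x, hxW⟩ hxU
  have hopen := isOpen_image_support_inter (B := Γ(X, U)) (A := Γ(Y, V)) Γ(F, U) g
  have hsupp : ∀ q : PrimeSpectrum Γ(X, U), q ∈ Module.support Γ(X, U) Γ(F, U) ↔
      Nontrivial (F.presheaf.stalk (hU.fromSpec q)) := fun q => by
    have hqU : hU.fromSpec q ∈ U := hU.range_fromSpec.subset ⟨q, rfl⟩
    have hq : hU.primeIdealOf ⟨_, hqU⟩ = q :=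
      hU.fromSpec.isOpenEmbedding.injective (hU.fromSpec_primeIdealOf _)
    rw [CycLib.nontrivial_stalk_iff F hU hqU, hq, Module.mem_support_iff_of_finite]
  have hcomm : ∀ q : PrimeSpectrum Γ(X, U),
      hV.fromSpec (PrimeSpectrum.comap (algebraMap Γ(Y, V) Γ(X, U)) q) = f (hU.fromSpec q) := fun q =>
    congrArg (fun h : Spec Γ(X, U) ⟶ Y => h q) (IsAffineOpen.SpecMap_appLE_fromSpec f hV hU e)
  refine ⟨hV.fromSpec '' (PrimeSpectrum.comap (algebraMap Γ(Y, V) Γ(X, U)) ''
    (Module.support Γ(X, U) Γ(F, U) ∩ PrimeSpectrum.basicOpen g)), ?_, hV.fromSpec.isOpenEmbedding.isOpenMap _ hopen, ?_⟩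
  · rintro _ ⟨_, ⟨q, ⟨hqS, hqg⟩, rfl⟩, rfl⟩
    refine ⟨hU.fromSpec q, ⟨hgW ?_, (hsupp q).mp hqS⟩, (hcomm q).symm⟩
    have : hU.fromSpec q ∈ hU.fromSpec '' (PrimeSpectrum.basicOpen g : Set (PrimeSpectrum Γ(X, U))) := ⟨q, hqg, rfl⟩
    exact (hU.fromSpec_image_basicOpen g).le this
  · have hx' : x ∈ hU.fromSpec '' (PrimeSpectrum.basicOpen g : Set (PrimeSpectrum Γ(X, U))) := by
      exact (hU.fromSpec_image_basicOpen g).ge hxg
    obtain ⟨q, hq, rfl⟩ := hx'
    exact ⟨_, ⟨q, ⟨(hsupp q).mpr hxS, hq⟩, rfl⟩, hcomm q⟩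

end Scheme

end Groth.Agent.Fibres16.SuppOpen
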