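import Mathlib
import Groth.Agent.Milnor.Ramification
import Groth.Agent.Nagata.CompleteLocal
import Groth.Agent.DVRDom.Basic
import Groth.Agent.CAlgLib.ResidueExt
import Groth.Agent.RegLoc.Completion
import Groth.Agent.Hensel.Pair

/-!
# Quasi-sections over complete discrete valuation rings
-/

set_option autoImplicit false
set_option linter.style.haveILetI false

universe u

open IsLocalRing

namespace Groth.Agent.Fibres16.DVRQuasiSection

variable (A : Type u) [CommRing A] [IsDomain A] [IsDiscreteValuationRing A]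

section Isolated

variable {A} {C : Type u} [CommRing C] [IsDomain C] [Algebra A C] [IsNoetherianRing C]

/-- If every nonzero prime inside the maximal `P` contains `t`, then `P` is a minimal prime over `t`. -/
theorem mem_minimalPrimes_of_forall {t : C} (P : Ideal C) [P.IsPrime] (ht : t ∈ P) (ht0 : t ≠ 0)
    (h : ∀ r : Ideal C, r.IsPrime → r ≤ P → r ≠ ⊥ → t ∈ r) : P ∈ (Ideal.span {t}).minimalPrimes := by
  by_contra hP
  have hle : Ideal.span {t} ≤ P := (Ideal.span_singleton_le_iff_mem _).2 ht
  have hfin : (Ideal.span {t}).minimalPrimes.Finite := Ideal.finite_minimalPrimes_of_isNoetherianRing C _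
  obtain ⟨b, hbP, hb⟩ : ∃ b ∈ P, ∀ r ∈ (Ideal.span {t}).minimalPrimes, b ∉ r := by
    by_contra! hcon
    obtain ⟨r, hr, hPr⟩ := (Ideal.subset_union_prime (f := id) (s := hfin.toFinset) ⊥ ⊥
      (fun r hr _ _ => (hfin.mem_toFinset.1 hr).1.1)).1 (fun b hb => by
        obtain ⟨r, hr, hbr⟩ := hcon b hb
        exact Set.mem_biUnion (hfin.mem_toFinset.2 hr) hbr)
    have hr' := hfin.mem_toFinset.1 hr
    exact hP ⟨⟨‹_›, hle⟩, fun q hq hqP => hPr.trans (hr'.2 hq (hqP.trans hPr))⟩
  obtain ⟨r, hr, hrP⟩ := Ideal.exists_minimalPrimes_le ((Ideal.span_singleton_le_iff_mem _).2 hbP : Ideal.span {b} ≤ P)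
  haveI := hr.1.1
  have hb0 : b ≠ 0 := fun h0 => by
    obtain ⟨m, hm, -⟩ := Ideal.exists_minimalPrimes_le hle
    exact hb m hm (h0 ▸ zero_mem _)
  have hbr : b ∈ r := hr.1.2 (Ideal.mem_span_singleton_self b)
  have htr := h r hr.1.1 hrP fun h0 => hb0 (Ideal.mem_bot.1 (h0 ▸ hbr))
  obtain ⟨m, hm, hmr⟩ := Ideal.exists_minimalPrimes_le ((Ideal.span_singleton_le_iff_mem _).2 htr : Ideal.span {t} ≤ r)
  haveI := hm.1.1
  have hne : m ≠ r := fun he => hb m hm (he ▸ hbr)
  have h1 : m.height < r.height := Ideal.height_strict_mono_of_isPrime (lt_of_le_of_ne hmr hne)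
  have h2 : r.height ≤ 1 := Ideal.height_le_one_of_isPrincipal_of_mem_minimalPrimes (Ideal.span {b}) r hr
  have h3 : m.height ≠ 0 := fun h0 => ht0 (by
    rw [Ideal.height_eq_zero_iff_eq_bot] at h0
    exact Ideal.mem_bot.1 (h0 ▸ hm.1.2 (Ideal.mem_span_singleton_self t)))
  exact absurd (lt_of_lt_of_le h1 h2) (by rw [not_lt]; exact Order.one_le_iff_ne_zero.2 h3)

variable [Algebra.FiniteType A C]

/-- A maximal ideal over the closed point below which only `0` avoids the uniformizer is quasi-finite. -/
theorem quasiFiniteAt_of_forall {ϖ : A} (hϖ : maximalIdeal A = Ideal.span {ϖ}) (P : Ideal C) [P.IsMaximal]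
    (hPA : P.comap (algebraMap A C) = maximalIdeal A) (h0 : algebraMap A C ϖ ≠ 0)
    (h : ∀ r : Ideal C, r.IsPrime → r ≤ P → r ≠ ⊥ → algebraMap A C ϖ ∈ r) :
    Algebra.QuasiFiniteAt A P := by
  have htP : algebraMap A C ϖ ∈ P := by
    have : ϖ ∈ P.comap (algebraMap A C) := hPA ▸ hϖ ▸ Ideal.mem_span_singleton_self ϖ
    exact this
  have hmin := mem_minimalPrimes_of_forall P htP h0 h
  have hfin : (Ideal.span {algebraMap A C ϖ}).minimalPrimes.Finite := Ideal.finite_minimalPrimes_of_isNoetherianRing C _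
  let Z : Set (PrimeSpectrum C) :=
    ⋃ r ∈ (Ideal.span {algebraMap A C ϖ}).minimalPrimes \ {P}, PrimeSpectrum.zeroLocus (r : Set C)
  have hZ : IsClosed Z := (hfin.subset fun r hr => hr.1).isClosed_biUnion fun r _ => PrimeSpectrum.isClosed_zeroLocus _
  let P₀ : PrimeSpectrum C := ⟨P, inferInstance⟩
  refine Algebra.QuasiFiniteAt.of_isOpen_singleton_fiber P₀ (isOpen_induced_iff.mpr ⟨Zᶜ, hZ.isOpen_compl, ?_⟩)
  ext ⟨z, hz⟩
  simp only [Set.mem_preimage, Set.mem_compl_iff, Set.mem_singleton_iff, Subtype.mk.injEq]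
  constructor
  · intro hzZ
    have hzA : z.asIdeal.comap (algebraMap A C) = maximalIdeal A :=
      (congrArg PrimeSpectrum.asIdeal (show PrimeSpectrum.comap (algebraMap A C) z = PrimeSpectrum.comap (algebraMap A C) P₀ from hz)).trans hPA
    have hϖz : algebraMap A C ϖ ∈ z.asIdeal := by
      have : ϖ ∈ z.asIdeal.comap (algebraMap A C) := hzA ▸ hϖ ▸ Ideal.mem_span_singleton_self ϖ
      exact this
    obtain ⟨r, hr, hrz⟩ := Ideal.exists_minimalPrimes_le ((Ideal.span_singleton_le_iff_mem _).2 hϖz)
    by_cases hrP : r = P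
    · exact PrimeSpectrum.ext ((Ideal.IsMaximal.eq_of_le ‹P.IsMaximal› z.isPrime.ne_top (hrP ▸ hrz)).symm)
    · exact absurd (Set.mem_biUnion (show r ∈ (Ideal.span {algebraMap A C ϖ}).minimalPrimes \ {P} from ⟨hr, hrP⟩) hrz) hzZ
  · rintro rfl hzZ
    obtain ⟨r, hr, hrz⟩ := Set.mem_iUnion₂.1 hzZ
    exact hr.2 (le_antisymm hrz (hmin.2 hr.1.1 hrz))

end Isolated

variable [IsAdicComplete (maximalIdeal A) A]

/-- A valuation ring of a finite extension dominating a complete DVR is integral over it. -/
theorem isIntegral_of_dominates (K : Type u) [Field K] [Algebra A K] [IsFractionRing A K] {L : Type u} [Field L]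
    [Algebra K L] [Algebra A L] [IsScalarTower A K L] [Module.Finite K L] (B : ValuationSubring L)
    (hAB : ∀ a : A, algebraMap A L a ∈ B) {ϖ : A} (hϖ0 : Irreducible ϖ) (hϖ : B.valuation (algebraMap A L ϖ) < 1) :
    Module.Finite A (integralClosure A L) ∧ ∀ x ∈ B, x ∈ integralClosure A L := by
  have hAL : Function.Injective (algebraMap A L) := by
    rw [IsScalarTower.algebraMap_eq A K L]
    exact (algebraMap K L).injective.comp (IsFractionRing.injective A K)
  let B0 := integralClosure A L
  haveI hfin : Module.Finite A B0 := by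
    let e : FractionRing A ≃ₐ[A] K := FractionRing.algEquiv A K
    letI : Algebra (FractionRing A) L := ((algebraMap K L).comp e.toRingEquiv.toRingHom).toAlgebra
    haveI : IsScalarTower A (FractionRing A) L := IsScalarTower.of_algebraMap_eq fun a => by
      show algebraMap A L a = algebraMap K L (e (algebraMap A (FractionRing A) a))
      rw [e.commutes, ← IsScalarTower.algebraMap_apply]
    letI : Algebra (FractionRing A) K := e.toRingEquiv.toRingHom.toAlgebra
    haveI : IsScalarTower (FractionRing A) K L := IsScalarTower.of_algebraMap_eq fun _ => rfl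
    haveI : Module.Finite (FractionRing A) K :=
      Module.Finite.of_surjective (Algebra.linearMap (FractionRing A) K) e.surjective
    exact Nagata.CompleteLocal.isN2_regular A L (Module.Finite.trans K L)
  haveI : HenselianLocalRing A := Hensel.henselianLocalRing_of_henselianRing inferInstance
  haveI : IsLocalRing B0 := Milnor.isLocalRing_of_finite_domain A B0
  haveI : IsNoetherianRing B0 := IsNoetherianRing.of_finite A B0
  haveI : IsFractionRing B0 L := integralClosure.isFractionRing_of_finite_extension K L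
  haveI : IsIntegrallyClosed B0 := integralClosure.isIntegrallyClosedOfFiniteExtension K
  haveI : FaithfulSMul A B0 := (faithfulSMul_iff_algebraMap_injective A B0).2 fun a b h => hAL (congrArg Subtype.val h)
  have huniq : ∀ P : Ideal B0, P ≠ ⊥ → P.IsPrime → P = maximalIdeal B0 := by
    intro P hP0 hP
    refine IsLocalRing.eq_maximalIdeal (Ideal.isMaximal_of_isIntegral_of_isMaximal_comap (R := A) P ?_)
    exact (Ideal.IsPrime.comap (algebraMap A B0)).isMaximal (fun h => hP0 (Ideal.eq_bot_of_comap_eq_bot (R := A) h))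
  haveI hVR : ValuationRing B0 := ((tfae_of_isNoetherianRing_of_isLocalRing_of_isDomain B0).out 1 3 : ValuationRing B0 ↔ IsIntegrallyClosed B0 ∧ ∀ P : Ideal B0, P ≠ ⊥ → P.IsPrime → P = maximalIdeal B0).2 ⟨inferInstance, huniq⟩
  refine ⟨hfin, fun x hx => ?_⟩
  by_contra hxB
  have hle : ∀ b : B0, (b : L) ∈ B := fun b => by
    obtain ⟨p, hp, hpb⟩ := b.2
    have : IsIntegral B (b : L) := ⟨p.map ((algebraMap A L).codRestrict B.toSubring hAB), hp.map _, by
      rw [Polynomial.eval₂_map]; exact hpb⟩
    obtain ⟨c, hc⟩ := IsIntegrallyClosed.isIntegral_iff.1 this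
    exact hc ▸ c.2
  rcases ValuationRing.isInteger_or_isInteger B0 (x : L) with ⟨c, hc⟩ | ⟨c, hc⟩
  · exact hxB (hc ▸ c.2)
  · have hc' : (c : L) = x⁻¹ := hc
    have hx0 : x ≠ 0 := fun h0 => hxB (h0 ▸ zero_mem _)
    have hcnu : c ∈ maximalIdeal B0 := by
      rintro ⟨u, rfl⟩
      refine hxB ?_
      have h2 : x = ((u⁻¹ : B0ˣ) : B0) := by
        have h3 : ((u : B0) : L) * (((u⁻¹ : B0ˣ) : B0) : L) = 1 := by exact_mod_cast congrArg Subtype.val u.mul_inv
        rw [hc', inv_mul_eq_one₀ hx0] at h3
        exact h3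
      exact h2 ▸ (((u⁻¹ : B0ˣ) : B0)).2
    let w : B0 := ⟨algebraMap A L ϖ, isIntegral_algebraMap⟩
    have hw : w ≠ 0 := fun h0 => hϖ0.ne_zero (hAL ((congrArg Subtype.val h0).trans (map_zero _).symm))
    obtain ⟨n, hn⟩ : c ∈ (Ideal.span {w}).radical := by
      rw [Ideal.radical_eq_sInf, Submodule.mem_sInf]
      rintro J ⟨hJ, hJp⟩
      rw [huniq J (fun h0 => hw (Ideal.mem_bot.1 (h0 ▸ hJ (Ideal.mem_span_singleton_self w)))) hJp]
      exact hcnu
    obtain ⟨d, hd⟩ := Ideal.mem_span_singleton.1 hn
    have h1 : (x⁻¹) ^ n = algebraMap A L ϖ * (d : L) := by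
      rw [← hc']; exact congrArg Subtype.val hd
    have h2 : (algebraMap A L ϖ)⁻¹ ∈ B := by
      have h3 : (algebraMap A L ϖ)⁻¹ = (d : L) * x ^ n := by
        refine inv_eq_of_mul_eq_one_right ?_
        rw [← mul_assoc, ← h1, inv_pow, inv_mul_cancel₀ (pow_ne_zero n hx0)]
      exact h3 ▸ mul_mem (hle d) (pow_mem hx n)
    have h4 := (B.valuation_le_one_iff _).2 h2
    rw [map_inv₀, inv_le_one₀ ((Valuation.pos_iff _).2 fun h0 => hϖ0.ne_zero (hAL (h0.trans (map_zero _).symm)))] at h4
    exact not_lt.2 h4 hϖ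

variable [IsAlgClosed (ResidueField A)]

/-- EGA IV 14.5.3-4: a rational point of the special fibre in the closure of the generic fibre lies on a
discrete valuation ring finite over the base. -/
theorem exists_finite_dvr {C : Type u} [CommRing C] [Algebra A C] [Algebra.FiniteType A C]
    (χ : C →+* ResidueField A) (hχ : χ.comp (algebraMap A C) = residue A) (q : Ideal C) [q.IsPrime]
    (hqP : q ≤ RingHom.ker χ) (hqA : q.comap (algebraMap A C) = ⊥) :
    ∃ (B : Type u) (_ : CommRing B) (_ : IsDomain B) (_ : IsDiscreteValuationRing B) (φ : A →+* B)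
      (_ : IsLocalHom φ) (ψ : C →+* B), φ.Finite ∧ ψ.comp (algebraMap A C) = φ ∧
        (residue B).comp ψ = (ResidueField.map φ).comp χ := by
  classical
  haveI : IsNoetherianRing C := Algebra.FiniteType.isNoetherianRing A C
  haveI : (RingHom.ker χ).IsMaximal := RingHom.ker_isMaximal_of_surjective χ fun r => by
    obtain ⟨a, rfl⟩ := residue_surjective r
    exact ⟨algebraMap A C a, DFunLike.congr_fun hχ a⟩
  obtain ⟨ϖ, hϖ⟩ := IsDiscreteValuationRing.exists_irreducible A
  have hm : maximalIdeal A = Ideal.span {ϖ} := hϖ.maximalIdeal_eq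
  -- a largest prime avoiding the uniformizer
  let S : Set (Ideal C) := {r | r.IsPrime ∧ r ≤ RingHom.ker χ ∧ algebraMap A C ϖ ∉ r}
  obtain ⟨Q, ⟨hQp, hQP, hQϖ⟩, hQmax⟩ := set_has_maximal_iff_noetherian.mpr inferInstance S ⟨q, ‹_›, hqP,
    fun h => hϖ.ne_zero (Ideal.mem_bot.1 (hqA ▸ (show ϖ ∈ q.comap (algebraMap A C) from h)))⟩
  haveI := hQp
  let C' := C ⧸ Q
  haveI : IsDomain C' := Ideal.Quotient.isDomain Q
  haveI : Algebra.FiniteType A C' := .of_surjective (Ideal.Quotient.mkₐ A Q) Ideal.Quotient.mk_surjective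
  haveI : IsNoetherianRing C' := Algebra.FiniteType.isNoetherianRing A C'
  let χ' : C' →+* ResidueField A := Ideal.Quotient.lift Q χ fun a ha => hQP ha
  have hχ'A : χ'.comp (algebraMap A C') = residue A := hχ
  let P := RingHom.ker χ'
  haveI : P.IsMaximal := RingHom.ker_isMaximal_of_surjective χ' fun r => by
    obtain ⟨a, rfl⟩ := residue_surjective r
    exact ⟨algebraMap A C' a, DFunLike.congr_fun hχ'A a⟩
  have hPA : P.comap (algebraMap A C') = maximalIdeal A := by
    rw [RingHom.comap_ker, hχ'A, ker_residue]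
  have hAC : Function.Injective (algebraMap A C') := by
    rw [injective_iff_map_eq_zero]
    intro a ha
    by_contra h0
    obtain ⟨n, u, rfl⟩ := IsDiscreteValuationRing.eq_unit_mul_pow_irreducible h0 hϖ
    rw [map_mul, map_pow, mul_eq_zero] at ha
    rcases ha with h | h
    · exact not_isUnit_zero (h ▸ (u.isUnit.map (algebraMap A C')))
    · exact hQϖ (Ideal.Quotient.eq_zero_iff_mem.1 (eq_zero_of_pow_eq_zero h))
  have h0 : algebraMap A C' ϖ ≠ 0 := fun h => hϖ.ne_zero (hAC (h.trans (map_zero _).symm))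
  have hall : ∀ r : Ideal C', r.IsPrime → r ≤ P → r ≠ ⊥ → algebraMap A C' ϖ ∈ r := by
    intro r hr hrP hr0
    by_contra hn
    refine hr0 ?_
    have hQle : Q ≤ r.comap (Ideal.Quotient.mk Q) := fun a ha => by
      rw [Ideal.mem_comap, Ideal.Quotient.eq_zero_iff_mem.2 ha]; exact zero_mem _
    have hmem : r.comap (Ideal.Quotient.mk Q) ∈ S := ⟨inferInstance, fun a ha => hrP (x := Ideal.Quotient.mk Q a) ha, hn⟩
    have heq : r.comap (Ideal.Quotient.mk Q) = Q := le_antisymm
      (not_lt_iff_le_imp_ge.1 (hQmax _ hmem) hQle) hQle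
    rw [← Ideal.map_comap_of_surjective _ Ideal.Quotient.mk_surjective r, heq, Ideal.map_quotient_self]
  haveI := quasiFiniteAt_of_forall hm P hPA h0 hall
  -- the fraction field is finite over that of `A`
  haveI : Algebra.QuasiFiniteAt A (⊥ : Ideal C') := Algebra.QuasiFiniteAt.of_le (bot_le : (⊥ : Ideal C') ≤ P)
  let L := Localization.AtPrime (⊥ : Ideal C')
  haveI hfr : IsFractionRing C' L := by
    have : (⊥ : Ideal C').primeCompl = nonZeroDivisors C' := by
      ext a; simp [Ideal.primeCompl, mem_nonZeroDivisors_iff_ne_zero]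
    show IsLocalization (nonZeroDivisors C') L
    exact this ▸ (inferInstance : IsLocalization (⊥ : Ideal C').primeCompl L)
  letI : Field L := IsFractionRing.toField C'
  let K := FractionRing A
  have hAL : Function.Injective (algebraMap A L) := by
    rw [IsScalarTower.algebraMap_eq A C' L]
    exact (IsFractionRing.injective C' L).comp hAC
  letI : Algebra K L := (IsFractionRing.lift hAL : K →+* L).toAlgebra
  haveI : IsScalarTower A K L := IsScalarTower.of_algebraMap_eq fun a => (IsFractionRing.lift_algebraMap hAL a).symm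
  haveI : Algebra.QuasiFinite A L := inferInstanceAs (Algebra.QuasiFinite A (Localization.AtPrime (⊥ : Ideal C')))
  haveI : Algebra.QuasiFinite K L := Algebra.QuasiFinite.of_restrictScalars A K L
  haveI : Module.Finite K L := Module.Finite.of_quasiFinite
  -- the discrete valuation ring
  let D := Localization.AtPrime P
  haveI : IsDomain D := IsLocalization.isDomain_of_atPrime D P
  have hu : ∀ s : P.primeCompl, IsUnit (algebraMap C' L s) := fun s => by
    refine IsUnit.mk0 _ fun h => s.2 ?_
    rw [show (s : C') = 0 from IsFractionRing.injective C' L (h.trans (map_zero _).symm)]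
    exact zero_mem P
  letI : Algebra D L := (IsLocalization.lift hu : D →+* L).toAlgebra
  haveI : IsScalarTower C' D L := IsScalarTower.of_algebraMap_eq fun a => (IsLocalization.lift_eq hu a).symm
  haveI : IsFractionRing D L := IsFractionRing.isFractionRing_of_isDomain_of_isLocalization P.primeCompl D L
  have hD : ¬ IsField D := by
    rw [isField_iff_maximalIdeal_eq]
    intro hb
    have h1 : algebraMap C' D (algebraMap A C' ϖ) ∈ maximalIdeal D :=
      (IsLocalization.AtPrime.to_map_mem_maximal_iff D P _).2 (by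
        have : ϖ ∈ P.comap (algebraMap A C') := hPA ▸ hm ▸ Ideal.mem_span_singleton_self ϖ
        exact this)
    rw [hb, Ideal.mem_bot] at h1
    refine h0 (IsLocalization.injective D P.primeCompl_le_nonZeroDivisors (h1.trans (map_zero _).symm))
  obtain ⟨B, hB, hmem, hdom⟩ := DVRDom.exists_dvr_dominating D hD L L (IntermediateField.fg_top_iff.mpr inferInstance)
  have hC'B : ∀ c : C', algebraMap C' L c ∈ B := fun c => by
    rw [IsScalarTower.algebraMap_apply C' D L]; exact hmem _
  have hAB : ∀ a : A, algebraMap A L a ∈ B := fun a => by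
    rw [IsScalarTower.algebraMap_apply A C' L]; exact hC'B _
  have hC'lt : ∀ c ∈ P, B.valuation (algebraMap C' L c) < 1 := fun c hc => by
    rw [IsScalarTower.algebraMap_apply C' D L]
    exact hdom _ ((IsLocalization.AtPrime.to_map_mem_maximal_iff D P c).2 hc)
  have hAlt : ∀ a ∈ maximalIdeal A, B.valuation (algebraMap A L a) < 1 := fun a ha => by
    rw [IsScalarTower.algebraMap_apply A C' L]
    exact hC'lt _ (show a ∈ P.comap (algebraMap A C') from hPA ▸ ha)
  obtain ⟨hfin, hint⟩ := isIntegral_of_dominates A K B hAB hϖ (hAlt ϖ (hm ▸ Ideal.mem_span_singleton_self ϖ))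
  let φ : A →+* B := (algebraMap A L).codRestrict B.toSubring hAB
  let ψ' : C' →+* B := (algebraMap C' L).codRestrict B.toSubring hC'B
  haveI hloc : IsLocalHom φ := ⟨fun a ha => by
    by_contra hn
    exact ((B.valuation_lt_one_iff (φ a)).2 (hAlt a hn)) ha⟩
  have hφ : φ.Finite := by
    letI := φ.toAlgebra
    let incl : B →ₗ[A] integralClosure A L :=
      { toFun := fun b => ⟨b, hint b b.2⟩
        map_add' := fun _ _ => rfl
        map_smul' := fun a b => Subtype.ext (show ((φ a * b : B) : L) = a • (b : L) by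
          rw [Algebra.smul_def]; rfl) }
    haveI : IsNoetherian A (integralClosure A L) := isNoetherian_of_isNoetherianRing_of_finite A _
    exact Module.Finite.of_injective incl fun a b h => Subtype.ext (congrArg Subtype.val h : _)
  refine ⟨B, inferInstance, inferInstance, hB, φ, hloc, ψ'.comp (Ideal.Quotient.mk Q), hφ, ?_, ?_⟩
  · refine RingHom.ext fun a => Subtype.ext ?_
    exact (IsScalarTower.algebraMap_apply A C' L a).symm
  · refine RingHom.ext fun c => ?_
    obtain ⟨a, ha⟩ := residue_surjective (χ c)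
    have hd : Ideal.Quotient.mk Q c - algebraMap A C' a ∈ P := by
      rw [RingHom.mem_ker, map_sub, show χ' (algebraMap A C' a) = residue A a from DFunLike.congr_fun hχ'A a,
        Ideal.Quotient.lift_mk, ha, sub_self]
    have h1 : residue B (ψ' (Ideal.Quotient.mk Q c)) = residue B (φ a) := by
      rw [← sub_eq_zero, ← map_sub, residue_eq_zero_iff]
      refine (B.valuation_lt_one_iff _).2 ?_
      have h2 : ((ψ' (Ideal.Quotient.mk Q c) - φ a : B) : L) = algebraMap C' L (Ideal.Quotient.mk Q c - algebraMap A C' a) := by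
        rw [map_sub, ← IsScalarTower.algebraMap_apply]; rfl
      rw [h2]
      exact hC'lt _ hd
    show residue B (ψ' (Ideal.Quotient.mk Q c)) = ResidueField.map φ (χ c)
    rw [h1, ← ha, ResidueField.map_residue]

/-- A complete DVR extension with prescribed algebraically closed residue field. -/
theorem exists_complete_dvr_extension (R : Type u) [CommRing R] [IsDomain R] [IsDiscreteValuationRing R]
    (Ω : Type u) [Field Ω] [IsAlgClosed Ω] (ι : R →+* Ω) (hι : RingHom.ker ι = maximalIdeal R) :
    ∃ (R' : Type u) (_ : CommRing R') (_ : IsDomain R') (_ : IsDiscreteValuationRing R')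
      (_ : IsAdicComplete (maximalIdeal R') R') (_ : IsAlgClosed (ResidueField R')) (j : R →+* R')
      (e : ResidueField R' ≃+* Ω), Function.Injective j ∧ IsLocalHom j ∧ ∀ r, e (residue R' (j r)) = ι r := by
  letI := ι.toAlgebra
  obtain ⟨B, _, _, hN, hL, hloc, hflat, ψ, hψ, hker⟩ := CAlgLib.ResidueExt.exists_flat_extension (A := R) (K := Ω) hι
  haveI := hN; haveI := hL; haveI := hloc; haveI := hflat
  have hmB : maximalIdeal B = (maximalIdeal R).map (algebraMap R B) :=
    (IsLocalRing.eq_maximalIdeal (hker ▸ RingHom.ker_isMaximal_of_surjective ψ hψ)).symm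
  obtain ⟨ϖ, hϖ⟩ := IsDiscreteValuationRing.exists_irreducible R
  have hmB' : maximalIdeal B = Ideal.span {algebraMap R B ϖ} := by
    rw [hmB, hϖ.maximalIdeal_eq, Ideal.map_span, Set.image_singleton]
  have hdim : ringKrullDim B = 1 := by
    rw [RegLoc.Completion.ringKrullDim_eq_of_flat_of_map_eq R B hmB.symm]
    exact IsPrincipalIdealRing.ringKrullDim_eq_one R (IsDiscreteValuationRing.not_isField R)
  have hreg : IsRegularLocalRing B := by
    refine (isRegularLocalRing_iff B).2 (le_antisymm ?_ (ringKrullDim_le_spanFinrank_maximalIdeal B))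
    rw [hdim]
    have : (maximalIdeal B).spanFinrank ≤ 1 := by
      rw [hmB']
      exact (Submodule.spanFinrank_span_le_ncard_of_finite (Set.finite_singleton _)).trans (by simp)
    exact_mod_cast this
  obtain ⟨hdB, hdvr⟩ := (RegLoc.Completion.exists_isDiscreteValuationRing_iff B).2 ⟨hreg, hdim⟩
  haveI := hdB
  obtain ⟨hd', hdvr'⟩ := (RegLoc.Completion.isDiscreteValuationRing_completion_iff B).1 ⟨hdB, hdvr⟩
  haveI := hd'; haveI := hdvr'
  let R' := AdicCompletion (maximalIdeal B) B
  let e₁ : ResidueField B ≃+* Ω :=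
    (Ideal.quotEquivOfEq (hmB.trans hker.symm)).trans (RingHom.quotientKerEquivOfSurjective hψ)
  let e₂ : ResidueField B ≃+* ResidueField R' := RingEquiv.ofBijective _ (AdicCompletion.residueField_map_bijective B)
  haveI : FaithfulSMul R B := by
    haveI : Module.FaithfullyFlat R B := Module.FaithfullyFlat.of_flat_of_isLocalHom
    infer_instance
  refine ⟨R', inferInstance, hd', hdvr', inferInstance, IsAlgClosed.of_ringEquiv Ω _ ((e₂.symm.trans e₁).symm),
    (algebraMap B R').comp (algebraMap R B), e₂.symm.trans e₁, ?_, inferInstance, fun r => ?_⟩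
  · exact (FaithfulSMul.algebraMap_injective B R').comp (FaithfulSMul.algebraMap_injective R B)
  · have h1 : e₂ (residue B (algebraMap R B r)) = residue R' (algebraMap B R' (algebraMap R B r)) := ResidueField.map_residue _ _
    rw [RingHom.comp_apply, RingEquiv.trans_apply, ← h1, RingEquiv.symm_apply_apply]
    exact ψ.commutes r

end Groth.Agent.Fibres16.DVRQuasiSection
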