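import Groth.Agent.VarDim.Scheme
import Groth.Agent.FlatMor.GenericPts
import Groth.Agent.S2769
import Groth.Agent.S12208
import Groth.Agent.AlgSpCov.IntegralDim
import Groth.Agent.FibBound.Basic
import Mathlib.AlgebraicGeometry.AffineSpace
import Mathlib.AlgebraicGeometry.Morphisms.Finite

/-!
# Noether normalisation on a dense open

* `topDim_dense`: a dense open of a scheme locally of finite type over a field has full dimension;
* `exists_chart`: a dense affine open with a finite surjective map to affine space.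
-/

set_option autoImplicit false
set_option linter.style.haveILetI false

universe u

open CategoryTheory AlgebraicGeometry TopologicalSpace MvPolynomial

namespace Groth.Agent.Fibres16.DenseNoether

variable {k : Type u} [Field k] {X : Scheme.{u}} (f : X ⟶ Spec (CommRingCat.of k)) [LocallyOfFiniteType f]

include f in
theorem topDim_dense {U : X.Opens} (hU : Dense (U : Set X)) :
    topologicalKrullDim (U : Scheme.{u}) = topologicalKrullDim X := by
  refine le_antisymm (topologicalKrullDim_subspace_le X (U : Set X)) ?_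
  letI : X.Over (Spec (CommRingCat.of k)) := ⟨f⟩
  haveI : LocallyOfFiniteType (X ↘ Spec (CommRingCat.of k)) := ‹LocallyOfFiniteType f›
  haveI : IsLocallyNoetherian X := LocallyOfFiniteType.isLocallyNoetherian f
  rw [VarDim.topologicalKrullDim_eq_iSup k]
  refine iSup_le fun x => ?_
  obtain ⟨η, hη, hηx⟩ := FlatMor.GenericPts.exists_generic_specializes x
  have hηU := FlatMor.GenericPts.mem_of_dense hU hη
  refine le_trans ?_ (VarDim.le_topologicalKrullDim_opens k U hηU le_rfl)
  exact_mod_cast (VarDim.exists_ltSeries_of_le k (hηx : x ≤ η)).1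

include f in
theorem le_dim_of_surjective {U : X.Opens} {n : ℕ}
    (g : (U : Scheme.{u}) ⟶ 𝔸(ULift.{u} (Fin n); Spec (CommRingCat.of k)))
    (hg : g ≫ (𝔸(ULift.{u} (Fin n); Spec (CommRingCat.of k)) ↘ Spec (CommRingCat.of k)) = U.ι ≫ f)
    (hsurj : Function.Surjective g.base) : (n : WithBot ℕ∞) ≤ topologicalKrullDim (U : Scheme.{u}) := by
  let T := Spec (CommRingCat.of k)
  let P := 𝔸(ULift.{u} (Fin n); T)
  letI : (U : Scheme.{u}).Over T := ⟨U.ι ≫ f⟩
  haveI : LocallyOfFiniteType ((U : Scheme.{u}) ↘ T) := inferInstanceAs (LocallyOfFiniteType (U.ι ≫ f))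
  haveI : LocallyOfFiniteType (P ↘ T) := inferInstanceAs (LocallyOfFiniteType (𝔸(ULift.{u} (Fin n); T) ↘ T))
  have hdim : topologicalKrullDim P = (n : WithBot ℕ∞) := by
    rw [IsHomeomorph.topologicalKrullDim_eq _
      (Scheme.homeoOfIso (AffineSpace.SpecIso (ULift.{u} (Fin n)) (CommRingCat.of k))).isHomeomorph]
    refine (PrimeSpectrum.topologicalKrullDim_eq_ringKrullDim _).trans ?_
    rw [MvPolynomial.ringKrullDim_of_isNoetherianRing, ringKrullDim_eq_zero_of_field,
      Nat.card_congr Equiv.ulift, Nat.card_fin, zero_add]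
  rw [← hdim, VarDim.topologicalKrullDim_eq_iSup k, VarDim.topologicalKrullDim_eq_iSup k]
  refine iSup_le fun y => ?_
  obtain ⟨u, rfl⟩ := hsurj y
  haveI : LocallyOfFiniteType g := by
    haveI : LocallyOfFiniteType (g ≫ (P ↘ T)) := by rw [hg]; infer_instance
    exact locallyOfFiniteType_of_comp g (P ↘ T)
  obtain ⟨e, -, he⟩ := FibBound.dimPt_eq_add g k hg u
  refine le_trans ?_ (le_iSup _ u)
  exact_mod_cast (le_add_right le_rfl).trans he.ge

omit [LocallyOfFiniteType f] in
theorem dim_le_of_isFinite {U : X.Opens} {n : ℕ}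
    (g : (U : Scheme.{u}) ⟶ 𝔸(ULift.{u} (Fin n); Spec (CommRingCat.of k))) [IsFinite g] :
    topologicalKrullDim (U : Scheme.{u}) ≤ (n : WithBot ℕ∞) := by
  refine (AlgSpCov.IntegralDim.topologicalKrullDim_le_of_strictMono g (AlgSpCov.IntegralDim.strictMono_of_isIntegralHom g)).trans
    (le_of_eq ?_)
  rw [IsHomeomorph.topologicalKrullDim_eq _
    (Scheme.homeoOfIso (AffineSpace.SpecIso (ULift.{u} (Fin n)) (CommRingCat.of k))).isHomeomorph]
  refine (PrimeSpectrum.topologicalKrullDim_eq_ringKrullDim _).trans ?_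
  rw [MvPolynomial.ringKrullDim_of_isNoetherianRing, ringKrullDim_eq_zero_of_field,
    Nat.card_congr Equiv.ulift, Nat.card_fin, zero_add]

/-- A dense affine open with a morphism to affine `n`-space which is finite if `dim X ≤ n` and
surjective if `n ≤ dim X`. -/
theorem exists_chart [QuasiCompact f] (n : ℕ) :
    ∃ (U : X.Opens) (g : (U : Scheme.{u}) ⟶ 𝔸(ULift.{u} (Fin n); Spec (CommRingCat.of k))),
      Dense (U : Set X) ∧
      g ≫ (𝔸(ULift.{u} (Fin n); Spec (CommRingCat.of k)) ↘ Spec (CommRingCat.of k)) = U.ι ≫ f ∧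
      (topologicalKrullDim X ≤ n → IsFinite g) ∧
      ((n : WithBot ℕ∞) ≤ topologicalKrullDim X → Function.Surjective g.base) := by
  haveI : IsLocallyNoetherian X := LocallyOfFiniteType.isLocallyNoetherian f
  haveI : CompactSpace X := QuasiCompact.compactSpace_of_compactSpace f
  haveI : IsNoetherian X := { }
  obtain ⟨W, hW, hWd⟩ := S2769.exists_affine_dense X
  obtain ⟨φ, hφ⟩ := Spec.map_surjective (hW.fromSpec ≫ f)
  letI := φ.hom.toAlgebra
  haveI : Algebra.FiniteType k Γ(X, W) := by
    haveI : LocallyOfFiniteType (Spec.map φ) := hφ ▸ inferInstance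
    exact RingHom.finiteType_algebraMap.1 ((HasRingHomProperty.Spec_iff (P := @LocallyOfFiniteType)).1 ‹_›)
  have hdim : ringKrullDim Γ(X, W) = topologicalKrullDim X := by
    rw [← topDim_dense f hWd]
    exact (PrimeSpectrum.topologicalKrullDim_eq_ringKrullDim _).symm.trans
      (IsHomeomorph.topologicalKrullDim_eq _ (Scheme.homeoOfIso hW.isoSpec).isHomeomorph).symm
  -- the algebra map
  obtain ⟨ψ, hψfin, hψsurj⟩ : ∃ ψ : MvPolynomial (ULift.{u} (Fin n)) k →ₐ[k] Γ(X, W),
      (ringKrullDim Γ(X, W) ≤ n → ψ.toRingHom.Finite) ∧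
      ((n : WithBot ℕ∞) ≤ ringKrullDim Γ(X, W) → Function.Surjective (PrimeSpectrum.comap ψ.toRingHom)) := by
    rcases subsingleton_or_nontrivial Γ(X, W) with h | h
    · refine ⟨aeval fun _ => 0, fun _ => RingHom.Finite.of_surjective _ fun a => ⟨0, Subsingleton.elim _ _⟩, fun hn => ?_⟩
      rw [ringKrullDim_eq_bot_of_subsingleton] at hn
      exact absurd hn (WithBot.bot_lt_coe (n : ℕ∞)).not_ge
    obtain ⟨m, π, hπ⟩ := Algebra.FiniteType.iff_quotient_mvPolynomial''.1
      (inferInstance : Algebra.FiniteType k Γ(X, W))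
    let I := RingHom.ker π.toRingHom
    have hI : I ≠ ⊤ := RingHom.ker_ne_top _
    obtain ⟨⟨r, y, -, hinj, hfin⟩, hr⟩ := S12208.result k m I hI
    let e : (MvPolynomial (Fin m) k ⧸ I) ≃ₐ[k] Γ(X, W) := Ideal.quotientKerAlgEquivOfSurjective hπ
    have hr' : ringKrullDim Γ(X, W) = r :=
      (ringKrullDim_eq_of_ringEquiv e.toRingEquiv).symm.trans (hr r y hinj hfin)
    let ν : MvPolynomial (Fin r) k →ₐ[k] Γ(X, W) :=
      e.toAlgHom.comp ((Ideal.Quotient.mkₐ k I).comp (MvPolynomial.aeval y))
    have hνinj : Function.Injective ν := e.injective.comp hinj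
    have hνfin : ν.toRingHom.Finite := (RingHom.Finite.of_surjective _ e.surjective).comp hfin
    have hνsurj : Function.Surjective (PrimeSpectrum.comap ν.toRingHom) :=
      (RingHom.IsIntegral.of_finite hνfin).comap_surjective hνinj
    rcases le_total n r with hle | hle
    · let i : ULift.{u} (Fin n) → Fin r := fun a => Fin.castLE hle a.down
      have hi : Function.Injective i := (Fin.castLE_injective hle).comp ULift.down_injective
      refine ⟨ν.comp (rename i), fun h => ?_, fun _ => ?_⟩
      · rw [hr', Nat.cast_le] at h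
        have hb : Function.Bijective i := ⟨hi, fun a => ⟨⟨⟨a, lt_of_lt_of_le a.2 h⟩⟩, rfl⟩⟩
        exact hνfin.comp (RingHom.Finite.of_surjective _ (rename_surjective i hb.2))
      · intro P
        obtain ⟨Q, hQ⟩ := hνsurj (PrimeSpectrum.comap (killCompl hi).toRingHom P)
        refine ⟨Q, ?_⟩
        apply PrimeSpectrum.ext
        ext a
        have h := congrArg (fun z => rename i a ∈ PrimeSpectrum.asIdeal z) hQ
        simp only [PrimeSpectrum.comap_asIdeal, Ideal.mem_comap, AlgHom.toRingHom_eq_coe, RingHom.coe_coe,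
          killCompl_rename_app] at h
        exact h.to_iff
    · let i : Fin r → ULift.{u} (Fin n) := fun a => ⟨Fin.castLE hle a⟩
      have hi : Function.Injective i := ULift.up_injective.comp (Fin.castLE_injective hle)
      have hs : Function.Surjective (killCompl (R := k) hi) := fun p => ⟨rename i p, killCompl_rename_app hi p⟩
      refine ⟨ν.comp (killCompl hi), fun _ => hνfin.comp (RingHom.Finite.of_surjective _ hs), fun h => ?_⟩
      rw [hr', Nat.cast_le] at h
      have hb : Function.Bijective i := ⟨hi, fun a => ⟨⟨a.down, lt_of_lt_of_le a.down.2 h⟩, rfl⟩⟩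
      intro P
      obtain ⟨Q, hQ⟩ := hνsurj (PrimeSpectrum.comap (rename i).toRingHom P)
      refine ⟨Q, ?_⟩
      apply PrimeSpectrum.ext
      ext a
      obtain ⟨b, rfl⟩ := rename_surjective i hb.2 a
      have h := congrArg (fun z => b ∈ PrimeSpectrum.asIdeal z) hQ
      simp only [PrimeSpectrum.comap_asIdeal, Ideal.mem_comap, AlgHom.toRingHom_eq_coe, RingHom.coe_coe] at h ⊢
      rw [AlgHom.comp_apply, killCompl_rename_app]
      exact h.to_iff
  let Φ := Spec.map (CommRingCat.ofHom ψ.toRingHom)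
  let J := (AffineSpace.SpecIso (ULift.{u} (Fin n)) (CommRingCat.of k)).inv
  refine ⟨W, hW.isoSpec.hom ≫ Φ ≫ J, hWd, ?_, fun h => ?_, fun h => ?_⟩
  · have hC : CommRingCat.ofHom C ≫ CommRingCat.ofHom ψ.toRingHom = φ := by
      ext c
      exact ψ.commutes c
    simp only [J, Category.assoc]
    rw [AffineSpace.SpecIso_inv_over, ← Spec.map_comp]
    simp only [hC, hφ]
    rw [← Category.assoc, IsAffineOpen.isoSpec_hom_fromSpec]
  · haveI : IsFinite Φ := (IsFinite.SpecMap_iff _).2 (hψfin (hdim ▸ h))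
    infer_instance
  · intro z
    obtain ⟨P, hP⟩ := hψsurj (hdim.symm ▸ h) ((AffineSpace.SpecIso (ULift.{u} (Fin n)) (CommRingCat.of k)).hom z)
    refine ⟨hW.isoSpec.inv P, ?_⟩
    have e1 : hW.isoSpec.hom (hW.isoSpec.inv P) = P := by
      rw [← Scheme.Hom.comp_apply, Iso.inv_hom_id]; rfl
    have e2 : Φ P = (AffineSpace.SpecIso (ULift.{u} (Fin n)) (CommRingCat.of k)).hom z := hP
    show J (Φ (hW.isoSpec.hom (hW.isoSpec.inv P))) = z
    rw [e1, e2]
    simp only [J]
    rw [← Scheme.Hom.comp_apply, Iso.hom_inv_id]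
    rfl

end Groth.Agent.Fibres16.DenseNoether
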