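import Groth.Agent.Fibres16.LengthReg
import Groth.Agent.ZClosLib.DepthCrit
import Groth.Agent.FlatMor.FibreStalk
import Groth.Agent.AssSch.Basic

/-!
# Lengths of stalks at generisations and in fibres
-/

set_option autoImplicit false
set_option linter.style.haveILetI false

universe u

open CategoryTheory AlgebraicGeometry TopologicalSpace IsLocalRing
open Groth.Agent.PullStalk.Sky Groth.Agent.ZClosLib.StalkCrit Groth.Agent.ZClosLib.DepthCrit

namespace Groth.Agent.Fibres16.FibreLength

theorem length_eq_of_isBaseChange {R S M N : Type u} [CommRing R] [CommRing S] [Algebra R S]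
    (q : Ideal R) [q.IsPrime] [IsLocalization.AtPrime S q] [AddCommGroup M] [Module R M] [AddCommGroup N]
    [Module R N] [Module S N] [IsScalarTower R S N] {φ : M →ₗ[R] N} (hφ : IsBaseChange S φ) :
    Module.length (Localization.AtPrime q) (LocalizedModule q.primeCompl M) = Module.length S N := by
  let e : Localization.AtPrime q ≃ₐ[R] S := IsLocalization.algEquiv q.primeCompl _ _
  letI : Module (Localization.AtPrime q) N := Module.compHom N e.toRingEquiv.toRingHom
  letI : Algebra (Localization.AtPrime q) S := e.toRingEquiv.toRingHom.toAlgebra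
  haveI : IsScalarTower R (Localization.AtPrime q) N := IsScalarTower.of_algebraMap_smul fun r n => by
    show e (algebraMap R _ r) • n = r • n
    rw [e.commutes, IsScalarTower.algebraMap_smul]
  haveI : IsScalarTower (Localization.AtPrime q) S N := IsScalarTower.of_algebraMap_smul fun _ _ => rfl
  haveI : IsLocalizedModule q.primeCompl φ := (isLocalizedModule_iff_isBaseChange q.primeCompl S φ).2 hφ
  rw [((IsLocalizedModule.iso q.primeCompl φ).extendScalarsOfIsLocalization q.primeCompl
    (Localization.AtPrime q)).length_eq]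
  exact Module.length_eq_of_surjective (R := S) e.surjective

/-- The length at a generisation, computed in the local ring. -/
theorem length_localizedModule_eq {X : Scheme.{u}} [IsLocallyNoetherian X] (M : X.Modules) [M.IsQuasicoherent] (x : X)
    (q : PrimeSpectrum (X.presheaf.stalk x)) :
    Module.length (Localization.AtPrime q.asIdeal)
        (LocalizedModule q.asIdeal.primeCompl (M.presheaf.stalk x)) =
      Module.length (X.presheaf.stalk (stalkPt x q)) (M.presheaf.stalk (stalkPt x q)) := by
  have hyx := stalkPt_specializes x q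
  obtain ⟨W, hW, hxW, -⟩ := exists_isAffineOpen_mem_and_subset (Opens.mem_top x)
  have hyW : stalkPt x q ∈ W := hyx.mem_open W.isOpen hxW
  have hcomap : AssSch.Stalk.primeOf hW (stalkPt x q) hyW =
      q.asIdeal.comap (X.presheaf.germ W x hxW).hom :=
    congrArg PrimeSpectrum.asIdeal (hW.fromSpec.isOpenEmbedding.injective
      ((affinePt_primeIdealOf hW _ hyW).trans (stalkPt_eq hW hxW q)) :
        hW.primeIdealOf ⟨_, hyW⟩ = PrimeSpectrum.comap (X.presheaf.germ W x hxW).hom q)
  let aAx : Algebra Γ(X, W) (X.presheaf.stalk x) := (X.presheaf.germ W x hxW).hom.toAlgebra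
  let aAy : Algebra Γ(X, W) (X.presheaf.stalk (stalkPt x q)) :=
    (X.presheaf.germ W (stalkPt x q) hyW).hom.toAlgebra
  let axy : Algebra (X.presheaf.stalk x) (X.presheaf.stalk (stalkPt x q)) :=
    (X.presheaf.stalkSpecializes hyx).hom.toAlgebra
  have htow : IsScalarTower Γ(X, W) (X.presheaf.stalk x) (X.presheaf.stalk (stalkPt x q)) :=
    IsScalarTower.of_algebraMap_eq' (congrArg CommRingCat.Hom.hom
      (X.presheaf.germ_stalkSpecializes hxW hyx)).symm
  have : IsLocalization.AtPrime (X.presheaf.stalk x) (AssSch.Stalk.primeOf hW x hxW) :=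
    hW.isLocalization_stalk ⟨x, hxW⟩
  have : IsLocalization.AtPrime (X.presheaf.stalk (stalkPt x q))
      (q.asIdeal.comap (algebraMap Γ(X, W) (X.presheaf.stalk x))) := by
    change IsLocalization.AtPrime _ (q.asIdeal.comap (X.presheaf.germ W x hxW).hom)
    simp only [← hcomap]
    exact hW.isLocalization_stalk ⟨_, hyW⟩
  have hle : (AssSch.Stalk.primeOf hW x hxW).primeCompl ≤
      (q.asIdeal.comap (algebraMap Γ(X, W) (X.presheaf.stalk x))).primeCompl := fun a ha ha' =>
    q.isPrime.ne_top (Ideal.eq_top_of_isUnit_mem _ ha'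
      ((AssSch.Stalk.isUnit_germ_iff hW x hxW a).mpr ha))
  have := IsLocalization.isLocalization_of_submonoid_le (X.presheaf.stalk x)
    (X.presheaf.stalk (stalkPt x q)) _ _ hle
  have hloc : IsLocalization.AtPrime (X.presheaf.stalk (stalkPt x q)) q.asIdeal := by
    refine IsLocalization.isLocalization_of_is_exists_mul_mem (X.presheaf.stalk (stalkPt x q))
      ((q.asIdeal.comap (algebraMap Γ(X, W) (X.presheaf.stalk x))).primeCompl.map
        (algebraMap Γ(X, W) (X.presheaf.stalk x))) q.asIdeal.primeCompl ?_ fun t => ?_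
    · rintro _ ⟨a, ha, rfl⟩
      exact ha
    · obtain ⟨⟨a, d⟩, e⟩ :=
        IsLocalization.surj (AssSch.Stalk.primeOf hW x hxW).primeCompl (t : X.presheaf.stalk x)
      refine ⟨algebraMap _ _ (d : Γ(X, W)), a, fun ha => ?_, e.symm.trans (mul_comm _ _)⟩
      exact (q.isPrime.mem_or_mem (e.symm ▸ ha : (t : X.presheaf.stalk x) * _ ∈ q.asIdeal)).elim t.2
        (hle d.2)
  let mAx : Module Γ(X, W) (M.presheaf.stalk x) := Module.compHom _ (X.presheaf.germ W x hxW).hom
  let mAy : Module Γ(X, W) (M.presheaf.stalk (stalkPt x q)) :=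
    Module.compHom _ (X.presheaf.germ W (stalkPt x q) hyW).hom
  let mxy : Module (X.presheaf.stalk x) (M.presheaf.stalk (stalkPt x q)) :=
    Module.compHom _ (X.presheaf.stalkSpecializes hyx).hom
  have t1 : IsScalarTower Γ(X, W) (X.presheaf.stalk x) (M.presheaf.stalk x) :=
    IsScalarTower.of_algebraMap_smul fun _ _ => rfl
  have t2 : IsScalarTower (X.presheaf.stalk x) (X.presheaf.stalk (stalkPt x q))
      (M.presheaf.stalk (stalkPt x q)) := IsScalarTower.of_algebraMap_smul fun _ _ => rfl
  have t3 : IsScalarTower Γ(X, W) (X.presheaf.stalk (stalkPt x q))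
      (M.presheaf.stalk (stalkPt x q)) := IsScalarTower.of_algebraMap_smul fun _ _ => rfl
  have t4 : IsScalarTower Γ(X, W) (X.presheaf.stalk x) (M.presheaf.stalk (stalkPt x q)) :=
    IsScalarTower.of_algebraMap_smul fun a m =>
      congrArg (· • m) (ConcreteCategory.congr_hom (X.presheaf.germ_stalkSpecializes hxW hyx) a)
  let φ : M.presheaf.stalk x →ₗ[X.presheaf.stalk x] M.presheaf.stalk (stalkPt x q) :=
    { toFun := M.presheaf.stalkSpecializes hyx
      map_add' := map_add (M.presheaf.stalkSpecializes hyx).hom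
      map_smul' := fun r t => by
        obtain ⟨U, hxU, m, rfl⟩ := exists_germM_eq M x t
        obtain ⟨V, hxV, r, rfl⟩ := X.presheaf.exists_germ_eq (x := x) r
        have hx : x ∈ U ⊓ V := ⟨hxU, hxV⟩
        rw [← X.presheaf.germ_res_apply (homOfLE (inf_le_right : U ⊓ V ≤ V)) x hx r,
          ← AssSch.Stalk.germM_res M (inf_le_left : U ⊓ V ≤ U) x hx m, ← germM_smul]
        refine (ConcreteCategory.congr_hom (M.presheaf.germ_stalkSpecializes hx hyx) _).trans
          ((germM_smul M _ _ _ _ _).trans ?_)
        exact congrArg₂ (· • ·)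
          (ConcreteCategory.congr_hom (X.presheaf.germ_stalkSpecializes hx hyx) _).symm
          (ConcreteCategory.congr_hom (M.presheaf.germ_stalkSpecializes hx hyx) _).symm }
  have hbx := (isLocalizedModule_iff_isBaseChange (AssSch.Stalk.primeOf hW x hxW).primeCompl
    (X.presheaf.stalk x) _).mp (AssSch.Stalk.isLocalizedModule_germLinear M hW x hxW)
  have : IsLocalization.AtPrime (X.presheaf.stalk (stalkPt x q))
      (AssSch.Stalk.primeOf hW (stalkPt x q) hyW) := hW.isLocalization_stalk ⟨_, hyW⟩
  have hby := (isLocalizedModule_iff_isBaseChange (AssSch.Stalk.primeOf hW (stalkPt x q) hyW).primeCompl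
    (X.presheaf.stalk (stalkPt x q)) _).mp (AssSch.Stalk.isLocalizedModule_germLinear M hW (stalkPt x q) hyW)
  have hcomp : φ.restrictScalars Γ(X, W) ∘ₗ AssSch.Stalk.germLinear M x hxW =
      AssSch.Stalk.germLinear M (stalkPt x q) hyW :=
    LinearMap.ext fun m => ConcreteCategory.congr_hom (M.presheaf.germ_stalkSpecializes hxW hyx) m
  rw [← hcomp] at hby
  exact length_eq_of_isBaseChange q.asIdeal (IsBaseChange.of_comp hbx hby)

section Fibre

open TensorProduct LinearMap
open Groth.Agent.LenLib (smulEnd)

variable {X Y : Scheme.{u}} (f : X ⟶ Y) (F : X.Modules) (y : Y) (z : f.fiber y)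

/-- The stalk of a module on a fibre is the stalk modulo the maximal ideal of the base. -/
theorem exists_fibre_equiv :
    letI K : Ideal (X.presheaf.stalk (f.fiberι y z)) :=
      (maximalIdeal (Y.presheaf.stalk (f (f.fiberι y z)))).map (f.stalkMap (f.fiberι y z)).hom
    letI : Module (X.presheaf.stalk (f.fiberι y z))
        (((Scheme.Modules.pullback (f.fiberι y)).obj F).presheaf.stalk z) :=
      Module.compHom _ ((f.fiberι y).stalkMap z).hom
    Nonempty ((F.presheaf.stalk (f.fiberι y z) ⧸ (K • ⊤ : Submodule (X.presheaf.stalk (f.fiberι y z)) (F.presheaf.stalk (f.fiberι y z))))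
      ≃ₗ[X.presheaf.stalk (f.fiberι y z)]
        ((Scheme.Modules.pullback (f.fiberι y)).obj F).presheaf.stalk z) := by
  let R := X.presheaf.stalk (f.fiberι y z)
  let B := (f.fiber y).presheaf.stalk z
  let φ : R →+* B := ((f.fiberι y).stalkMap z).hom
  have hker := FlatMor.FibreStalk.ker_stalkMap_fiberι f y z
  have hs : Function.Surjective φ := (f.fiberι y).stalkMap_surjective z
  obtain ⟨e, -⟩ := FDesc.Stalk.exists_stalk_equiv (f.fiberι y) F z
  letI := φ.toAlgebra
  letI : Module R (((Scheme.Modules.pullback (f.fiberι y)).obj F).presheaf.stalk z) := Module.compHom _ φ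
  haveI : IsScalarTower R B (((Scheme.Modules.pullback (f.fiberι y)).obj F).presheaf.stalk z) :=
    IsScalarTower.of_algebraMap_smul fun _ _ => rfl
  let ψ : (R ⧸ RingHom.ker φ) ≃ₐ[R] B := Ideal.quotientKerAlgEquivOfSurjective (f := Algebra.ofId R B) hs
  have E := ((quotTensorEquivQuotSMul (F.presheaf.stalk (f.fiberι y z)) (RingHom.ker φ)).symm.trans
    (TensorProduct.congr ψ.toLinearEquiv (LinearEquiv.refl R _))).trans (e.restrictScalars R)
  exact ⟨(Submodule.quotEquivOfEq _ _ (by rw [show RingHom.ker φ = _ from hker])).trans E⟩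

/-- Lengths on the fibre. -/
theorem length_fibre_stalk :
    Module.length ((f.fiber y).presheaf.stalk z)
        (((Scheme.Modules.pullback (f.fiberι y)).obj F).presheaf.stalk z) =
      Module.length (X.presheaf.stalk (f.fiberι y z)) (F.presheaf.stalk (f.fiberι y z) ⧸
        (((maximalIdeal (Y.presheaf.stalk (f (f.fiberι y z)))).map (f.stalkMap (f.fiberι y z)).hom) • ⊤ :
          Submodule (X.presheaf.stalk (f.fiberι y z)) (F.presheaf.stalk (f.fiberι y z)))) := by
  let φ := ((f.fiberι y).stalkMap z).hom
  letI := φ.toAlgebra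
  letI : Module (X.presheaf.stalk (f.fiberι y z))
      (((Scheme.Modules.pullback (f.fiberι y)).obj F).presheaf.stalk z) := Module.compHom _ φ
  haveI : IsScalarTower (X.presheaf.stalk (f.fiberι y z)) ((f.fiber y).presheaf.stalk z)
      (((Scheme.Modules.pullback (f.fiberι y)).obj F).presheaf.stalk z) :=
    IsScalarTower.of_algebraMap_smul fun _ _ => rfl
  obtain ⟨E⟩ := exists_fibre_equiv f F y z
  refine Eq.trans ?_ E.length_eq.symm
  exact (Module.length_eq_of_surjective (R := (f.fiber y).presheaf.stalk z)
    ((f.fiberι y).stalkMap_surjective z)).symm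

/-- Associated points of a fibre from the quotient of the stalk. -/
theorem mem_ass_fibre [IsLocallyNoetherian X]
    (h : IsAssociatedPrime (maximalIdeal (X.presheaf.stalk (f.fiberι y z))) (F.presheaf.stalk (f.fiberι y z) ⧸
        (((maximalIdeal (Y.presheaf.stalk (f (f.fiberι y z)))).map (f.stalkMap (f.fiberι y z)).hom) • ⊤ :
          Submodule (X.presheaf.stalk (f.fiberι y z)) (F.presheaf.stalk (f.fiberι y z))))) :
    z ∈ AssSch.Ass ((Scheme.Modules.pullback (f.fiberι y)).obj F) := by
  let φ := ((f.fiberι y).stalkMap z).hom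
  have hs : Function.Surjective φ := (f.fiberι y).stalkMap_surjective z
  letI : Module (X.presheaf.stalk (f.fiberι y z))
      (((Scheme.Modules.pullback (f.fiberι y)).obj F).presheaf.stalk z) := Module.compHom _ φ
  obtain ⟨E⟩ := exists_fibre_equiv f F y z
  haveI : IsNoetherianRing ((f.fiber y).presheaf.stalk z) := isNoetherianRing_of_surjective _ _ φ hs
  obtain ⟨-, w, hw⟩ := isAssociatedPrime_iff.1 (E.isAssociatedPrime_iff.1 h)
  refine isAssociatedPrime_iff.2 ⟨inferInstance, w, ?_⟩
  ext b
  obtain ⟨r, rfl⟩ := hs b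
  rw [Submodule.mem_colon_singleton, Submodule.mem_bot]
  have h2 : r ∈ maximalIdeal (X.presheaf.stalk (f.fiberι y z)) ↔ φ r • w = 0 := by
    rw [hw, Submodule.mem_colon_singleton, Submodule.mem_bot]
    rfl
  rw [← h2]
  haveI : IsLocalHom φ := (f.fiberι y).toLRSHom.prop z
  exact map_mem_nonunits_iff φ r

theorem smul_span_singleton_top {R M : Type*} [CommRing R] [AddCommGroup M] [Module R M] (t : R) :
    (Ideal.span {t} • ⊤ : Submodule R M) = LinearMap.range (smulEnd t M) := by
  rw [Submodule.ideal_span_singleton_smul]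
  ext m
  simp [Submodule.mem_smul_pointwise_iff_exists]

end Fibre

section Base

variable {A : Type u} [CommRing A]

/-- The maximal ideal of a stalk of `Spec A`. -/
theorem maximalIdeal_stalk_spec (p : Spec (CommRingCat.of A)) :
    maximalIdeal ((Spec (CommRingCat.of A)).presheaf.stalk p) =
      p.asIdeal.map (StructureSheaf.toStalk A p).hom := by
  letI : Algebra A ((Spec (CommRingCat.of A)).presheaf.stalk p) := StructureSheaf.stalkAlgebra A p
  haveI : IsLocalization.AtPrime ((Spec (CommRingCat.of A)).presheaf.stalk p) p.asIdeal :=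
    StructureSheaf.IsLocalization.to_stalk A p
  exact (IsLocalization.AtPrime.map_eq_maximalIdeal p.asIdeal _).symm

theorem toStalk_ne_zero [IsDomain A] (p : Spec (CommRingCat.of A)) {a : A} (ha : a ≠ 0) :
    (StructureSheaf.toStalk A p).hom a ≠ 0 := by
  letI : Algebra A ((Spec (CommRingCat.of A)).presheaf.stalk p) := StructureSheaf.stalkAlgebra A p
  haveI : IsLocalization.AtPrime ((Spec (CommRingCat.of A)).presheaf.stalk p) p.asIdeal :=
    StructureSheaf.IsLocalization.to_stalk A p
  intro h
  exact ha (IsLocalization.injective ((Spec (CommRingCat.of A)).presheaf.stalk p)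
    p.asIdeal.primeCompl_le_nonZeroDivisors (show algebraMap A _ a = algebraMap A _ 0 by rw [map_zero]; exact h))

theorem map_maximalIdeal_stalk_singleton {X : Scheme.{u}} (f : X ⟶ Spec (CommRingCat.of A)) (x : X) {a : A}
    (h : (f x : PrimeSpectrum A).asIdeal = Ideal.span {a}) :
    (maximalIdeal ((Spec (CommRingCat.of A)).presheaf.stalk (f x))).map (f.stalkMap x).hom =
      Ideal.span {(f.stalkMap x).hom ((StructureSheaf.toStalk A (f x)).hom a)} := by
  rw [maximalIdeal_stalk_spec]
  refine (congrArg (Ideal.map (f.stalkMap x).hom)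
    ((congrArg (Ideal.map (StructureSheaf.toStalk A (f x)).hom) h).trans (Ideal.map_span _ _))).trans ?_
  refine (Ideal.map_span _ _).trans (congrArg Ideal.span ?_)
  exact (congrArg _ Set.image_singleton).trans Set.image_singleton

theorem map_maximalIdeal_stalk_bot {X : Scheme.{u}} (f : X ⟶ Spec (CommRingCat.of A)) (x : X)
    (h : (f x : PrimeSpectrum A).asIdeal = ⊥) :
    (maximalIdeal ((Spec (CommRingCat.of A)).presheaf.stalk (f x))).map (f.stalkMap x).hom = ⊥ := by
  rw [maximalIdeal_stalk_spec]
  exact (congrArg (Ideal.map (f.stalkMap x).hom)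
    ((congrArg (Ideal.map (StructureSheaf.toStalk A (f x)).hom) h).trans Ideal.map_bot)).trans Ideal.map_bot

theorem isSMulRegular_toStalk [IsDomain A] (p : Spec (CommRingCat.of A)) {a : A} (ha : a ≠ 0)
    (M : Type u) [AddCommGroup M] [Module ((Spec (CommRingCat.of A)).presheaf.stalk p) M]
    [Module.Flat ((Spec (CommRingCat.of A)).presheaf.stalk p) M] :
    IsSMulRegular M (show (Spec (CommRingCat.of A)).presheaf.stalk p from (StructureSheaf.toStalk A p).hom a) := by
  letI : Algebra A ((Spec (CommRingCat.of A)).presheaf.stalk p) := StructureSheaf.stalkAlgebra A p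
  haveI : IsLocalization.AtPrime ((Spec (CommRingCat.of A)).presheaf.stalk p) p.asIdeal :=
    StructureSheaf.IsLocalization.to_stalk A p
  haveI : IsDomain ((Spec (CommRingCat.of A)).presheaf.stalk p) :=
    IsLocalization.isDomain_of_atPrime ((Spec (CommRingCat.of A)).presheaf.stalk p) p.asIdeal
  exact Module.Flat.isSMulRegular_of_isRegular (IsRegular.of_ne_zero (show (show (Spec (CommRingCat.of A)).presheaf.stalk p from (StructureSheaf.toStalk A p).hom a) ≠ 0 from toStalk_ne_zero p ha))

end Base

end Groth.Agent.Fibres16.FibreLength
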