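import Groth.Agent.LocFlat.Basic
import Groth.Agent.FlatMor.Strat.Aff
import Mathlib.LinearAlgebra.TensorProduct.Quotient
import Mathlib.RingTheory.Nilpotent.Lemmas

/-!
# The flattening ideal of a module that is free modulo a nilpotent ideal
-/

set_option autoImplicit false
set_option linter.style.haveILetI false

universe u

open TensorProduct Function

namespace Groth.Agent.Fibres16.FlatIdeal

/-- A module equal to `N` times itself vanishes for nilpotent `N`. -/
theorem eq_bot_of_le_smul {R M : Type u} [CommRing R] [AddCommGroup M] [Module R M] {N : Ideal R}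
    (hN : IsNilpotent N) {S T : Submodule R M} (h : T ≤ S ⊔ N • T) : T ≤ S := by
  obtain ⟨k, hk⟩ := hN
  suffices H : ∀ j, T ≤ S ⊔ N ^ j • T by
    have := H k
    rwa [hk, Ideal.zero_eq_bot, Submodule.bot_smul, sup_bot_eq] at this
  intro j
  induction j with
  | zero => rw [pow_zero, Ideal.one_eq_top, Submodule.top_smul]; exact le_sup_right
  | succ j ih =>
    refine ih.trans (sup_le le_sup_left ?_)
    refine (Submodule.smul_mono le_rfl h).trans ?_
    rw [Submodule.smul_sup, ← Submodule.mul_smul, ← pow_succ]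
    exact sup_le_sup Submodule.smul_le_right le_rfl

/-- `ker φ ∩ N • F = N • ker φ` for a flat cokernel. -/
theorem mem_smul_ker_of_flat {R F C : Type u} [CommRing R] [AddCommGroup F] [Module R F]
    [AddCommGroup C] [Module R C] [Module.Flat R C] (φ : F →ₗ[R] C) (hφ : Surjective φ) (N : Ideal R)
    {k : F} (hk : k ∈ LinearMap.ker φ) (hkN : k ∈ N • (⊤ : Submodule R F)) :
    k ∈ N • LinearMap.ker φ := by
  let K := LinearMap.ker φ
  have hinj : Injective (K.subtype.lTensor (R ⧸ N)) :=
    LocFlat.lTensor_injective_of_flat_coker K.subtype φ (LinearMap.exact_subtype_ker_map φ) hφ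
      K.injective_subtype (R ⧸ N)
  have hx : ((1 : R ⧸ N) ⊗ₜ[R] (⟨k, hk⟩ : K)) = 0 := by
    refine hinj ?_
    rw [map_zero, LinearMap.lTensor_tmul]
    apply (TensorProduct.quotTensorEquivQuotSMul F N).injective
    rw [map_zero]
    show TensorProduct.quotTensorEquivQuotSMul F N (Ideal.Quotient.mk N 1 ⊗ₜ[R] k) = 0
    rw [TensorProduct.quotTensorEquivQuotSMul_mk_tmul, one_smul, Submodule.Quotient.mk_eq_zero]
    exact hkN
  have h1 := congrArg (TensorProduct.quotTensorEquivQuotSMul K N) hx
  rw [map_zero, show (1 : R ⧸ N) = Ideal.Quotient.mk N 1 from rfl,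
    TensorProduct.quotTensorEquivQuotSMul_mk_tmul, one_smul, Submodule.Quotient.mk_eq_zero] at h1
  have h2 := Submodule.mem_map_of_mem (f := K.subtype) h1
  rwa [Submodule.map_smul'', Submodule.map_top, Submodule.range_subtype] at h2

/-- The flattening ideal. -/
theorem exists_flattening_ideal {R : Type u} [CommRing R] (N : Ideal R) (hN : IsNilpotent N)
    (M : Type u) [AddCommGroup M] [Module R M] [Module.Free (R ⧸ N) ((R ⧸ N) ⊗[R] M)] :
    ∃ J : Ideal R, J ≤ N ∧ ∀ (R' : Type u) [CommRing R'] [Algebra R R'],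
      Module.Flat R' (R' ⊗[R] M) ↔ J.map (algebraMap R R') = ⊥ := by
  classical
  let B := Module.Free.ChooseBasisIndex (R ⧸ N) ((R ⧸ N) ⊗[R] M)
  let b := Module.Free.chooseBasis (R ⧸ N) ((R ⧸ N) ⊗[R] M)
  have hsurj : Surjective (TensorProduct.mk R (R ⧸ N) M 1) := by
    intro t
    induction t with
    | zero => exact ⟨0, map_zero _⟩
    | tmul c m =>
      obtain ⟨c, rfl⟩ := Ideal.Quotient.mk_surjective c
      refine ⟨c • m, ?_⟩
      rw [TensorProduct.mk_apply, TensorProduct.tmul_smul, TensorProduct.smul_tmul',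
        Algebra.smul_def, mul_one]
      rfl
    | add x y hx hy =>
      obtain ⟨x, rfl⟩ := hx
      obtain ⟨y, rfl⟩ := hy
      exact ⟨x + y, map_add _ _ _⟩
  choose m hm using fun i : B => hsurj (b i)
  let φ : (B →₀ R) →ₗ[R] M := Finsupp.linearCombination R m
  let ψ : M →ₗ[R] (B →₀ R ⧸ N) := (b.repr.toLinearMap.restrictScalars R) ∘ₗ TensorProduct.mk R (R ⧸ N) M 1
  have hψm : ∀ i, ψ (m i) = Finsupp.single i 1 := fun i => by
    show b.repr (TensorProduct.mk R (R ⧸ N) M 1 (m i)) = _
    rw [hm, b.repr_self]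
  have hψφ : ∀ f i, ψ (φ f) i = Ideal.Quotient.mk N (f i) := by
    intro f i
    induction f using Finsupp.induction_linear with
    | zero => simp
    | add x y hx hy => simp [hx, hy]
    | single j a =>
      rw [Finsupp.linearCombination_single, map_smul, hψm, Finsupp.smul_single]
      rcases eq_or_ne j i with rfl | h
      · simp [Algebra.smul_def]
      · simp [Finsupp.single_eq_of_ne' h]
  have hφ : Surjective φ := by
    have htop : (⊤ : Submodule R M) ≤ LinearMap.range φ ⊔ N • ⊤ := by
      intro x _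
      obtain ⟨c, hc⟩ : ∃ c : B →₀ R, Finsupp.mapRange (Ideal.Quotient.mk N) (map_zero _) c = ψ x :=
        Finsupp.mapRange_surjective _ (map_zero _) Ideal.Quotient.mk_surjective _
      have h0 : TensorProduct.mk R (R ⧸ N) M 1 (x - φ c) = 0 := by
        apply b.repr.injective
        rw [map_zero]
        show ψ (x - φ c) = 0
        ext i
        rw [map_sub, Finsupp.sub_apply, hψφ, ← hc, Finsupp.mapRange_apply, sub_self, Finsupp.zero_apply]
      have hmem : x - φ c ∈ N • (⊤ : Submodule R M) := by
        have := congrArg (TensorProduct.quotTensorEquivQuotSMul M N) h0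
        rw [TensorProduct.mk_apply, map_zero] at this
        rwa [show (1 : R ⧸ N) = Ideal.Quotient.mk N 1 from rfl,
          TensorProduct.quotTensorEquivQuotSMul_mk_tmul, one_smul, Submodule.Quotient.mk_eq_zero] at this
      rw [← sub_add_cancel x (φ c), add_comm]
      exact Submodule.add_mem_sup (LinearMap.mem_range_self φ c) hmem
    exact LinearMap.range_eq_top.1 (top_le_iff.1 (eq_bot_of_le_smul hN htop))
  let J : Ideal R := Ideal.span {a | ∃ f ∈ LinearMap.ker φ, ∃ i, f i = a}
  refine ⟨J, Ideal.span_le.2 ?_, fun R' _ _ => ?_⟩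
  · rintro - ⟨f, hf, i, rfl⟩
    refine Ideal.Quotient.eq_zero_iff_mem.1 ?_
    rw [← hψφ, LinearMap.mem_ker.1 hf, map_zero, Finsupp.zero_apply]
  let φ' : (B →₀ R') →ₗ[R'] R' ⊗[R] M := Finsupp.linearCombination R' fun i => (1 : R') ⊗ₜ[R] m i
  let Lc : (B →₀ R) →ₗ[R] (B →₀ R') := Finsupp.mapRange.linearMap (Algebra.linearMap R R')
  have hcomp : ∀ f, φ' (Lc f) = (1 : R') ⊗ₜ[R] φ f := by
    intro f
    induction f using Finsupp.induction_linear with
    | zero => simp
    | add x y hx hy => simp only [map_add, hx, hy, tmul_add]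
    | single j a =>
      rw [show Lc (Finsupp.single j a) = Finsupp.single j (algebraMap R R' a) from
        Finsupp.mapRange_single (hf := map_zero _), Finsupp.linearCombination_single,
        Finsupp.linearCombination_single, algebraMap_smul, tmul_smul]
  have hφ' : Surjective φ' := by
    intro t
    induction t with
    | zero => exact ⟨0, map_zero _⟩
    | tmul c x =>
      obtain ⟨f, rfl⟩ := hφ x
      exact ⟨c • Lc f, by rw [map_smul, hcomp, smul_tmul', smul_eq_mul, mul_one]⟩
    | add x y hx hy =>
      obtain ⟨x, rfl⟩ := hx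
      obtain ⟨y, rfl⟩ := hy
      exact ⟨x + y, map_add _ _ _⟩
  constructor
  · intro hflat
    suffices hK : LinearMap.ker φ' = ⊥ by
      rw [Ideal.map_span, Ideal.span_eq_bot]
      rintro - ⟨-, ⟨f, hf, i, rfl⟩, rfl⟩
      have h0 : Lc f = 0 := by
        rw [← Submodule.mem_bot (R := R'), ← hK, LinearMap.mem_ker, hcomp, LinearMap.mem_ker.1 hf,
          tmul_zero]
      exact DFunLike.congr_fun h0 i
    let N' := N.map (algebraMap R R')
    have hN' : IsNilpotent N' := by
      obtain ⟨k, hk⟩ := hN
      exact ⟨k, by rw [← Ideal.map_pow, hk, Ideal.zero_eq_bot, Ideal.map_bot, Ideal.zero_eq_bot]⟩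
    let θ₀ : M →ₗ[R] (B →₀ R' ⧸ N') :=
      Finsupp.mapRange.linearMap (Submodule.mapQ N (N'.restrictScalars R) (Algebra.linearMap R R')
        fun a ha => Ideal.mem_map_of_mem _ ha) ∘ₗ ψ
    let θ := θ₀.liftBaseChange R'
    have hθ : ∀ f, θ (φ' f) = Finsupp.mapRange.linearMap (Submodule.mkQ N') f := by
      intro f
      induction f using Finsupp.induction_linear with
      | zero => simp
      | add x y hx hy => simp only [map_add, hx, hy]
      | single j a =>
        rw [Finsupp.linearCombination_single, map_smul, LinearMap.liftBaseChange_one_tmul]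
        show a • Finsupp.mapRange.linearMap _ (ψ (m j)) = _
        rw [hψm, Finsupp.mapRange.linearMap_apply, Finsupp.mapRange_single,
          Finsupp.mapRange.linearMap_apply, Finsupp.mapRange_single, Finsupp.smul_single]
        congr 1
        show a • Submodule.Quotient.mk (algebraMap R R' 1) = _
        rw [map_one, ← Submodule.Quotient.mk_smul, smul_eq_mul, mul_one]
        rfl
    refine le_bot_iff.1 (eq_bot_of_le_smul hN' fun k hk => ?_)
    refine Submodule.mem_sup_right ?_
    have hkN : k ∈ N' • (⊤ : Submodule R' (B →₀ R')) := by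
      have h0 := hθ k
      rw [LinearMap.mem_ker.1 hk, map_zero] at h0
      rw [← Finsupp.sum_single k]
      refine Submodule.sum_mem _ fun i _ => ?_
      rw [show Finsupp.single i (k i) = (k i) • Finsupp.single i (1 : R') from by simp]
      refine Submodule.smul_mem_smul (Ideal.Quotient.eq_zero_iff_mem.1 ?_) Submodule.mem_top
      exact (DFunLike.congr_fun h0 i).symm
    exact mem_smul_ker_of_flat φ' hφ' N' hk hkN
  · intro hJ
    let σ₀ : M →ₗ[R] (B →₀ R') := (Submodule.liftQ (LinearMap.ker φ) Lc fun f hf => by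
      ext i
      rw [show Lc f i = algebraMap R R' (f i) from rfl, Finsupp.zero_apply, ← Submodule.mem_bot (R := R'), ← hJ]
      exact Ideal.mem_map_of_mem _ (Ideal.subset_span ⟨f, hf, i, rfl⟩)) ∘ₗ
        (φ.quotKerEquivOfSurjective hφ).symm.toLinearMap
    have hσ : ∀ f, σ₀ (φ f) = Lc f := by
      intro f
      simp [σ₀]
    have hleft : LeftInverse (σ₀.liftBaseChange R') φ' := by
      intro f
      induction f using Finsupp.induction_linear with
      | zero => simp
      | add x y hx hy => simp only [map_add, hx, hy]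
      | single j a =>
        rw [Finsupp.linearCombination_single, map_smul, LinearMap.liftBaseChange_one_tmul,
          show m j = φ (Finsupp.single j 1) by simp [φ], hσ,
          show Lc (Finsupp.single j 1) = Finsupp.single j (algebraMap R R' 1) from
            Finsupp.mapRange_single (hf := map_zero _), map_one, Finsupp.smul_single, smul_eq_mul, mul_one]
    exact Module.Flat.of_linearEquiv (LinearEquiv.ofBijective φ' ⟨hleft.injective, hφ'⟩).symm

/-- Base change of a module that is free on `D(f) ⊆ Spec R̄`. -/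
theorem free_tensor_of_freeAt {R₀ R A' : Type u} [CommRing R₀] [CommRing R] [CommRing A'] [Algebra R₀ R]
    [Algebra R₀ A'] [Algebra R A'] [IsScalarTower R₀ R A'] {n r : ℕ}
    (Z₀ : Submodule (MvPolynomial (Fin n) R₀) (FlatOpen.Vec n r R₀)) (f : R)
    (hf : IsUnit (algebraMap R A' f)) (hfree : FlatMisc.GenericFree.FreeAt f (FlatOpen.Quot R Z₀)) :
    Module.Free A' (A' ⊗[R₀] (FlatOpen.Vec n r R₀ ⧸ Z₀)) := by
  let := (IsLocalization.Away.lift (S := Localization.Away f) f hf).toAlgebra
  have : IsScalarTower R (Localization.Away f) A' :=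
    IsScalarTower.of_algebraMap_eq fun x => (IsLocalization.Away.lift_eq f hf x).symm
  have := hfree.free_tensor
  have : Module.Free A' (A' ⊗[Localization.Away f] (Localization.Away f ⊗[R] FlatOpen.Quot R Z₀)) :=
    inferInstance
  let e₁ : A' ⊗[Localization.Away f] (Localization.Away f ⊗[R] FlatOpen.Quot R Z₀) ≃ₗ[A']
      A' ⊗[R] FlatOpen.Quot R Z₀ :=
    TensorProduct.AlgebraTensorModule.cancelBaseChange R (Localization.Away f) A' A' _
  let e₂ : A' ⊗[R] FlatOpen.Quot R Z₀ ≃ₗ[A'] A' ⊗[R₀] (FlatOpen.Vec n r R₀ ⧸ Z₀) :=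
    (TensorProduct.AlgebraTensorModule.congr (LinearEquiv.refl A' A') (FlatOpen.quotEquiv R Z₀).symm).trans
      (TensorProduct.AlgebraTensorModule.cancelBaseChange R₀ R A' A' _)
  exact Module.Free.of_equiv (e₁.trans e₂)

end Groth.Agent.Fibres16.FlatIdeal
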