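import Groth.Prelude.Def_EGA4b
import Groth.Agent.FBase.PointScheme
import Groth.Agent.GeomFieldLib.Corollaries
import Mathlib.AlgebraicGeometry.Fiber
import Mathlib.AlgebraicGeometry.Morphisms.Flat

/-!
# Geometric normality of fibres, read on affine charts

`isGeomNormal_fiber_iff`: for a chart `Spec B → Spec A` of `f : X ⟶ Y` the ring `κ(p) ⊗_A B` is
geometrically normal iff the fibre of `f` is geometrically normal at all points of the chart over `p`.
-/

set_option autoImplicit false
set_option linter.style.haveILetI false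

universe u

open CategoryTheory Limits AlgebraicGeometry TensorProduct

namespace Groth.Agent.Fibres16.GeomNormalChart

open FBase.PointScheme

/-- The fibre of `f` over `y` is geometrically normal at `z`. -/
def GNAt {X Y : Scheme.{u}} (f : X ⟶ Y) (y : Y) (z : f.fiber y) : Prop :=
  ∀ (K : Type u) [Field K] [Algebra (IsLocalRing.ResidueField ↑(Y.presheaf.stalk y)) K],
    Module.Finite (IsLocalRing.ResidueField ↑(Y.presheaf.stalk y)) K →
    ∀ x' : ↥(FBase.bc (f.fiberToSpecResidueField y) K),
      FBase.bcπ (f.fiberToSpecResidueField y) K x' = z →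
      IsDomain ↑((FBase.bc (f.fiberToSpecResidueField y) K).presheaf.stalk x') ∧
        IsIntegrallyClosed ↑((FBase.bc (f.fiberToSpecResidueField y) K).presheaf.stalk x')

theorem gnAt_asFiber_iff {X Y : Scheme.{u}} (f : X ⟶ Y) (x : X) (y : Y) (hy : f x = y) (z : f.fiber y)
    (hz : f.fiberι y z = x) : GNAt f y z ↔ GNAt f (f x) (f.asFiber x) := by
  subst hy
  obtain rfl : z = f.asFiber x :=
    (f.fiberι _).isEmbedding.injective (hz.trans (f.fiberι_asFiber x).symm)
  rfl

/-- Geometric normality does not depend on the field of definition of the fibre. -/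
theorem isGeomNormal_tensor_iff (A B κ k : Type u) [CommRing A] [CommRing B] [Algebra A B] [Field κ] [Field k]
    [Algebra A κ] [Algebra A k] [Algebra κ k] [IsScalarTower A κ k] :
    EGA4.IsGeomNormal k (k ⊗[A] B) ↔ EGA4.IsGeomNormal κ (κ ⊗[A] B) := by
  constructor
  · intro h
    refine GeomFieldLib.isGeomNormal_of_baseChange κ k _ ?_
    intro K _ _ hK
    letI := Algebra.compHom K (algebraMap A k)
    haveI : IsScalarTower A k K := IsScalarTower.of_algebraMap_eq fun _ => rfl
    exact EGA4Lib.isNormalRing_of_ringEquiv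
      (Algebra.TensorProduct.congr (AlgEquiv.refl (R := K))
        (Algebra.TensorProduct.cancelBaseChange A κ k k B).symm).toRingEquiv (h K hK)
  · intro h K _ _ hK
    letI := Algebra.compHom K (algebraMap κ k)
    haveI : IsScalarTower κ k K := IsScalarTower.of_algebraMap_eq fun _ => rfl
    letI := Algebra.compHom K (algebraMap A k)
    haveI : IsScalarTower A k K := IsScalarTower.of_algebraMap_eq fun _ => rfl
    haveI : IsScalarTower A κ K := IsScalarTower.of_algebraMap_eq fun a => by
      show algebraMap k K (algebraMap A k a) = algebraMap k K (algebraMap κ k (algebraMap A κ a))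
      rw [← IsScalarTower.algebraMap_apply A κ k]
    exact EGA4Lib.isNormalRing_of_ringEquiv
      ((Algebra.TensorProduct.cancelBaseChange A κ K K B).toRingEquiv.trans
        (Algebra.TensorProduct.cancelBaseChange A k K K B).symm.toRingEquiv)
      (GeomFieldLib.isNormalRing_tensor_of_isGeomNormal κ _ h K)

/-- Geometric normality of the coordinate ring of an affine open subscheme, pointwise. -/
theorem isGeomNormal_iff_points {k : Type u} [Field k] {F : Scheme.{u}} (g : F ⟶ Spec (CommRingCat.of k))
    {S : Type u} [CommRing S] [Algebra k S] (j : Spec (CommRingCat.of S) ⟶ F) [IsOpenImmersion j]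
    (hj : j ≫ g = Spec.map (CommRingCat.ofHom (algebraMap k S))) :
    EGA4.IsGeomNormal k S ↔ ∀ p : PrimeSpectrum S, ∀ (K : Type u) [Field K] [Algebra k K],
      Module.Finite k K → ∀ x' : ↥(FBase.bc g K), FBase.bcπ g K x' = j p →
        IsDomain ↑((FBase.bc g K).presheaf.stalk x') ∧
          IsIntegrallyClosed ↑((FBase.bc g K).presheaf.stalk x') := by
  constructor
  · intro h p K _ _ hK x' hx'
    obtain ⟨P, -, -, ⟨e⟩⟩ := exists_prime_of_point g j K hj p x' hx'
    have hn : EGA4.IsNormalRing (S ⊗[k] K) :=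
      EGA4Lib.isNormalRing_of_ringEquiv (Algebra.TensorProduct.comm k K S).toRingEquiv (h K hK)
    obtain ⟨hd, hc⟩ := hn P.asIdeal
    haveI := hd; haveI := hc
    exact ⟨MulEquiv.isDomain _ e.toMulEquiv, IsIntegrallyClosed.of_equiv e.symm⟩
  · intro h K _ _ hK
    refine EGA4Lib.isNormalRing_of_ringEquiv (Algebra.TensorProduct.comm k S K).toRingEquiv fun P hP => ?_
    obtain ⟨hd, hc⟩ := h ⟨P.comap (algebraMap S (S ⊗[k] K)), inferInstance⟩ K hK
      (bcChart g j K hj ⟨P, hP⟩) (bcChart_fst_apply g j K hj _ ⟨P, hP⟩ rfl)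
    let e := chartStalkEquiv (bcChart g j K hj) ⟨P, hP⟩
    haveI : IsDomain ((pullback g (FBase.BC.specMap k K)).presheaf.stalk (bcChart g j K hj ⟨P, hP⟩)) := hd
    haveI : IsIntegrallyClosed
        ((pullback g (FBase.BC.specMap k K)).presheaf.stalk (bcChart g j K hj ⟨P, hP⟩)) := hc
    exact ⟨MulEquiv.isDomain _ e.symm.toMulEquiv, IsIntegrallyClosed.of_equiv e⟩

variable {X Y : Scheme.{u}} (f : X ⟶ Y) {A B : Type u} [CommRing A] [CommRing B] [Algebra A B]
  (iV : Spec (CommRingCat.of A) ⟶ Y) [IsOpenImmersion iV]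
  (iU : Spec (CommRingCat.of B) ⟶ X) [IsOpenImmersion iU]
  (sq : iU ≫ f = Spec.map (CommRingCat.ofHom (algebraMap A B)) ≫ iV)

include sq in
/-- An affine chart of a base change to a field. -/
theorem exists_chart_pullback (k : Type u) [Field k] [Algebra A k] (ρ : Spec (CommRingCat.of k) ⟶ Y)
    (hρ : Spec.map (CommRingCat.ofHom (algebraMap A k)) ≫ iV = ρ) :
    ∃ j : Spec (CommRingCat.of (k ⊗[A] B)) ⟶ pullback f ρ, IsOpenImmersion j ∧
      j ≫ pullback.snd f ρ = Spec.map (CommRingCat.ofHom (algebraMap k (k ⊗[A] B))) ∧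
      ∀ z, z ∈ Set.range j ↔ pullback.fst f ρ z ∈ Set.range iU := by
  let m : pullback (Spec.map (CommRingCat.ofHom (algebraMap A B)))
        (Spec.map (CommRingCat.ofHom (algebraMap A k))) ⟶ pullback f ρ :=
    pullback.map _ _ f ρ iU (𝟙 _) iV sq.symm (by rw [Category.id_comp, hρ])
  haveI : IsOpenImmersion m := by unfold m; infer_instance
  let e₁ := (pullbackSpecIso A k B).inv ≫ (pullbackSymmetry (Spec.map (CommRingCat.ofHom (algebraMap A k)))
    (Spec.map (CommRingCat.ofHom (algebraMap A B)))).hom
  refine ⟨e₁ ≫ m, inferInstance, ?_, fun z => ?_⟩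
  · simp only [e₁, m, pullback.map, Category.assoc]
    rw [pullback.lift_snd, Category.comp_id, pullbackSymmetry_hom_comp_snd, pullbackSpecIso_inv_fst]
  · have hs : Function.Surjective e₁ := (Scheme.Hom.homeomorph e₁).surjective
    have hr : Set.range (e₁ ≫ m) = Set.range m := by
      refine subset_antisymm ?_ ?_
      · rintro _ ⟨a, rfl⟩
        exact ⟨e₁ a, (Scheme.Hom.comp_apply e₁ m a).symm⟩
      · rintro _ ⟨a, rfl⟩
        obtain ⟨b, rfl⟩ := hs a
        exact ⟨b, Scheme.Hom.comp_apply e₁ m b⟩
    rw [hr]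
    constructor
    · intro hz
      exact ((Scheme.Pullback.range_map ..).le hz).1
    · intro hz
      exact (Scheme.Pullback.range_map ..).ge ⟨hz, pullback.snd f ρ z, rfl⟩

include sq in
/-- The fibre of an affine chart is geometrically normal iff the fibre of the morphism is geometrically
normal at all its points in the chart. -/
theorem isGeomNormal_fiber_iff (p : PrimeSpectrum A) :
    EGA4.IsGeomNormal p.asIdeal.ResidueField (p.asIdeal.Fiber B) ↔
      ∀ q : PrimeSpectrum B, f (iU q) = iV p → GNAt f (f (iU q)) (f.asFiber (iU q)) := by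
  let y := iV p
  let k := IsLocalRing.ResidueField ↑(Y.presheaf.stalk y)
  have hrange : Set.range (Y.fromSpecResidueField y) ⊆ Set.range iV := by
    rw [Scheme.range_fromSpecResidueField, Set.singleton_subset_iff]
    exact ⟨p, rfl⟩
  let l := IsOpenImmersion.lift iV (Y.fromSpecResidueField y) hrange
  letI : Algebra A k := (Spec.preimage l).hom.toAlgebra
  have hl : Spec.map (CommRingCat.ofHom (algebraMap A k)) = l := Spec.map_preimage l
  have hlk : Spec.map (CommRingCat.ofHom (algebraMap A k)) ≫ iV = Y.fromSpecResidueField y := by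
    rw [hl]; exact IsOpenImmersion.lift_fac ..
  -- the kernel is `p`
  have hker : RingHom.ker (algebraMap A k) = p.asIdeal := by
    have h1 : iV (Spec.map (CommRingCat.ofHom (algebraMap A k)) ⟨⊥, Ideal.isPrime_bot⟩) = iV p := by
      rw [← Scheme.Hom.comp_apply, hlk]
      exact (Scheme.range_fromSpecResidueField y).le ⟨_, rfl⟩
    exact congrArg PrimeSpectrum.asIdeal (iV.isOpenEmbedding.injective h1)
  let θ : p.asIdeal.ResidueField →+* k :=
    IsFractionRing.lift (g := Ideal.Quotient.lift p.asIdeal (algebraMap A k) fun a ha => hker.ge ha)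
      (RingHom.lift_injective_of_ker_le_ideal _ _ hker.le)
  letI : Algebra p.asIdeal.ResidueField k := θ.toAlgebra
  haveI : IsScalarTower A p.asIdeal.ResidueField k := IsScalarTower.of_algebraMap_eq fun a => by
    show _ = θ (algebraMap A p.asIdeal.ResidueField a)
    rw [IsScalarTower.algebraMap_apply A (A ⧸ p.asIdeal) p.asIdeal.ResidueField,
      Ideal.Quotient.algebraMap_eq]
    show _ = IsFractionRing.lift _ _
    rw [IsFractionRing.lift_algebraMap, Ideal.Quotient.lift_mk]
  rw [← isGeomNormal_tensor_iff A B p.asIdeal.ResidueField k]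
  obtain ⟨j, _, hj, hrj⟩ : ∃ j : Spec (CommRingCat.of (k ⊗[A] B)) ⟶ f.fiber y, IsOpenImmersion j ∧
      j ≫ f.fiberToSpecResidueField y = Spec.map (CommRingCat.ofHom (algebraMap k (k ⊗[A] B))) ∧
      ∀ z, z ∈ Set.range j ↔ f.fiberι y z ∈ Set.range iU :=
    exists_chart_pullback f iV iU sq k (Y.fromSpecResidueField y) hlk
  rw [isGeomNormal_iff_points (f.fiberToSpecResidueField y) j hj]
  constructor
  · intro h q hq
    obtain ⟨z, hz⟩ : iU q ∈ Set.range (f.fiberι y) := by
      rw [Scheme.Hom.range_fiberι]; exact hq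
    obtain ⟨p', rfl⟩ := (hrj z).2 ⟨q, hz.symm⟩
    exact (gnAt_asFiber_iff f (iU q) y hq _ hz).1 (h p')
  · intro h p'
    obtain ⟨q, hq⟩ := (hrj (j p')).1 ⟨p', rfl⟩
    have hy : f (iU q) = y := by
      rw [hq]
      exact (f.range_fiberι y).le ⟨_, rfl⟩
    exact (gnAt_asFiber_iff f (iU q) y hy _ hq.symm).2 (h q hy)

include sq in
/-- A chart of a morphism which is flat at every point of the chart is flat. -/
theorem flat_of_stalkMap (h : ∀ q : PrimeSpectrum B, (f.stalkMap (iU q)).hom.Flat) : Module.Flat A B := by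
  have h1 : Flat (iU ≫ f) := Flat.of_stalkMap _ fun q => by
    rw [Scheme.Hom.stalkMap_comp]
    exact (h q).comp (RingHom.Flat.of_bijective (ConcreteCategory.bijective_of_isIso (iU.stalkMap q)))
  rw [sq] at h1
  have h2 : Flat (Spec.map (CommRingCat.ofHom (algebraMap A B))) :=
    Flat.of_stalkMap _ fun q => by
      have h3 := Flat.stalkMap (Spec.map (CommRingCat.ofHom (algebraMap A B)) ≫ iV) q
      rw [Scheme.Hom.stalkMap_comp] at h3
      let e := (asIso (iV.stalkMap (Spec.map (CommRingCat.ofHom (algebraMap A B)) q))).commRingCatIsoToRingEquiv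
      have h4 := (RingHom.Flat.of_bijective e.symm.bijective).comp h3
      convert h4 using 1
      refine RingHom.ext fun x => ?_
      show _ = ((Spec.map (CommRingCat.ofHom (algebraMap A B))).stalkMap q).hom (e (e.symm x))
      rw [e.apply_symm_apply]
  exact RingHom.flat_algebraMap_iff.1 ((HasRingHomProperty.Spec_iff (P := @Flat)).1 h2)

end Groth.Agent.Fibres16.GeomNormalChart
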