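import Groth.Agent.S5923
import Groth.Agent.Fibres16.GeomNormalChart
import Groth.Agent.Fibres16.GUNormal
import Groth.Agent.GrpdLib.FppfSourceDescent

/-!
# Geometrically unibranch local rings in flat families with geometrically normal fibres

`isGeomUnibranch_atPrime_of_fibres` (EGA IV 11.3.13): no Noetherian hypotheses.
-/

set_option autoImplicit false
set_option linter.style.haveILetI false

universe u

open CategoryTheory AlgebraicGeometry TensorProduct

namespace Groth.Agent.Fibres16.GUFibre

open GeomNormalChart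

/-- The stalk at a point of an affine chart. -/
noncomputable def stalkEquiv {X : Scheme.{u}} {R : Type u} [CommRing R] (j : Spec (CommRingCat.of R) ⟶ X)
    [IsOpenImmersion j] (P : PrimeSpectrum R) (x : X) (hx : j P = x) :
    X.presheaf.stalk x ≃+* Localization.AtPrime P.asIdeal :=
  hx ▸ FBase.PointScheme.chartStalkEquiv j P

/-- A flat finitely presented algebra whose fibres are geometrically normal over the image of `T ⊆ Spec A`
is a normal homomorphism near a point over that image. -/
theorem exists_away_isNormalHom {A₀ B₀ : Type u} [CommRing A₀] [CommRing B₀] [Algebra A₀ B₀]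
    [Algebra.FinitePresentation A₀ B₀] [Module.Flat A₀ B₀] (q : Ideal B₀) [q.IsPrime]
    (p₀ : Ideal A₀) [p₀.IsPrime] (hp₀ : q.comap (algebraMap A₀ B₀) = p₀)
    (h : EGA4.IsGeomNormal p₀.ResidueField (p₀.Fiber B₀)) :
    ∃ g : B₀, g ∉ q ∧ EGA4.IsNormalHom A₀ (Localization.Away g) := by
  subst hp₀
  let f := Spec.map (CommRingCat.ofHom (algebraMap A₀ B₀))
  haveI : LocallyOfFinitePresentation f := HasRingHomProperty.Spec_iff.2
    (RingHom.finitePresentation_algebraMap.2 inferInstance)
  haveI : Flat f := HasRingHomProperty.Spec_iff.2 (RingHom.flat_algebraMap_iff.2 inferInstance)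
  let S : Set (Spec (CommRingCat.of B₀)) := {x | (f.stalkMap x).hom.Flat ∧ GNAt f (f x) (f.asFiber x)}
  have hS : IsOpen S := S5923.result f
  have hq : (⟨q, inferInstance⟩ : PrimeSpectrum B₀) ∈ S := by
    refine ⟨Flat.stalkMap f _, ?_⟩
    have hc := (isGeomNormal_fiber_iff f (𝟙 (Spec (CommRingCat.of A₀))) (𝟙 (Spec (CommRingCat.of B₀)))
      (by rw [Category.id_comp, Category.comp_id]) ⟨q.comap (algebraMap A₀ B₀), inferInstance⟩).1 h
      ⟨q, inferInstance⟩ rfl
    exact hc
  obtain ⟨_, ⟨g, rfl⟩, hgq, hgS⟩ := PrimeSpectrum.isTopologicalBasis_basic_opens.exists_subset_of_mem_open hq hS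
  refine ⟨g, hgq, ?_, fun p hp => ?_⟩
  · haveI : Module.Flat B₀ (Localization.Away g) := IsLocalization.flat _ (Submonoid.powers g)
    exact Module.Flat.trans A₀ B₀ _
  let iU := Spec.map (CommRingCat.ofHom (algebraMap B₀ (Localization.Away g)))
  haveI : IsOpenImmersion iU := IsOpenImmersion.of_isLocalization g
  refine (isGeomNormal_fiber_iff f (𝟙 (Spec (CommRingCat.of A₀))) iU ?_ ⟨p, hp⟩).2 fun x _ => ?_
  · simp only [iU, f, Category.comp_id, ← Spec.map_comp, ← CommRingCat.ofHom_comp,
      ← IsScalarTower.algebraMap_eq]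
  · refine (hgS ?_).2
    exact (PrimeSpectrum.localization_away_comap_range (Localization.Away g) g).le ⟨x, rfl⟩

/-- Transfer of geometric unibranchness through a base change presentation of a local ring. -/
theorem isGeomUnibranch_atPrime_of_model {A B A₀ B₀ : Type u} [CommRing A] [CommRing B] [Algebra A B]
    [CommRing A₀] [IsNoetherianRing A₀] [Algebra A₀ A] [Algebra A₀ B] [IsScalarTower A₀ A B]
    [CommRing B₀] [Algebra A₀ B₀] [IsNoetherianRing B₀]
    (e : B ≃ₐ[A] A ⊗[A₀] B₀) (q : Ideal B) [q.IsPrime] (g : B₀) (hg : e.symm (1 ⊗ₜ g) ∉ q)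
    (hn : EGA4.IsNormalHom A₀ (Localization.Away g))
    (hGU : CAlg2.IsGeomUnibranch (Localization.AtPrime (q.comap (algebraMap A B)))) :
    CAlg2.IsGeomUnibranch (Localization.AtPrime q) := by
  let p := q.comap (algebraMap A B)
  let O := Localization.AtPrime p
  let C := Localization.Away g
  haveI : IsNoetherianRing C := IsLocalization.isNoetherianRing (Submonoid.powers g) C inferInstance
  let R := Localization.AtPrime q
  let β : B₀ →ₐ[A₀] B := (e.symm.toAlgHom.restrictScalars A₀).comp Algebra.TensorProduct.includeRight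
  let φA : O →ₐ[A₀] R :=
    { Localization.localRingHom p q (algebraMap A B) rfl with
      commutes' := fun a => by
        show Localization.localRingHom p q (algebraMap A B) rfl (algebraMap A₀ O a) = _
        rw [IsScalarTower.algebraMap_apply A₀ A O, Localization.localRingHom_to_map,
          ← IsScalarTower.algebraMap_apply A₀ A B, ← IsScalarTower.algebraMap_apply A₀ B R] }
  have hunit : ∀ y : Submonoid.powers g, IsUnit (((IsScalarTower.toAlgHom A₀ B R).comp β) y) := by
    rintro ⟨_, n, rfl⟩
    show IsUnit (algebraMap B R (β (g ^ n)))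
    rw [map_pow, map_pow]
    exact ((IsLocalization.AtPrime.isUnit_to_map_iff R q _).2 hg).pow n
  let φC : C →ₐ[A₀] R := IsLocalization.liftAlgHom (M := Submonoid.powers g) hunit
  let θ : O ⊗[A₀] C →ₐ[A₀] R := Algebra.TensorProduct.lift φA φC fun _ _ => Commute.all _ _
  let Q : Ideal (O ⊗[A₀] C) := (IsLocalRing.maximalIdeal R).comap θ
  haveI : Q.IsPrime := Ideal.IsPrime.comap _
  have hQ : Q.comap (algebraMap O (O ⊗[A₀] C)) = IsLocalRing.maximalIdeal O := by
    ext x
    show θ (x ⊗ₜ 1) ∈ IsLocalRing.maximalIdeal R ↔ _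
    rw [Algebra.TensorProduct.lift_tmul, map_one, mul_one, IsLocalRing.mem_maximalIdeal,
      IsLocalRing.mem_maximalIdeal]
    exact map_mem_nonunits_iff (Localization.localRingHom p q (algebraMap A B) rfl) x
  refine GUPoly.isGeomUnibranch_congr ?_ (GUNormal.baseChange hn O hGU Q hQ).1
  -- the two local rings agree
  let θQ : Localization.AtPrime Q →+* R := IsLocalization.lift (M := Q.primeCompl) (g := θ.toRingHom)
    fun y => IsLocalRing.notMem_maximalIdeal.1 y.2
  let γ : B →+* O ⊗[A₀] C := (Algebra.TensorProduct.map (IsScalarTower.toAlgHom A₀ A O)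
    (IsScalarTower.toAlgHom A₀ B₀ C)).toRingHom.comp e.toRingEquiv.toRingHom
  have hθγ : ∀ b, θ (γ b) = algebraMap B R b := by
    intro b
    obtain ⟨t, rfl⟩ := e.symm.surjective b
    show θ (Algebra.TensorProduct.map _ _ (e (e.symm t))) = _
    rw [AlgEquiv.apply_symm_apply]
    induction t with
    | zero => simp
    | tmul a c =>
      show θ (algebraMap A O a ⊗ₜ algebraMap B₀ C c) = _
      rw [Algebra.TensorProduct.lift_tmul]
      show Localization.localRingHom p q (algebraMap A B) rfl (algebraMap A O a) *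
        φC (algebraMap B₀ C c) = _
      rw [Localization.localRingHom_to_map]
      have h1 : φC (algebraMap B₀ C c) = algebraMap B R (β c) := IsLocalization.lift_eq hunit c
      rw [h1, ← map_mul, ← Algebra.smul_def]
      show algebraMap B R (a • e.symm (1 ⊗ₜ c)) = _
      rw [← map_smul, TensorProduct.smul_tmul', smul_eq_mul, mul_one]
    | add x y hx hy => simp only [map_add, hx, hy]
  let ω : R →+* Localization.AtPrime Q := IsLocalization.lift (M := q.primeCompl)
    (g := (algebraMap _ (Localization.AtPrime Q)).comp γ) fun y => IsLocalization.map_units (Localization.AtPrime Q)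
      (⟨γ y, fun hm => y.2 (by
        have : θ (γ (y : B)) ∈ IsLocalRing.maximalIdeal R := hm
        rw [hθγ] at this
        exact (IsLocalization.AtPrime.to_map_mem_maximal_iff R q _).1 this)⟩ : Q.primeCompl)
  have h1 : θQ.comp ω = RingHom.id R := IsLocalization.ringHom_ext q.primeCompl <| RingHom.ext fun b => by
    simp only [RingHom.comp_apply, RingHom.id_apply, ω, θQ, IsLocalization.lift_eq]
    exact hθγ b
  have h2 : ω.comp θQ = RingHom.id _ := by
    refine IsLocalization.ringHom_ext Q.primeCompl ?_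
    let ι := (algebraMap (O ⊗[A₀] C) (Localization.AtPrime Q))
    refine Algebra.TensorProduct.ringHom_ext ?_ ?_
    · refine IsLocalization.ringHom_ext p.primeCompl (RingHom.ext fun a => ?_)
      show ω (θQ (ι (algebraMap A O a ⊗ₜ 1))) = ι (algebraMap A O a ⊗ₜ 1)
      rw [IsLocalization.lift_eq]
      show ω (θ (algebraMap A O a ⊗ₜ 1)) = _
      rw [Algebra.TensorProduct.lift_tmul, map_one, mul_one]
      show ω (Localization.localRingHom p q (algebraMap A B) rfl (algebraMap A O a)) = _
      rw [Localization.localRingHom_to_map, IsLocalization.lift_eq]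
      show ι (γ (algebraMap A B a)) = _
      congr 1
      show Algebra.TensorProduct.map _ _ (e (algebraMap A B a)) = _
      rw [AlgEquiv.commutes, Algebra.TensorProduct.algebraMap_apply, Algebra.algebraMap_self,
        RingHom.id_apply, Algebra.TensorProduct.map_tmul, map_one]
      rfl
    · refine IsLocalization.ringHom_ext (Submonoid.powers g) (RingHom.ext fun c => ?_)
      show ω (θQ (ι (1 ⊗ₜ algebraMap B₀ C c))) = ι (1 ⊗ₜ algebraMap B₀ C c)
      rw [IsLocalization.lift_eq]
      show ω (θ (1 ⊗ₜ algebraMap B₀ C c)) = _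
      rw [Algebra.TensorProduct.lift_tmul, map_one, one_mul]
      show ω (φC (algebraMap B₀ C c)) = _
      rw [show φC (algebraMap B₀ C c) = algebraMap B R (β c) from IsLocalization.lift_eq hunit c,
        IsLocalization.lift_eq]
      show ι (γ (e.symm (1 ⊗ₜ c))) = _
      congr 1
      show Algebra.TensorProduct.map _ _ (e (e.symm (1 ⊗ₜ c))) = _
      rw [AlgEquiv.apply_symm_apply, Algebra.TensorProduct.map_tmul, map_one]
      rfl
  exact RingEquiv.ofRingHom θQ ω h1 h2

/-- EGA IV 11.3.13 (normal morphisms of finite presentation preserve geometric unibranchness). -/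
theorem isGeomUnibranch_atPrime_of_fibres {A B : Type u} [CommRing A] [CommRing B] [Algebra A B]
    [Algebra.FinitePresentation A B] [Module.Flat A B]
    (hfib : ∀ (p : Ideal A) [p.IsPrime], EGA4.IsGeomNormal p.ResidueField (p.Fiber B)) (q : Ideal B) [q.IsPrime]
    (hGU : CAlg2.IsGeomUnibranch (Localization.AtPrime (q.comap (algebraMap A B)))) :
    CAlg2.IsGeomUnibranch (Localization.AtPrime q) := by
  obtain ⟨A₀, B₀, _, _, hA₀, _, _, ⟨e⟩⟩ := GrpdLib.FppfSourceDescent.exists_flat_model A B
  haveI : Algebra.FiniteType ℤ A₀ := (Subalgebra.fg_iff_finiteType A₀).1 hA₀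
  haveI : IsNoetherianRing A₀ := Algebra.FiniteType.isNoetherianRing ℤ A₀
  haveI : IsNoetherianRing B₀ := Algebra.FiniteType.isNoetherianRing A₀ B₀
  let β : B₀ →ₐ[A₀] B := (e.symm.toAlgHom.restrictScalars A₀).comp Algebra.TensorProduct.includeRight
  let q₀ := q.comap β.toRingHom
  let p := q.comap (algebraMap A B)
  have hp₀ : p.comap (algebraMap A₀ A) = q₀.comap (algebraMap A₀ B₀) := by
    rw [Ideal.comap_comap, Ideal.comap_comap, ← IsScalarTower.algebraMap_eq]
    congr 1
    exact β.comp_algebraMap.symm
  letI := EGA4Lib.residueAlgebra (A := A₀) p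
  obtain ⟨i⟩ := EGA4Lib.nonempty_fiber_baseChange e p
  have h₀ : EGA4.IsGeomNormal (p.comap (algebraMap A₀ A)).ResidueField
      ((p.comap (algebraMap A₀ A)).Fiber B₀) :=
    GeomFieldLib.isGeomNormal_of_baseChange _ p.ResidueField _
      (EGA4Lib.isGeomNormal_congr p.ResidueField _ i (hfib p))
  obtain ⟨g, hg, hn⟩ := exists_away_isNormalHom q₀ _ hp₀.symm h₀
  exact isGeomUnibranch_atPrime_of_model e q g hg hn hGU

end Groth.Agent.Fibres16.GUFibre
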