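import Groth.Agent.Fibres16.SmoothLocus
import Groth.Agent.GeomFieldLib.CMTensor
import Groth.Agent.GeomLoc.Ring
import Groth.Agent.RegLoc.Serre
import Groth.Agent.RegLoc.SupportDim
import Groth.Agent.EGA4Lib.StrictlyCatenaryEFT

/-!
# Geometric normality at a point: geometric `(R_1)` and `(S_2)`
-/

set_option autoImplicit false
set_option linter.style.haveILetI false

universe u

open CategoryTheory Limits AlgebraicGeometry TensorProduct IsLocalRing
open Groth.Agent.FBase

namespace Groth.Agent.Fibres16.GeomNormal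

theorem hasSk_one_iff_minimal (R : Type u) [CommRing R] [IsNoetherianRing R] :
    LocCoh.HasSk 1 R R ↔ ∀ p ∈ associatedPrimes R R, p ∈ minimalPrimes R := by
  rw [RegLoc.SupportDim.hasSk_one_iff,
    show Module.annihilator R R = ⊥ from Module.annihilator_eq_bot.2 inferInstance]

theorem isEquidim_of_isDomain (R : Type u) [CommRing R] [IsDomain R] : EGA4.IsEquidim R := by
  intro p hp
  rw [IsDomain.minimalPrimes_eq_singleton_bot] at hp
  rw [Set.mem_singleton_iff.1 hp]
  exact ringKrullDim_eq_of_ringEquiv (RingEquiv.quotientBot R)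

/-- The local normal rings satisfy the two conditions of Serre. -/
theorem rk_sk_of_normal (R : Type u) [CommRing R] [IsNoetherianRing R] [IsLocalRing R]
    (h : IsDomain R ∧ IsIntegrallyClosed R) : LocCoh.HasRk 1 R ∧ LocCoh.HasSk 2 R R := by
  haveI := h.1
  haveI := h.2
  refine RegLoc.Serre.serre_criterion.1 fun p _ =>
    ⟨IsLocalization.isDomain_localization p.primeCompl_le_nonZeroDivisors, ?_⟩
  exact isIntegrallyClosed_of_isLocalization _ p.primeCompl p.primeCompl_le_nonZeroDivisors

theorem normal_of_rk_sk (R : Type u) [CommRing R] [IsNoetherianRing R] [IsLocalRing R]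
    (h1 : LocCoh.HasRk 1 R) (h2 : LocCoh.HasSk 2 R R) : IsDomain R ∧ IsIntegrallyClosed R := by
  obtain ⟨hd, hc⟩ := RegLoc.Serre.serre_criterion.2 ⟨h1, h2⟩ (IsLocalRing.maximalIdeal R)
  let e : R ≃+* Localization.AtPrime (IsLocalRing.maximalIdeal R) :=
    (IsLocalization.atUnits R (IsLocalRing.maximalIdeal R).primeCompl (fun x hx => by
      exact not_not.1 hx)).toRingEquiv
  exact ⟨e.toMulEquiv.isDomain, IsIntegrallyClosed.of_equiv e.symm⟩

variable {Z : Scheme.{u}} {k : Type u} [Field k] (f : Z ⟶ Spec (CommRingCat.of k))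

/-- EGA IV 6.7.7: geometric normality at a point. -/
theorem geomNormal_iff [LocallyOfFiniteType f] [LocallyOfFinitePresentation f] (x : Z) :
    (∀ (K : Type u) [Field K] [Algebra k K], Module.Finite k K → ∀ x' : ↥(FBase.bc f K),
      (FBase.bcπ f K).base x' = x →
        IsDomain ((FBase.bc f K).presheaf.stalk x') ∧ IsIntegrallyClosed ((FBase.bc f K).presheaf.stalk x')) ↔
    (∀ (K : Type u) [Field K] [Algebra k K], Module.Finite k K → ∀ x' : ↥(FBase.bc f K),
      (FBase.bcπ f K).base x' = x → LocCoh.HasRk 1 ((FBase.bc f K).presheaf.stalk x')) ∧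
      EGA4.IsEquidim (Z.presheaf.stalk x) ∧ LocCoh.HasSk 2 (Z.presheaf.stalk x) (Z.presheaf.stalk x) := by
  letI : Z.Over (Spec (CommRingCat.of k)) := ⟨f⟩
  haveI : LocallyOfFiniteType (Z ↘ Spec (CommRingCat.of k)) := ‹LocallyOfFiniteType f›
  haveI := LocallyOfFiniteType.isLocallyNoetherian f
  have hN : ∀ (K : Type u) [Field K] [Algebra k K], Module.Finite k K → IsLocallyNoetherian (FBase.bc f K) := by
    intro K _ _ _
    have hp : LocallyOfFiniteType (pullback.snd f (Spec.map (CommRingCat.ofHom (algebraMap k K)))) :=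
      MorphismProperty.pullback_snd _ _ ‹LocallyOfFiniteType f›
    exact @LocallyOfFiniteType.isLocallyNoetherian _ _ _ hp inferInstance
  constructor
  · intro h
    haveI : IsIso (Spec.map (CommRingCat.ofHom (algebraMap k k))) := by
      rw [show CommRingCat.ofHom (algebraMap k k) = 𝟙 _ from rfl, Spec.map_id]
      infer_instance
    haveI : IsIso (FBase.bcπ f k) := inferInstanceAs (IsIso (pullback.fst f _))
    obtain ⟨x', hx'⟩ := (FBase.bcπ f k).surjective x
    have h0 := h k inferInstance x' hx'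
    subst hx'
    let e := PointScheme.openStalkEquiv (FBase.bcπ f k) x'
    haveI := h0.1
    haveI : IsDomain (Z.presheaf.stalk (FBase.bcπ f k x')) := e.toMulEquiv.isDomain
    haveI : IsIntegrallyClosed (Z.presheaf.stalk (FBase.bcπ f k x')) :=
      haveI := h0.2; IsIntegrallyClosed.of_equiv e.symm
    refine ⟨fun K _ _ hK y hy => ?_, isEquidim_of_isDomain _, (rk_sk_of_normal _ ⟨‹_›, ‹_›⟩).2⟩
    haveI := hN K hK
    exact (rk_sk_of_normal _ (h K hK y hy)).1
  · rintro ⟨hR, -, hS⟩ K _ _ hK x' hx'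
    haveI := hN K hK
    refine normal_of_rk_sk _ (hR K hK x' hx') ?_
    obtain ⟨A, _, _, j, p, e, hjo, rfl, hj, -⟩ := GeomLoc.exists_chart k Z x
    haveI := GeomLoc.finiteType_of_chart j hj
    haveI : IsNoetherianRing A := Algebra.FiniteType.isNoetherianRing k A
    haveI : IsNoetherianRing (Localization.AtPrime p.asIdeal) :=
      IsLocalization.isNoetherianRing p.asIdeal.primeCompl _ inferInstance
    have hS' : LocCoh.HasSk 2 (Localization.AtPrime p.asIdeal) (Localization.AtPrime p.asIdeal) :=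
      GeomFieldLib.hasSk_of_ringEquiv 2 e hS
    have hT : LocCoh.HasSk 2 (Localization.AtPrime p.asIdeal ⊗[k] K) (Localization.AtPrime p.asIdeal ⊗[k] K) :=
      GeomFieldLib.hasSk_of_ringEquiv 2 (Algebra.TensorProduct.comm k K (Localization.AtPrime p.asIdeal)).toRingEquiv
        (GeomFieldLib.hasSk_tensor_finite 2 k K _ hS')
    exact (GeomLoc.point_iff j hj p K (fun R _ => LocCoh.HasSk 2 R R)
      (fun R S _ _ e h => GeomFieldLib.hasSk_of_ringEquiv 2 e h)).2
      (fun P _ hP => GeomLoc.forall_over_of_all (k := k) p.asIdeal K (fun R _ => LocCoh.HasSk 2 R R)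
        (fun R S _ _ e h => GeomFieldLib.hasSk_of_ringEquiv 2 e h)
        (fun Q _ => EGA4Lib.hasSk_of_isLocalization 2 _ Q.primeCompl hT) P hP) x' hx'

end Groth.Agent.Fibres16.GeomNormal
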