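import Groth.Agent.LenLib.Index
import Groth.Agent.LenLib.Localized
import Groth.Agent.LenLib.Matrix
import Mathlib.RingTheory.HopkinsLevitzki
import Mathlib.RingTheory.Ideal.AssociatedPrime.Finiteness
import Mathlib.RingTheory.Filtration
import Mathlib.RingTheory.Support

/-!
# Lengths along a regular element

`sum_length_localized_le`: for a regular element `t` cutting the support down to the closed point, the lengths at
minimal primes avoiding `t` add up to at most the length of `M / t M`.
`maximalIdeal_mem_ass_quotient`: a minimal prime over `p + (t)`, `p` associated to `M`, is associated to `M / t M`.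
-/

set_option autoImplicit false
set_option linter.style.haveILetI false

universe u v

open Function LinearMap IsLocalRing Groth.Agent.LenLib

namespace Groth.Agent.Fibres16.LengthReg

variable {R : Type u} [CommRing R] [IsNoetherianRing R] [IsLocalRing R]

theorem length_quotient_ne_top (J : Ideal R) (h : ∀ q : Ideal R, q.IsPrime → J ≤ q → q = maximalIdeal R) :
    Module.length R (R ⧸ J) ≠ ⊤ := by
  haveI : Ring.KrullDimLE 0 (R ⧸ J) := Ring.KrullDimLE.mk₀ fun I hI => by
    have h1 := h (I.comap (Ideal.Quotient.mk J)) inferInstance (fun a ha => by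
      rw [Ideal.mem_comap, Ideal.Quotient.eq_zero_iff_mem.2 ha]; exact I.zero_mem)
    rw [← Ideal.map_comap_of_surjective _ Ideal.Quotient.mk_surjective I, h1]
    refine (Ideal.map_eq_top_or_isMaximal_of_surjective _ Ideal.Quotient.mk_surjective
      (maximalIdeal.isMaximal R)).resolve_left ?_
    rw [← h1, Ideal.map_comap_of_surjective _ Ideal.Quotient.mk_surjective I]
    exact hI.ne_top
  haveI : IsArtinianRing (R ⧸ J) := isArtinianRing_iff_isNoetherianRing_krullDimLE_zero.2 ⟨inferInstance, inferInstance⟩
  rw [Module.length_eq_of_surjective (R := R ⧸ J) Ideal.Quotient.mk_surjective]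
  exact Module.length_ne_top

variable {M : Type v} [AddCommGroup M] [Module R M] [Module.Finite R M]

theorem motive (t : R) (htm : t ∈ maximalIdeal R) (P : Finset (PrimeSpectrum R))
    (hsupp : ∀ q : Ideal R, q.IsPrime → Module.annihilator R M ≤ q → t ∈ q → q = maximalIdeal R)
    (hP : ∀ p ∈ P, p.asIdeal ∈ (Module.annihilator R M).minimalPrimes ∧ t ∉ p.asIdeal)
    (N : Type v) [AddCommGroup N] [Module R N] (hN : Module.Finite R N) :
    Module.annihilator R M ≤ Module.annihilator R N →
      HasIndex (smulEnd t N) ∧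
      (∀ p ∈ P, Module.length (Localization p.asIdeal.primeCompl) (LocalizedModule p.asIdeal.primeCompl N) ≠ ⊤) ∧
      ∑ p ∈ P, lenZ (Localization p.asIdeal.primeCompl) (LocalizedModule p.asIdeal.primeCompl N) ≤
        index (smulEnd t N) := by
  classical
  induction hN using IsNoetherianRing.induction_on_isQuotientEquivQuotientPrime R with
  | subsingleton N =>
    intro _
    have hb : Bijective (smulEnd t N) :=
      ⟨fun _ _ _ => Subsingleton.elim _ _, fun y => ⟨y, Subsingleton.elim _ _⟩⟩
    refine ⟨hasIndex_of_bijective hb, fun p _ => by simp [Module.length_eq_zero], ?_⟩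
    simp [index_of_bijective hb, lenZ, Module.length_eq_zero]
  | quotient N q e =>
    intro hann
    have hq : Module.annihilator R M ≤ q.1 := by
      rw [e.annihilator_eq, Ideal.annihilator_quotient] at hann
      exact hann
    have h0 : ∀ p : PrimeSpectrum R, ¬ q.1 ≤ p.asIdeal →
        Module.length (Localization p.asIdeal.primeCompl) (LocalizedModule p.asIdeal.primeCompl N) = 0 :=
      fun p hp => length_localized_quotient_eq_zero p.asIdeal q.1 e hp
    have hsame : ∀ p ∈ P, q.1 ≤ p.asIdeal → p = q := fun p hp hle =>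
      PrimeSpectrum.ext (le_antisymm ((hP p hp).1.2 ⟨q.2, hq⟩ hle) hle)
    have h1 : Module.length (Localization q.asIdeal.primeCompl) (LocalizedModule q.asIdeal.primeCompl N) = 1 :=
      length_localized_quotient_eq_one q.asIdeal e
    have hfin : ∀ p ∈ P, Module.length (Localization p.asIdeal.primeCompl) (LocalizedModule p.asIdeal.primeCompl N) ≠ ⊤ := by
      intro p hp
      by_cases hle : q.1 ≤ p.asIdeal
      · rw [hsame p hp hle, h1]; exact ENat.one_ne_top
      · rw [h0 p hle]; exact ENat.zero_ne_top
    have hsum : ∑ p ∈ P, lenZ (Localization p.asIdeal.primeCompl) (LocalizedModule p.asIdeal.primeCompl N) ≤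
        if t ∈ q.1 then 0 else 1 := by
      by_cases hqP : q ∈ P
      · rw [if_neg (hP q hqP).2, Finset.sum_eq_single q]
        · simp [lenZ, h1]
        · intro p hp hne
          simp [lenZ, h0 p fun hle => hne (hsame p hp hle)]
        · exact fun h => absurd hqP h
      · rw [Finset.sum_eq_zero]
        · split_ifs <;> norm_num
        · intro p hp
          simp [lenZ, h0 p fun hle => hqP (hsame p hp hle ▸ hp)]
    by_cases htq : t ∈ q.1
    · have hqm : q.1 = maximalIdeal R := hsupp q.1 q.2 hq htq
      have hlen : Module.length R N ≠ ⊤ := by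
        rw [e.length_eq]
        exact length_quotient_ne_top q.1 fun p hp hle =>
          (le_antisymm (le_maximalIdeal hp.ne_top) (hqm ▸ hle))
      refine ⟨hasIndex_of_finite hlen hlen, hfin, ?_⟩
      rw [index_of_finite hlen hlen, sub_self]
      rwa [if_pos htq] at hsum
    · have hinj : Injective (smulEnd t N) := by
        refine (injective_iff_map_eq_zero _).2 fun x hx => e.injective ?_
        obtain ⟨a, ha⟩ := Ideal.Quotient.mk_surjective (e x)
        have hx' : e (t • x) = 0 := by rw [show t • x = 0 from hx, map_zero]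
        rw [map_smul, ← ha, Algebra.smul_def, Ideal.Quotient.algebraMap_eq, ← map_mul,
          Ideal.Quotient.eq_zero_iff_mem] at hx'
        rw [← ha, map_zero, Ideal.Quotient.eq_zero_iff_mem]
        exact (q.2.mem_or_mem hx').resolve_left htq
      have hJ : Module.length R (R ⧸ (q.1 ⊔ Ideal.span {t})) ≠ ⊤ :=
        length_quotient_ne_top _ fun p hp hle => hsupp p hp (hq.trans (le_sup_left.trans hle))
          (hle (Ideal.mem_sup_right (Ideal.mem_span_singleton_self t)))
      have hmap : (range (smulEnd t N)).map (e : N →ₗ[R] R ⧸ q.1) =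
          Submodule.map (Submodule.mkQ q.1) (q.1 ⊔ Ideal.span {t}) := by
        ext y
        constructor
        · rintro ⟨_, ⟨x, rfl⟩, rfl⟩
          obtain ⟨a, ha⟩ := Ideal.Quotient.mk_surjective (e x)
          refine ⟨t * a, Ideal.mem_sup_right (Ideal.mul_mem_right _ _ (Ideal.mem_span_singleton_self t)), ?_⟩
          show Ideal.Quotient.mk q.1 (t * a) = e (t • x)
          rw [map_smul, ← ha, Algebra.smul_def, Ideal.Quotient.algebraMap_eq, map_mul]
        · rintro ⟨b, hb, rfl⟩
          obtain ⟨c, hc, d, hd, rfl⟩ := Submodule.mem_sup.1 hb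
          obtain ⟨a, rfl⟩ := Ideal.mem_span_singleton'.1 hd
          refine ⟨_, ⟨e.symm (Ideal.Quotient.mk q.1 a), rfl⟩, ?_⟩
          show e (t • e.symm (Ideal.Quotient.mk q.1 a)) = Ideal.Quotient.mk q.1 (c + a * t)
          rw [map_smul, e.apply_symm_apply, Algebra.smul_def, Ideal.Quotient.algebraMap_eq, map_add,
            Ideal.Quotient.eq_zero_iff_mem.2 hc, zero_add, map_mul, mul_comm]
      have heq : Module.length R (N ⧸ range (smulEnd t N)) = Module.length R (R ⧸ (q.1 ⊔ Ideal.span {t})) := by
        rw [(Submodule.Quotient.equiv _ _ e hmap).length_eq,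
          (Submodule.quotientQuotientEquivQuotient q.1 (q.1 ⊔ Ideal.span {t}) le_sup_left).length_eq]
      have hidx : index (smulEnd t N) = lenZ R (R ⧸ (q.1 ⊔ Ideal.span {t})) := by
        rw [index_of_injective hinj, lenZ, lenZ, heq]
      refine ⟨⟨?_, heq ▸ hJ⟩, hfin, ?_⟩
      · haveI : Subsingleton (ker (smulEnd t N)) := by
          rw [Submodule.subsingleton_iff_eq_bot]; exact ker_eq_bot.2 hinj
        simp [Module.length_eq_zero]
      · rw [hidx]
        refine hsum.trans ?_
        rw [if_neg htq, lenZ]
        have hne : Module.length R (R ⧸ (q.1 ⊔ Ideal.span {t})) ≠ 0 := by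
          rw [Ne, Module.length_eq_zero_iff, not_subsingleton_iff_nontrivial, Submodule.Quotient.nontrivial_iff]
          intro h
          have htm : t ∈ maximalIdeal R := htm
          exact (maximalIdeal.isMaximal R).ne_top (top_le_iff.1 (h ▸ sup_le (le_maximalIdeal q.2.ne_top)
            ((Ideal.span_singleton_le_iff_mem _).2 htm)))
        exact_mod_cast Nat.one_le_iff_ne_zero.2 fun h => (ENat.toNat_eq_zero.1 h).elim hne hJ
  | exact N₁ N₂ N₃ f g hf hg hfg h₁ h₃ =>
    intro hann
    obtain ⟨a1, b1, c1⟩ := h₁ (hann.trans (f.annihilator_le_of_injective hf))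
    obtain ⟨a3, b3, c3⟩ := h₃ (hann.trans (g.annihilator_le_of_surjective hg))
    obtain ⟨a2, e2⟩ := hasIndex_index_of_ladder (i₁ := smulEnd t N₁) (i₂ := smulEnd t N₂) (i₃ := smulEnd t N₃)
      hf hfg hg hf hfg hg (by apply LinearMap.ext; intro x; simp) (by apply LinearMap.ext; intro x; simp) a1 a3
    refine ⟨a2, fun p hp => ?_, ?_⟩
    · rw [length_localized_add p.asIdeal.primeCompl f g hf hg hfg, ne_eq, ENat.add_eq_top]
      exact not_or.2 ⟨b1 p hp, b3 p hp⟩
    · rw [e2]
      refine le_trans (le_of_eq ?_) (add_le_add c1 c3)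
      rw [← Finset.sum_add_distrib]
      refine Finset.sum_congr rfl fun p hp => ?_
      simp only [lenZ]
      rw [length_localized_add p.asIdeal.primeCompl f g hf hg hfg, ENat.toNat_add (b1 p hp) (b3 p hp)]
      push_cast; ring

/-- Lengths at minimal primes avoiding a regular element are bounded by the length modulo that element. -/
theorem sum_length_localized_le (t : R) (htm : t ∈ maximalIdeal R) (hreg : Injective fun x : M => t • x) (P : Finset (PrimeSpectrum R))
    (hsupp : ∀ q : Ideal R, q.IsPrime → Module.annihilator R M ≤ q → t ∈ q → q = maximalIdeal R)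
    (hP : ∀ p ∈ P, p.asIdeal ∈ (Module.annihilator R M).minimalPrimes ∧ t ∉ p.asIdeal) :
    ∑ p ∈ P, Module.length (Localization p.asIdeal.primeCompl) (LocalizedModule p.asIdeal.primeCompl M) ≤
      Module.length R (M ⧸ range (smulEnd t M)) := by
  obtain ⟨h1, h2, h3⟩ := motive t htm P hsupp hP M inferInstance le_rfl
  rw [index_of_injective (f := smulEnd t M) hreg] at h3
  simp only [lenZ] at h3
  have h4 : ∀ p ∈ P, Module.length (Localization p.asIdeal.primeCompl) (LocalizedModule p.asIdeal.primeCompl M) =
      ((Module.length (Localization p.asIdeal.primeCompl) (LocalizedModule p.asIdeal.primeCompl M)).toNat : ℕ∞) :=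
    fun p hp => (ENat.coe_toNat (h2 p hp)).symm
  rw [Finset.sum_congr rfl h4, ← ENat.coe_toNat h1.2, ← Nat.cast_sum, Nat.cast_le]
  exact_mod_cast h3

/-- A minimal prime over `p + (t)` with `p` associated to `M` and `t` regular is associated to `M / t M`. -/
theorem maximalIdeal_mem_ass_quotient (t : R) (ht : t ∈ maximalIdeal R) (hreg : Injective fun x : M => t • x)
    {p : Ideal R} (hp : IsAssociatedPrime p M)
    (hmin : ∀ q : Ideal R, q.IsPrime → p ≤ q → t ∈ q → q = maximalIdeal R) :
    IsAssociatedPrime (maximalIdeal R) (M ⧸ range (smulEnd t M)) := by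
  let N : Submodule R M := Submodule.torsionBySet R M (p : Set R)
  have hN : N ≠ ⊥ := by
    obtain ⟨x, hx⟩ := (isAssociatedPrime_iff.1 hp).2
    intro h
    have hxN : x ∈ N := (Submodule.mem_torsionBySet_iff _ _).2 fun a => by
      have := a.2
      simp only [hx, SetLike.mem_coe] at this
      simpa using this
    rw [h, Submodule.mem_bot] at hxN
    subst hxN
    exact hp.isPrime.ne_top (by rw [hx]; simp)
  obtain ⟨a, haN, ha⟩ : ∃ a ∈ N, a ∉ range (smulEnd t M) := by
    by_contra! h
    refine hN (Submodule.eq_bot_of_le_smul_of_le_jacobson_bot (Ideal.span {t}) N (IsNoetherian.noetherian N) ?_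
      (((Ideal.span_singleton_le_iff_mem _).2 ht).trans (IsLocalRing.jacobson_eq_maximalIdeal ⊥ bot_ne_top).ge))
    intro a ha
    obtain ⟨b, rfl⟩ := h a ha
    refine Submodule.smul_mem_smul (Ideal.mem_span_singleton_self t) ((Submodule.mem_torsionBySet_iff _ _).2 fun c => ?_)
    refine hreg ?_
    show t • (c : R) • b = t • (0 : M)
    rw [smul_zero, smul_comm]
    exact (Submodule.mem_torsionBySet_iff _ _).1 ha c
  have hne : (Submodule.Quotient.mk a : M ⧸ range (smulEnd t M)) ≠ 0 := fun h =>
    ha ((Submodule.Quotient.mk_eq_zero _).1 h)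
  obtain ⟨Q, hQ, hle⟩ := exists_le_isAssociatedPrime_of_isNoetherianRing R _ hne
  refine (hmin Q hQ.isPrime (fun c hc => hle ?_) (hle ?_)) ▸ hQ
  · rw [Submodule.mem_colon_singleton, Submodule.mem_bot, ← Submodule.Quotient.mk_smul,
      (Submodule.mem_torsionBySet_iff _ _).1 haN ⟨c, hc⟩, Submodule.Quotient.mk_zero]
  · rw [Submodule.mem_colon_singleton, Submodule.mem_bot, ← Submodule.Quotient.mk_smul,
      Submodule.Quotient.mk_eq_zero]
    exact ⟨a, rfl⟩

end Groth.Agent.Fibres16.LengthReg
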