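import Groth.Agent.FlatOpen.MapOpen
import Mathlib.RingTheory.IsTensorProduct

/-!
# "Injective with flat cokernel" descends along base change (algebra for EGA IV 11.2.6, 11.3.x)

`Good R q`: for a presented map over an `R₀`-algebra `R`, the map is injective at the prime `q` of
`R[x]` and its cokernel is flat at `q`.

* `exists_model_good`: `Good R q` holds at every base change of a suitable fg subalgebra.
* `exists_baseChange_equiv`: presentations are compatible with base change.
* `good_iff`: translation for a map of presented modules.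
-/

set_option autoImplicit false
set_option linter.style.haveILetI false
set_option linter.unusedSectionVars false

universe u

open TensorProduct Function

namespace Groth.Agent.Fibres16.LimCritAlg

open Groth.Agent.FlatOpen

variable {n r a : ℕ} {R₀ : Type u} [CommRing R₀]
  (U₀ : Fin a → Vec n r R₀) (Z₀ : Submodule (MvPolynomial (Fin n) R₀) (Vec n r R₀))
  (Z₀' : Submodule (MvPolynomial (Fin n) R₀) (Vec n a R₀))

/-- Injective at `q` with flat cokernel at `q`. -/
def Good (R : Type u) [CommRing R] [Algebra R₀ R] (q : Ideal (MvPolynomial (Fin n) R)) [q.IsPrime] :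
    Prop :=
  FlatCA.FlatAt R q (Quot R (cokerRel U₀ Z₀)) ∧
    ∀ v : Vec n a R, mapU U₀ R v ∈ ext R Z₀ → ∃ s ∉ q, s • v ∈ ext R Z₀'

/-- A vector in the extended submodule is defined over a finitely generated subalgebra. -/
theorem exists_fg_mem_ext (R : Type u) [CommRing R] [Algebra R₀ R] {m : ℕ}
    (Z : Submodule (MvPolynomial (Fin n) R₀) (Vec n m R₀)) {y : Vec n m R} (hy : y ∈ ext R Z) :
    ∃ S : Subalgebra R₀ R, S.FG ∧ ∀ S' : Subalgebra R₀ R, S ≤ S' →
      ∃ y' ∈ ext S' Z, mapVec (R₀ := S') R y' = y := by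
  classical
  induction hy using Submodule.span_induction with
  | mem y hy =>
    obtain ⟨v, hv, rfl⟩ := hy
    exact ⟨⊥, Subalgebra.fg_bot, fun S' _ => ⟨_, mapVec_mem_ext S' Z hv, mapVec_trans R S' v⟩⟩
  | zero => exact ⟨⊥, Subalgebra.fg_bot, fun S' _ => ⟨0, zero_mem _, map_zero _⟩⟩
  | add y z _ _ hy hz =>
    obtain ⟨S, hS, hy⟩ := hy
    obtain ⟨T, hT, hz⟩ := hz
    refine ⟨S ⊔ T, hS.sup hT, fun S' h => ?_⟩
    obtain ⟨y', hy', rfl⟩ := hy S' (le_sup_left.trans h)
    obtain ⟨z', hz', rfl⟩ := hz S' (le_sup_right.trans h)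
    exact ⟨y' + z', add_mem hy' hz', map_add _ _ _⟩
  | smul c y _ hy =>
    obtain ⟨S, hS, hy⟩ := hy
    refine ⟨S ⊔ Algebra.adjoin R₀ (c.coeffs : Set R), hS.sup ⟨c.coeffs, rfl⟩, fun S' h => ?_⟩
    obtain ⟨y', hy', rfl⟩ := hy S' (le_sup_left.trans h)
    obtain ⟨c', rfl⟩ : ∃ c' : MvPolynomial (Fin n) S', MvPolynomial.map (algebraMap S' R) c' = c :=
      MvPolynomial.mem_range_map_iff_coeffs_subset.2 fun x hx =>
        ⟨⟨x, (le_sup_right.trans h) (Algebra.subset_adjoin hx)⟩, rfl⟩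
    exact ⟨c' • y', Submodule.smul_mem _ _ hy', mapVec_smul _ _ _⟩

/-- The condition descends to a finitely generated subalgebra, stably under base change. -/
theorem exists_model_good [IsNoetherianRing R₀] (R : Type u) [CommRing R] [Algebra R₀ R]
    (q : Ideal (MvPolynomial (Fin n) R)) [q.IsPrime] (h : Good U₀ Z₀ Z₀' R q) :
    ∃ R₁ : Subalgebra R₀ R, R₁.FG ∧ ∀ (R' : Type u) [CommRing R'] [Algebra R₀ R']
      (ψ : R₁ →ₐ[R₀] R') (q' : Ideal (MvPolynomial (Fin n) R')) [q'.IsPrime],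
      q'.comap (MvPolynomial.map ψ.toRingHom) = q.comap (MvPolynomial.map (algebraMap R₁ R)) →
      Good U₀ Z₀ Z₀' R' q' := by
  classical
  obtain ⟨R₁, hR₁, hC⟩ := exists_model_flat (cokerRel U₀ Z₀) R q h.1
  haveI : IsNoetherianRing R₁ := isNoetherianRing_of_fg hR₁
  let K₁ := (ext R₁ Z₀).comap (mapU U₀ R₁)
  obtain ⟨G, hG⟩ := IsNoetherian.noetherian K₁
  have hgen : ∀ w ∈ G, ∃ s ∉ q, s • mapVec (R₀ := R₁) R w ∈ ext R Z₀' := by
    intro w hw
    refine h.2 _ ?_
    rw [mapU_mapVec, ← ext_ext R Z₀ R₁]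
    exact mapVec_mem_ext (R₀ := R₁) R _ (show w ∈ K₁ from hG ▸ Submodule.subset_span hw)
  choose! s hs hsw using hgen
  let S := ∏ w ∈ G, s w
  have hS : S ∉ q := fun hm => by
    obtain ⟨w, hw, hsw'⟩ := (Ideal.IsPrime.prod_mem_iff (p := q)).1 hm
    exact hs w hw hsw'
  have hSw : ∀ w ∈ G, S • mapVec (R₀ := R₁) R w ∈ ext R Z₀' := by
    intro w hw
    obtain ⟨c, hc⟩ : s w ∣ S := Finset.dvd_prod_of_mem _ hw
    rw [hc, mul_comm, mul_smul]
    exact Submodule.smul_mem _ _ (hsw w hw)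
  choose! T hT hTw using fun w hw => exists_fg_mem_ext R Z₀' (hSw w hw)
  let R₂ : Subalgebra R₀ R := R₁ ⊔ Algebra.adjoin R₀ (S.coeffs : Set R) ⊔ G.sup T
  have hsupT : (G.sup T).FG := Finset.sup_induction (p := fun A : Subalgebra R₀ R => A.FG)
    Subalgebra.fg_bot (fun _ ha _ hb => ha.sup hb) fun w hw => hT w hw
  refine ⟨R₂, (hR₁.sup ⟨S.coeffs, rfl⟩).sup hsupT, fun R' _ _ ψ q' _ hq' => ?_⟩
  have h12 : R₁ ≤ R₂ := le_sup_of_le_left le_sup_left
  letI : Algebra R₁ R₂ := (Subalgebra.inclusion h12).toRingHom.toAlgebra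
  letI : Algebra R₂ R' := ψ.toRingHom.toAlgebra
  letI : Algebra R₁ R' := (ψ.comp (Subalgebra.inclusion h12)).toRingHom.toAlgebra
  haveI : IsScalarTower R₀ R₁ R₂ := IsScalarTower.of_algebraMap_eq fun _ => rfl
  haveI : IsScalarTower R₁ R₂ R := IsScalarTower.of_algebraMap_eq fun _ => rfl
  haveI : IsScalarTower R₁ R₂ R' := IsScalarTower.of_algebraMap_eq fun _ => rfl
  haveI : IsScalarTower R₀ R₂ R' := IsScalarTower.of_algebraMap_eq fun c => (ψ.commutes c).symm
  haveI : IsScalarTower R₀ R₁ R' := IsScalarTower.of_algebraMap_eq fun c =>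
    ((ψ.comp (Subalgebra.inclusion h12)).commutes c).symm
  have hq₁ : q'.comap (MvPolynomial.map (algebraMap R₁ R')) =
      q.comap (MvPolynomial.map (algebraMap R₁ R)) := by
    rw [show algebraMap R₁ R' = ψ.toRingHom.comp (algebraMap R₁ R₂) from rfl, mvMap_comp,
      ← Ideal.comap_comap, hq', Ideal.comap_comap, ← mvMap_comp]
    rfl
  have hC' : FlatCA.FlatAt R₁ (q'.comap (MvPolynomial.map (algebraMap R₁ R')))
      (Quot R₁ (cokerRel U₀ Z₀)) := flatAt_congr hq₁ hC
  refine ⟨flatAt_quot_of_tower _ R' R₁ q' hC', fun v hv => ?_⟩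
  obtain ⟨t, ht, htv⟩ := exists_smul_mem_ext_comap U₀ Z₀ R' R₁
    (q'.comap (MvPolynomial.map (algebraMap R₁ R'))) hC' v hv
  obtain ⟨S₂, hS₂⟩ : ∃ S₂ : MvPolynomial (Fin n) R₂, MvPolynomial.map (algebraMap R₂ R) S₂ = S :=
    MvPolynomial.mem_range_map_iff_coeffs_subset.2 fun x hx =>
      ⟨⟨x, (le_sup_left : _ ≤ R₂) ((le_sup_right : _ ≤ R₁ ⊔ Algebra.adjoin R₀ (S.coeffs : Set R))
        (Algebra.subset_adjoin hx))⟩, rfl⟩
  have hS' : MvPolynomial.map (algebraMap R₂ R') S₂ ∉ q' := fun hm => by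
    have h2 : S₂ ∈ q.comap (MvPolynomial.map (algebraMap R₂ R)) := hq' ▸ hm
    exact hS (hS₂ ▸ h2)
  refine ⟨MvPolynomial.map (algebraMap R₂ R') S₂ * MvPolynomial.map (algebraMap R₁ R') t,
    Ideal.IsPrime.mul_notMem inferInstance hS' ht, ?_⟩
  rw [mul_smul]
  rw [show (ext R₁ Z₀).comap (mapU U₀ R₁) = Submodule.span _ (G : Set (Vec n a R₁)) from hG.symm,
    ext_span] at htv
  generalize MvPolynomial.map (algebraMap R₁ R') t • v = y at htv ⊢
  induction htv using Submodule.span_induction with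
  | mem y hy =>
    obtain ⟨w, hw, rfl⟩ := hy
    obtain ⟨y', hy', hyw⟩ := hTw w hw R₂ ((Finset.le_sup (f := T) hw).trans le_sup_right)
    have heq : S₂ • mapVec (R₀ := R₁) R₂ w = y' := by
      refine mapVec_injective (R₀ := R₂) R Subtype.val_injective ?_
      rw [mapVec_smul, hS₂, mapVec_trans, hyw]
    rw [← mapVec_trans R' R₂ w, ← mapVec_smul, heq, ← ext_ext R' Z₀' R₂]
    exact mapVec_mem_ext (R₀ := R₂) R' _ hy'
  | zero => rw [smul_zero]; exact zero_mem _
  | add u v _ _ hu hv => rw [smul_add]; exact add_mem hu hv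
  | smul c u _ hu => rw [smul_comm]; exact Submodule.smul_mem _ _ hu

section BaseChange

variable (A A' B B' : Type u) [CommRing A] [CommRing A'] [CommRing B] [CommRing B']
  [Algebra R₀ A] [Algebra R₀ A'] [Algebra A A'] [IsScalarTower R₀ A A'] [Algebra A B] [Algebra A' B']
  [Algebra B B'] [Algebra A B'] [IsScalarTower A A' B'] [IsScalarTower A B B']

/-- The presentation of `B'` obtained from one of `B`. -/
noncomputable def mapPi (π : MvPolynomial (Fin n) A →ₐ[A] B) :
    MvPolynomial (Fin n) A' →ₐ[A'] B' :=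
  MvPolynomial.aeval fun i => algebraMap B B' (π (MvPolynomial.X i))

lemma mapPi_map (π : MvPolynomial (Fin n) A →ₐ[A] B) (c : MvPolynomial (Fin n) A) :
    mapPi A A' B B' π (MvPolynomial.map (algebraMap A A') c) = algebraMap B B' (π c) := by
  induction c using MvPolynomial.induction_on with
  | C x =>
    rw [MvPolynomial.map_C, mapPi, MvPolynomial.aeval_C,
      show π (MvPolynomial.C x) = algebraMap A B x from π.commutes x,
      ← IsScalarTower.algebraMap_apply, ← IsScalarTower.algebraMap_apply]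
  | add p q hp hq => simp only [map_add, hp, hq]
  | mul_X p i hp =>
    rw [map_mul, map_mul, map_mul, hp, MvPolynomial.map_X]
    congr 1
    simp [mapPi]

theorem mapPi_surjective [Algebra.IsPushout A A' B B'] (π : MvPolynomial (Fin n) A →ₐ[A] B)
    (hπ : Surjective π) : Surjective (mapPi A A' B B' π) := by
  intro z
  have hb : IsBaseChange A' (IsScalarTower.toAlgHom A B B').toLinearMap :=
    ‹Algebra.IsPushout A A' B B'›.out
  induction z using hb.inductionOn with
  | zero => exact ⟨0, map_zero _⟩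
  | tmul s =>
    obtain ⟨c, rfl⟩ := hπ s
    exact ⟨MvPolynomial.map (algebraMap A A') c, mapPi_map A A' B B' π c⟩
  | smul x z hz =>
    obtain ⟨p, rfl⟩ := hz
    exact ⟨x • p, map_smul _ _ _⟩
  | add x y hx hy =>
    obtain ⟨p, rfl⟩ := hx
    obtain ⟨q, rfl⟩ := hy
    exact ⟨p + q, map_add _ _ _⟩

variable {M M' : Type u} [AddCommGroup M] [Module A M] [Module B M] [IsScalarTower A B M]
  [AddCommGroup M'] [Module A' M'] [Module B' M'] [IsScalarTower A' B' M'] [Module B M']
  [IsScalarTower B B' M']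

/-- Presentations are compatible with base change. -/
theorem exists_baseChange_equiv [Algebra.IsPushout A A' B B'] (π : MvPolynomial (Fin n) A →ₐ[A] B)
    {Z : Submodule (MvPolynomial (Fin n) R₀) (Vec n r R₀)}
    (E : Quot A Z ≃ₗ[A] M) (hE : ∀ c x, E (c • x) = π c • E x)
    (l : M →ₗ[B] M') (hl : IsBaseChange B' l) :
    ∃ E' : Quot A' Z ≃ₗ[A'] M', (∀ c x, E' (c • x) = mapPi A A' B B' π c • E' x) ∧
      ∀ v : Vec n r A, E' (Submodule.Quotient.mk (mapVec (R₀ := A) A' v)) =
        l (E (Submodule.Quotient.mk v)) := by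
  let e₁ : Quot A' Z ≃ₗ[A'] A' ⊗[A] Quot A Z :=
    ((quotEquiv A' (ext A Z)).trans
      ((Submodule.quotEquivOfEq _ _ (ext_ext A' Z A)).restrictScalars A')).symm
  let e₂ : A' ⊗[A] Quot A Z ≃ₗ[A'] A' ⊗[A] M := AlgebraTensorModule.congr (LinearEquiv.refl A' A') E
  let e₃ : A' ⊗[A] M ≃ₗ[A'] B' ⊗[B] M := (Algebra.IsPushout.cancelBaseChange A A' B B' M).symm
  let E' : Quot A' Z ≃ₗ[A'] M' :=
    ((e₁.trans e₂).trans e₃).trans (hl.equiv.restrictScalars A')
  have hv : ∀ v : Vec n r A, E' (Submodule.Quotient.mk (mapVec (R₀ := A) A' v)) =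
      l (E (Submodule.Quotient.mk v)) := by
    intro v
    have h1 : e₁ (Submodule.Quotient.mk (mapVec (R₀ := A) A' v)) =
        (1 : A') ⊗ₜ[A] Submodule.Quotient.mk v := by
      apply e₁.symm.injective
      rw [LinearEquiv.symm_apply_apply]
      simp only [e₁, LinearEquiv.symm_symm, LinearEquiv.trans_apply, quotEquiv_tmul_mk, one_smul]
      rfl
    show hl.equiv (e₃ (e₂ (e₁ _))) = _
    rw [h1]
    simp only [e₂, e₃, AlgebraTensorModule.congr_tmul, LinearEquiv.refl_apply,
      Algebra.IsPushout.cancelBaseChange_symm_tmul, map_one, IsBaseChange.equiv_tmul, one_smul]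
  refine ⟨E', fun c x => ?_, hv⟩
  obtain ⟨t, rfl⟩ := e₁.symm.surjective x
  induction t with
  | zero => simp only [map_zero, smul_zero]
  | add u v hu hv => simp only [map_add, smul_add, hu, hv]
  | tmul b m =>
    obtain ⟨v, rfl⟩ := Submodule.mkQ_surjective _ m
    have hs : e₁.symm (b ⊗ₜ[A] (ext A Z).mkQ v) =
        b • (Submodule.Quotient.mk (mapVec (R₀ := A) A' v) : Quot A' Z) := by
      simp only [e₁, LinearEquiv.symm_symm, LinearEquiv.trans_apply, Submodule.mkQ_apply,
        quotEquiv_tmul_mk]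
      rfl
    rw [hs, smul_comm c b, E'.map_smul, E'.map_smul]
    suffices key : E' (c • (Submodule.Quotient.mk (mapVec (R₀ := A) A' v) : Quot A' Z)) =
        mapPi A A' B B' π c • E' (Submodule.Quotient.mk (mapVec (R₀ := A) A' v)) by
      rw [key, ← algebraMap_smul B' b (mapPi A A' B B' π c • _),
        ← algebraMap_smul B' b (E' _), smul_smul, smul_smul, mul_comm]
    clear hs
    induction c using MvPolynomial.induction_on generalizing v with
    | C x =>
      rw [← MvPolynomial.algebraMap_eq, algebraMap_smul, map_smul, AlgHom.commutes, algebraMap_smul]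
    | add p q hp hq => rw [add_smul, map_add, hp v, hq v, map_add, add_smul]
    | mul_X p i hp =>
      have hX : (MvPolynomial.X i : MvPolynomial (Fin n) A') •
          (Submodule.Quotient.mk (mapVec (R₀ := A) A' v) : Quot A' Z) =
          Submodule.Quotient.mk (mapVec (R₀ := A) A' ((MvPolynomial.X i : MvPolynomial (Fin n) A) • v)) := by
        rw [mapVec_smul, MvPolynomial.map_X, Submodule.Quotient.mk_smul]
      rw [mul_smul, hX, hp, hv, Submodule.Quotient.mk_smul, hE, map_smul, hv, map_mul, mul_smul]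
      congr 1
      rw [← algebraMap_smul B' (π (MvPolynomial.X i)), ← mapPi_map A A' B B' π, MvPolynomial.map_X]

/-- Compatibility of maps with presentations after base change. -/
theorem baseChange_map_mk {N N' : Type u} [AddCommGroup N] [Module B N] [AddCommGroup N']
    [Module A' N'] [Module B' N'] [IsScalarTower A' B' N']
    {Z : Submodule (MvPolynomial (Fin n) R₀) (Vec n r R₀)}
    {Z' : Submodule (MvPolynomial (Fin n) R₀) (Vec n a R₀)}
    (U : Fin a → Vec n r R₀) (E : Quot A Z → M) (F : Quot A Z' → N) (u : N →ₗ[B] M)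
    (hu : ∀ v, u (F (Submodule.Quotient.mk v)) = E (Submodule.Quotient.mk (mapU U A v)))
    (E' : Quot A' Z ≃ₗ[A'] M') (F' : Quot A' Z' ≃ₗ[A'] N') (l : M → M') (l' : N → N')
    (hE' : ∀ v : Vec n r A, E' (Submodule.Quotient.mk (mapVec (R₀ := A) A' v)) =
        l (E (Submodule.Quotient.mk v)))
    (hF' : ∀ v : Vec n a A, F' (Submodule.Quotient.mk (mapVec (R₀ := A) A' v)) =
        l' (F (Submodule.Quotient.mk v)))
    (u' : N' →ₗ[B'] M') (hu' : ∀ m, u' (l' m) = l (u m)) (v : Vec n a A') :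
    u' (F' (Submodule.Quotient.mk v)) = E' (Submodule.Quotient.mk (mapU U A' v)) := by
  obtain ⟨t, rfl⟩ := (vecEquiv (R₀ := A) A').surjective v
  induction t with
  | zero => simp only [map_zero, Submodule.Quotient.mk_zero]
  | add x y hx hy => simp only [map_add, Submodule.Quotient.mk_add, hx, hy]
  | tmul b w =>
    rw [show vecEquiv (R₀ := A) A' (b ⊗ₜ[A] w) = b • mapVec (R₀ := A) A' w from vecEquiv_tmul _ _ _,
      LinearMap.map_smul_of_tower, Submodule.Quotient.mk_smul, Submodule.Quotient.mk_smul, map_smul,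
      E'.map_smul, u'.map_smul_of_tower, hF', hu', hu, mapU_mapVec, hE']

end BaseChange

/-- Translation of the condition for a presented map. -/
theorem good_iff (R S : Type u) [CommRing R] [CommRing S] [Algebra R₀ R] [Algebra R S] {M M' : Type u}
    [AddCommGroup M] [Module S M] [Module R M] [IsScalarTower R S M]
    [AddCommGroup M'] [Module S M'] [Module R M'] [IsScalarTower R S M']
    (π : MvPolynomial (Fin n) R →ₐ[R] S) (hπ : Surjective π)
    (E : Quot R Z₀ ≃ₗ[R] M) (E' : Quot R Z₀' ≃ₗ[R] M') (hE : ∀ c x, E (c • x) = π c • E x)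
    (hE' : ∀ c x, E' (c • x) = π c • E' x) (u : M' →ₗ[S] M)
    (hu : ∀ v, u (E' (Submodule.Quotient.mk v)) = E (Submodule.Quotient.mk (mapU U₀ R v)))
    (Q : Ideal S) [Q.IsPrime] :
    (FlatCA.FlatAt R Q (M ⧸ LinearMap.range u) ∧ ∀ m : M', u m = 0 → ∃ s ∉ Q, s • m = 0) ↔
      Good U₀ Z₀ Z₀' R (Q.comap π.toRingHom) := by
  obtain ⟨Ec, hEc⟩ := exists_coker_equiv U₀ Z₀ Z₀' R S π hπ E E' hE u hu
  refine and_congr (flatAt_comap_iff R S π hπ Ec hEc Q).symm ⟨fun h v hv => ?_, fun h m hm => ?_⟩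
  · obtain ⟨s, hs, hsm⟩ := h (E' (Submodule.Quotient.mk v)) (by
      rw [hu, (Submodule.Quotient.mk_eq_zero _).2 hv, map_zero])
    obtain ⟨s, rfl⟩ := hπ s
    refine ⟨s, hs, ?_⟩
    rw [← Submodule.Quotient.mk_eq_zero, Submodule.Quotient.mk_smul]
    exact E'.injective (by rw [hE', hsm, map_zero])
  · obtain ⟨x, rfl⟩ := E'.surjective m
    obtain ⟨v, rfl⟩ := Submodule.mkQ_surjective _ x
    rw [Submodule.mkQ_apply, hu, LinearEquiv.map_eq_zero_iff, Submodule.Quotient.mk_eq_zero] at hm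
    obtain ⟨s, hs, hsv⟩ := h v hm
    exact ⟨π s, hs, by rw [← hE', Submodule.mkQ_apply, ← Submodule.Quotient.mk_smul,
      (Submodule.Quotient.mk_eq_zero _).2 hsv, map_zero]⟩

end Groth.Agent.Fibres16.LimCritAlg
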