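import Groth.Agent.Fibres16.LimCritAlg
import Groth.Agent.FlatOpen.SchemeMap
import Groth.Agent.LimTop.PullSec
import Groth.Agent.LimTop.PullSys
import Groth.Agent.LimLib.Proper
import Groth.Agent.Thick.Unram
import Groth.Agent.Props.QFP

/-!
# "Injective with flat cokernel" and limits of schemes (EGA IV 11.2.6, 11.3.x), scheme level

* `chart_iff`: the condition at a point of a base change, read on a chart.
* `iff_exists_stage`: the condition at a point of the limit holds iff it holds at a stage.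
-/

set_option autoImplicit false
set_option linter.style.haveILetI false
set_option linter.unusedSectionVars false

universe u

open CategoryTheory CategoryTheory.Limits AlgebraicGeometry TopologicalSpace Function
open Groth.Agent.FlatOpen Groth.Agent.AssSch.Stalk

namespace Groth.Agent.Fibres16.LimCrit

/-- The stalk map is injective and the cokernel is flat at `x`. -/
def CondAt {X Y : Scheme.{u}} (f : X ⟶ Y) {F G : X.Modules} (u : F ⟶ G) (x : X) : Prop :=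
  Function.Injective ((TopCat.Presheaf.stalkFunctor Ab x).map (Scheme.Modules.Hom.mapPresheaf u)) ∧
    FlatMod.IsFlatOverAt f (cokernel u) x

section Chart

variable {X₀ S₀ : Scheme.{u}} {V₀ : S₀.Opens} {U₀ : X₀.Opens}
  [Algebra Γ(S₀, V₀) Γ(X₀, U₀)] {n : ℕ}
  (π : MvPolynomial (Fin n) Γ(S₀, V₀) →ₐ[Γ(S₀, V₀)] Γ(X₀, U₀))
  {X T : Scheme.{u}} (g : T ⟶ S₀) (pX : X ⟶ X₀) (f : X ⟶ T)
  (e : pX ⁻¹ᵁ U₀ ≤ f ⁻¹ᵁ (g ⁻¹ᵁ V₀))

/-- The presentation of the chart of a base change. -/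
noncomputable def piHom : MvPolynomial (Fin n) Γ(T, g ⁻¹ᵁ V₀) →+* Γ(X, pX ⁻¹ᵁ U₀) :=
  MvPolynomial.eval₂Hom (f.appLE (g ⁻¹ᵁ V₀) (pX ⁻¹ᵁ U₀) e).hom
    fun i => pX.app U₀ (π (MvPolynomial.X i))

/-- The prime of the polynomial ring over the chart of the base, attached to a point. -/
noncomputable def qPrime (hU : IsAffineOpen (pX ⁻¹ᵁ U₀)) (x : X) (hx : x ∈ pX ⁻¹ᵁ U₀) :
    Ideal (MvPolynomial (Fin n) Γ(T, g ⁻¹ᵁ V₀)) :=
  (primeOf hU x hx).comap (piHom π g pX f e)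

instance qPrime_isPrime (hU : IsAffineOpen (pX ⁻¹ᵁ U₀)) (x : X) (hx : x ∈ pX ⁻¹ᵁ U₀) :
    (qPrime π g pX f e hU x hx).IsPrime :=
  inferInstanceAs ((primeOf hU x hx).comap (piHom π g pX f e)).IsPrime

/-- The algebra structure on the chart of a base change. -/
noncomputable abbrev gAlg (R₀ : Type u) [CommRing R₀] [Algebra R₀ Γ(S₀, V₀)] :
    Algebra R₀ Γ(T, g ⁻¹ᵁ V₀) :=
  ((g.app V₀).hom.comp (algebraMap R₀ Γ(S₀, V₀))).toAlgebra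

variable {R₀ : Type u} [CommRing R₀] [Algebra R₀ Γ(S₀, V₀)] {r a : ℕ}
  {Uv : Fin a → Vec n r R₀} {Z : Submodule (MvPolynomial (Fin n) R₀) (Vec n r R₀)}
  {Z' : Submodule (MvPolynomial (Fin n) R₀) (Vec n a R₀)}
  {F₀ G₀ : X₀.Modules} [F₀.IsQuasicoherent] [G₀.IsQuasicoherent] (h₀ : F₀ ⟶ G₀)
  [Module Γ(S₀, V₀) Γ(G₀, U₀)] [IsScalarTower Γ(S₀, V₀) Γ(X₀, U₀) Γ(G₀, U₀)]
  [Module Γ(S₀, V₀) Γ(F₀, U₀)] [IsScalarTower Γ(S₀, V₀) Γ(X₀, U₀) Γ(F₀, U₀)]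
  (E : Quot Γ(S₀, V₀) Z ≃ₗ[Γ(S₀, V₀)] Γ(G₀, U₀))
  (E' : Quot Γ(S₀, V₀) Z' ≃ₗ[Γ(S₀, V₀)] Γ(F₀, U₀))

include E E' in
/-- The condition at a point of a base change, read on a chart. -/
theorem chart_iff [IsAffineHom g] (f₀ : X₀ ⟶ S₀) (hV₀ : IsAffineOpen V₀) (hU₀ : IsAffineOpen U₀)
    (e₀ : U₀ ≤ f₀ ⁻¹ᵁ V₀)
    (halg : algebraMap Γ(S₀, V₀) Γ(X₀, U₀) = (f₀.appLE V₀ U₀ e₀).hom)
    (hπ : Surjective π) (hE : ∀ c x, E (c • x) = π c • E x)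
    (hE' : ∀ c x, E' (c • x) = π c • E' x)
    (hu : ∀ v, Scheme.appLin h₀ U₀ (E' (Submodule.Quotient.mk v)) =
      E (Submodule.Quotient.mk (mapU Uv Γ(S₀, V₀) v)))
    (sq : IsPullback pX f f₀ g) (hU : IsAffineOpen (pX ⁻¹ᵁ U₀)) (x : X) (hx : x ∈ pX ⁻¹ᵁ U₀) :
    letI := gAlg g (V₀ := V₀) R₀
    CondAt f ((Scheme.Modules.pullback pX).map h₀) x ↔
      LimCritAlg.Good Uv Z Z' Γ(T, g ⁻¹ᵁ V₀) (qPrime π g pX f e hU x hx) := by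
  letI := gAlg g (V₀ := V₀) R₀
  letI : Algebra Γ(S₀, V₀) Γ(T, g ⁻¹ᵁ V₀) := (g.app V₀).hom.toAlgebra
  haveI : IsScalarTower R₀ Γ(S₀, V₀) Γ(T, g ⁻¹ᵁ V₀) := IsScalarTower.of_algebraMap_eq fun _ => rfl
  letI : Algebra Γ(X₀, U₀) Γ(X, pX ⁻¹ᵁ U₀) := (pX.appLE U₀ _ le_rfl).hom.toAlgebra
  letI : Algebra Γ(T, g ⁻¹ᵁ V₀) Γ(X, pX ⁻¹ᵁ U₀) := (f.appLE _ _ e).hom.toAlgebra
  letI : Algebra Γ(S₀, V₀) Γ(X, pX ⁻¹ᵁ U₀) :=
    ((f.appLE _ _ e).hom.comp (g.app V₀).hom).toAlgebra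
  haveI : IsScalarTower Γ(S₀, V₀) Γ(T, g ⁻¹ᵁ V₀) Γ(X, pX ⁻¹ᵁ U₀) :=
    IsScalarTower.of_algebraMap_eq fun _ => rfl
  obtain ⟨e', hpush⟩ := Thick.Unram.isPushout_appLE sq hV₀ hU₀ e₀
  haveI : IsScalarTower Γ(S₀, V₀) Γ(X₀, U₀) Γ(X, pX ⁻¹ᵁ U₀) := IsScalarTower.of_algebraMap_eq fun c => by
    show (f.appLE _ _ e).hom (g.app V₀ c) = pX.appLE U₀ _ le_rfl (algebraMap _ _ c)
    rw [halg, ← Scheme.Hom.app_eq_appLE]
    exact (congrArg (fun φ => φ.hom c) hpush.w).symm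
  haveI : Algebra.IsPushout Γ(S₀, V₀) Γ(T, g ⁻¹ᵁ V₀) Γ(X₀, U₀) Γ(X, pX ⁻¹ᵁ U₀) := by
    rw [← CommRingCat.isPushout_iff_isPushout]
    simp only [RingHom.algebraMap_toAlgebra, halg, ← Scheme.Hom.app_eq_appLE]
    exact hpush.flip
  let F := (Scheme.Modules.pullback pX).obj F₀
  let G := (Scheme.Modules.pullback pX).obj G₀
  letI : Module Γ(X₀, U₀) Γ(G, pX ⁻¹ᵁ U₀) := LimTop.secModule pX G₀ le_rfl
  letI : Module Γ(X₀, U₀) Γ(F, pX ⁻¹ᵁ U₀) := LimTop.secModule pX F₀ le_rfl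
  haveI : IsScalarTower Γ(X₀, U₀) Γ(X, pX ⁻¹ᵁ U₀) Γ(G, pX ⁻¹ᵁ U₀) :=
    IsScalarTower.of_algebraMap_smul fun _ _ => rfl
  haveI : IsScalarTower Γ(X₀, U₀) Γ(X, pX ⁻¹ᵁ U₀) Γ(F, pX ⁻¹ᵁ U₀) :=
    IsScalarTower.of_algebraMap_smul fun _ _ => rfl
  letI : Module Γ(T, g ⁻¹ᵁ V₀) Γ(G, pX ⁻¹ᵁ U₀) := Module.compHom _ (f.appLE _ _ e).hom
  letI : Module Γ(T, g ⁻¹ᵁ V₀) Γ(F, pX ⁻¹ᵁ U₀) := Module.compHom _ (f.appLE _ _ e).hom
  haveI : IsScalarTower Γ(T, g ⁻¹ᵁ V₀) Γ(X, pX ⁻¹ᵁ U₀) Γ(G, pX ⁻¹ᵁ U₀) :=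
    IsScalarTower.of_algebraMap_smul fun _ _ => rfl
  haveI : IsScalarTower Γ(T, g ⁻¹ᵁ V₀) Γ(X, pX ⁻¹ᵁ U₀) Γ(F, pX ⁻¹ᵁ U₀) :=
    IsScalarTower.of_algebraMap_smul fun _ _ => rfl
  obtain ⟨E₁, hE₁, hE₁v⟩ := LimCritAlg.exists_baseChange_equiv Γ(S₀, V₀) Γ(T, g ⁻¹ᵁ V₀) Γ(X₀, U₀)
    Γ(X, pX ⁻¹ᵁ U₀) π E hE (LimTop.unitSecLin pX G₀ le_rfl)
    (LimTop.isBaseChange_unitSec pX G₀ le_rfl hU₀ hU)
  obtain ⟨E₂, hE₂, hE₂v⟩ := LimCritAlg.exists_baseChange_equiv Γ(S₀, V₀) Γ(T, g ⁻¹ᵁ V₀) Γ(X₀, U₀)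
    Γ(X, pX ⁻¹ᵁ U₀) π E' hE' (LimTop.unitSecLin pX F₀ le_rfl)
    (LimTop.isBaseChange_unitSec pX F₀ le_rfl hU₀ hU)
  have hu' := LimCritAlg.baseChange_map_mk Γ(S₀, V₀) Γ(T, g ⁻¹ᵁ V₀) Γ(X₀, U₀) Γ(X, pX ⁻¹ᵁ U₀)
    Uv (fun z => E z) (fun z => E' z) (Scheme.appLin h₀ U₀) hu E₁ E₂ _ _ hE₁v hE₂v
    (Scheme.appLin ((Scheme.Modules.pullback pX).map h₀) (pX ⁻¹ᵁ U₀))
    (fun m => LimTop.unitSec_map pX F₀ le_rfl h₀ m)
  have key := LimCritAlg.good_iff Uv Z Z' Γ(T, g ⁻¹ᵁ V₀) Γ(X, pX ⁻¹ᵁ U₀)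
    (LimCritAlg.mapPi Γ(S₀, V₀) Γ(T, g ⁻¹ᵁ V₀) Γ(X₀, U₀) Γ(X, pX ⁻¹ᵁ U₀) π)
    (LimCritAlg.mapPi_surjective _ _ _ _ π hπ) E₁ E₂ hE₁ hE₂ _ hu' (primeOf hU x hx)
  have hπe : (LimCritAlg.mapPi Γ(S₀, V₀) Γ(T, g ⁻¹ᵁ V₀) Γ(X₀, U₀) Γ(X, pX ⁻¹ᵁ U₀) π).toRingHom =
      piHom π g pX f e := by
    refine MvPolynomial.ringHom_ext (fun c => ?_) fun i => ?_
    · simp [LimCritAlg.mapPi, piHom]; rfl
    · simp [LimCritAlg.mapPi, piHom, RingHom.algebraMap_toAlgebra, Scheme.Hom.app_eq_appLE]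
  have hq : qPrime π g pX f e hU x hx = (primeOf hU x hx).comap
      (LimCritAlg.mapPi Γ(S₀, V₀) Γ(T, g ⁻¹ᵁ V₀) Γ(X₀, U₀) Γ(X, pX ⁻¹ᵁ U₀) π).toRingHom :=
    congrArg (fun φ => (primeOf hU x hx).comap φ) hπe.symm
  have hV : IsAffineOpen (g ⁻¹ᵁ V₀) := hV₀.preimage g
  rw [CondAt, and_comm,
    (Scheme.isFlatOverAt_cokernel_iff f ((Scheme.Modules.pullback pX).map h₀) hV hU e x hx),
    (Scheme.stalk_injective_iff ((Scheme.Modules.pullback pX).map h₀) hU x hx)]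
  refine key.trans ?_
  simp only [hq]

/-- The primes of two stages match. -/
theorem qPrime_comap {X' T' : Scheme.{u}} (g' : T' ⟶ S₀) (pX' : X' ⟶ X₀) (f' : X' ⟶ T')
    (e' : pX' ⁻¹ᵁ U₀ ≤ f' ⁻¹ᵁ (g' ⁻¹ᵁ V₀)) (hU : IsAffineOpen (pX ⁻¹ᵁ U₀))
    (hU' : IsAffineOpen (pX' ⁻¹ᵁ U₀)) (v : X' ⟶ X) (t : T' ⟶ T) (hv : v ≫ pX = pX')
    (hsq : v ≫ f = f' ≫ t) (et : g' ⁻¹ᵁ V₀ ≤ t ⁻¹ᵁ (g ⁻¹ᵁ V₀)) (x : X') (hx : x ∈ pX' ⁻¹ᵁ U₀)
    (hx' : v x ∈ pX ⁻¹ᵁ U₀) :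
    (qPrime π g' pX' f' e' hU' x hx).comap (MvPolynomial.map (t.appLE _ _ et).hom) =
      qPrime π g pX f e hU (v x) hx' := by
  subst hv
  have ev : (v ≫ pX) ⁻¹ᵁ U₀ ≤ v ⁻¹ᵁ (pX ⁻¹ᵁ U₀) := le_of_eq (Scheme.Hom.comp_preimage ..)
  have hp := Scheme.primeOf_comap v hU hU' ev x hx
  have hc : (piHom π g' (v ≫ pX) f' e').comp (MvPolynomial.map (t.appLE _ _ et).hom) =
      (v.appLE _ _ ev).hom.comp (piHom π g pX f e) := by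
    refine MvPolynomial.ringHom_ext (fun c => ?_) fun i => ?_
    · simp only [piHom, RingHom.comp_apply, MvPolynomial.map_C, MvPolynomial.eval₂Hom_C]
      rw [← CommRingCat.comp_apply, ← CommRingCat.comp_apply, Scheme.Hom.appLE_comp_appLE,
        Scheme.Hom.appLE_comp_appLE]
      simp only [hsq]
    · simp only [piHom, RingHom.comp_apply, MvPolynomial.map_X, MvPolynomial.eval₂Hom_X']
      rw [Scheme.Hom.app_eq_appLE, Scheme.Hom.app_eq_appLE, ← CommRingCat.comp_apply,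
        Scheme.Hom.appLE_comp_appLE]
  show Ideal.comap _ (Ideal.comap _ _) = _
  rw [Ideal.comap_comap, hc, ← Ideal.comap_comap, hp]
  rfl

end Chart

section Stage

variable {I : Type u} [SmallCategory I] {D : I ⥤ Scheme.{u}} {c : Cone D} {i₀ : I}
  [∀ (i j : I) (φ : i ⟶ j), IsAffineHom (D.map φ)] [IsCofiltered I]

/-- A finitely generated algebra over a Noetherian ring mapping to the limit maps to a stage. -/
theorem exists_stage_algHom (hc : IsLimit c) {V₀ : (D.obj i₀).Opens} (hV₀ : IsAffineOpen V₀)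
    {R₀ : Type u} [CommRing R₀] [IsNoetherianRing R₀] [Algebra R₀ Γ(D.obj i₀, V₀)] :
    letI : Algebra R₀ Γ(c.pt, c.π.app i₀ ⁻¹ᵁ V₀) := gAlg (c.π.app i₀) (V₀ := V₀) R₀
    ∀ R₁ : Subalgebra R₀ Γ(c.pt, c.π.app i₀ ⁻¹ᵁ V₀), R₁.FG →
      ∃ j : Over i₀, letI : Algebra R₀ Γ(D.obj j.left, D.map j.hom ⁻¹ᵁ V₀) := gAlg (D.map j.hom) (V₀ := V₀) R₀
        ∃ ψ : R₁ →ₐ[R₀] Γ(D.obj j.left, D.map j.hom ⁻¹ᵁ V₀), ∀ z,
          (c.π.app j.left).appLE _ _ (LimTop.preimage_le _ _ (c.w j.hom)) (ψ z) = R₁.val z := by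
  letI : Algebra R₀ Γ(c.pt, c.π.app i₀ ⁻¹ᵁ V₀) := gAlg (c.π.app i₀) (V₀ := V₀) R₀
  intro R₁ hR₁
  classical
  have haff : ∀ j : Over i₀, IsAffine ((opensDiagram D i₀ V₀).obj j) := fun j => hV₀.preimage _
  obtain ⟨s, hs⟩ := hR₁
  obtain ⟨j, -, t, ht⟩ := LimLib.exists_lifts_over (isLimitOpensCone D c hc i₀ V₀)
    (Over.mk (𝟙 i₀)) (fun b : s => (c.π.app i₀ ⁻¹ᵁ V₀).topIso.inv (b : Γ(c.pt, c.π.app i₀ ⁻¹ᵁ V₀)))
  let y : s → Γ(D.obj j.left, D.map j.hom ⁻¹ᵁ V₀) := fun b => (D.map j.hom ⁻¹ᵁ V₀).topIso.hom (t b)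
  have hy : ∀ b : s, (c.π.app j.left).appLE _ _ (LimTop.preimage_le _ _ (c.w j.hom)) (y b) =
      (b : Γ(c.pt, c.π.app i₀ ⁻¹ᵁ V₀)) := fun b => by
    have h := congrArg (c.π.app i₀ ⁻¹ᵁ V₀).topIso.hom
      ((LimTop.resLE_appTop_apply (c.π.app j.left) _ (t b)).symm.trans (ht b))
    erw [Iso.inv_hom_id_apply, Iso.inv_hom_id_apply] at h
    exact h
  letI : Algebra R₀ Γ(D.obj j.left, D.map j.hom ⁻¹ᵁ V₀) := gAlg (D.map j.hom) (V₀ := V₀) R₀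
  let cj : Γ(D.obj j.left, D.map j.hom ⁻¹ᵁ V₀) →ₐ[R₀] Γ(c.pt, c.π.app i₀ ⁻¹ᵁ V₀) :=
    { ((c.π.app j.left).appLE _ _ (LimTop.preimage_le _ _ (c.w j.hom))).hom with
      commutes' := fun b => by
        show (c.π.app j.left).appLE _ _ _ ((D.map j.hom).app V₀ (algebraMap R₀ _ b)) =
          (c.π.app i₀).app V₀ (algebraMap R₀ _ b)
        rw [Scheme.Hom.app_eq_appLE, Scheme.Hom.app_eq_appLE, ← CommRingCat.comp_apply,
          Scheme.Hom.appLE_comp_appLE]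
        simp only [c.w j.hom] }
  let Φ : MvPolynomial s R₀ →ₐ[R₀] Γ(D.obj j.left, D.map j.hom ⁻¹ᵁ V₀) := MvPolynomial.aeval y
  let π : MvPolynomial s R₀ →ₐ[R₀] R₁ := MvPolynomial.aeval fun b : s =>
    (⟨b, hs ▸ Algebra.subset_adjoin b.2⟩ : R₁)
  have hπΦ : cj.comp Φ = R₁.val.comp π := MvPolynomial.algHom_ext fun b => by
    simp only [AlgHom.comp_apply, Φ, π, MvPolynomial.aeval_X]
    exact hy b
  have hπ : Surjective π := by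
    intro z
    have hval : R₁.val.comp π = MvPolynomial.aeval (fun b : s => (b : Γ(c.pt, c.π.app i₀ ⁻¹ᵁ V₀))) :=
      MvPolynomial.algHom_ext fun b => by simp [π]
    have hz : (z : Γ(c.pt, c.π.app i₀ ⁻¹ᵁ V₀)) ∈ (MvPolynomial.aeval
        (fun b : s => (b : Γ(c.pt, c.π.app i₀ ⁻¹ᵁ V₀))) : MvPolynomial s R₀ →ₐ[R₀] _).range := by
      rw [← Algebra.adjoin_range_eq_range_aeval, Subtype.range_coe_subtype]
      exact hs.symm ▸ z.2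
    obtain ⟨w, hw⟩ := hz
    exact ⟨w, Subtype.ext ((DFunLike.congr_fun hval w).trans hw)⟩
  obtain ⟨W, hW⟩ := IsNoetherian.noetherian (RingHom.ker π.toRingHom)
  obtain ⟨k, φ, hk⟩ := LimLib.exists_vanish (isLimitOpensCone D c hc i₀ V₀) j
    (fun w : W => (D.map j.hom ⁻¹ᵁ V₀).topIso.inv (Φ w)) fun w => by
      refine (LimTop.resLE_appTop_apply (c.π.app j.left) _ _).trans ?_
      have h0 : π (w : MvPolynomial s R₀) = 0 :=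
        (show (w : MvPolynomial s R₀) ∈ RingHom.ker π.toRingHom from hW ▸ Submodule.subset_span w.2)
      have : cj (Φ w) = 0 := by
        rw [← AlgHom.comp_apply, hπΦ, AlgHom.comp_apply, h0, map_zero]
      erw [Iso.inv_hom_id_apply]
      erw [this, map_zero]
      rfl
  refine ⟨k, ?_⟩
  letI : Algebra R₀ Γ(D.obj k.left, D.map k.hom ⁻¹ᵁ V₀) := gAlg (D.map k.hom) (V₀ := V₀) R₀
  let g' : Γ(D.obj j.left, D.map j.hom ⁻¹ᵁ V₀) →ₐ[R₀] Γ(D.obj k.left, D.map k.hom ⁻¹ᵁ V₀) :=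
    { ((D.map φ.left).appLE _ _ (LimTop.preimage_le _ _ (LimTop.ring_comp_eq φ))).hom with
      commutes' := fun b => by
        show (D.map φ.left).appLE _ _ _ ((D.map j.hom).app V₀ (algebraMap R₀ _ b)) =
          (D.map k.hom).app V₀ (algebraMap R₀ _ b)
        rw [Scheme.Hom.app_eq_appLE, Scheme.Hom.app_eq_appLE, ← CommRingCat.comp_apply,
          Scheme.Hom.appLE_comp_appLE]
        simp only [LimTop.ring_comp_eq φ] }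
  have hk0 : ∀ w ∈ W, g' (Φ w) = 0 := fun w hw => by
    have h := congrArg (D.map k.hom ⁻¹ᵁ V₀).topIso.hom
      ((LimTop.resLE_appTop_apply (D.map φ.left) _ _).symm.trans (hk ⟨w, hw⟩))
    erw [Iso.inv_hom_id_apply, Iso.inv_hom_id_apply, map_zero] at h
    exact h
  have hle : RingHom.ker π.toRingHom ≤ RingHom.ker (g'.comp Φ).toRingHom := by
    rw [← hW, Submodule.span_le]
    exact hk0
  let e := Ideal.quotientKerAlgEquivOfSurjective hπ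
  refine ⟨(Ideal.Quotient.liftₐ (RingHom.ker π) (g'.comp Φ) hle).comp e.symm.toAlgHom, fun z => ?_⟩
  obtain ⟨w, rfl⟩ := hπ z
  have he : e.symm (π w) = Ideal.Quotient.mk _ w := by
    rw [AlgEquiv.symm_apply_eq]; rfl
  rw [AlgHom.comp_apply]
  show (c.π.app k.left).appLE _ _ _ (Ideal.Quotient.liftₐ (RingHom.ker π) (g'.comp Φ) hle (e.symm (π w))) = _
  rw [he]
  show (c.π.app k.left).appLE _ _ _ ((D.map φ.left).appLE _ _ _ (Φ w)) = _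
  rw [← CommRingCat.comp_apply, Scheme.Hom.appLE_comp_appLE]
  simp only [c.w φ.left]
  exact DFunLike.congr_fun hπΦ w

/-- Injectivity with flat cokernel at a point of the limit is attained at a stage. -/
theorem exists_stage (hc : IsLimit c) {X₀ : Scheme.{u}} (f₀ : X₀ ⟶ D.obj i₀)
    [LocallyOfFinitePresentation f₀] {F₀ G₀ : X₀.Modules} [F₀.IsQuasicoherent] [G₀.IsQuasicoherent]
    (hF₀ : CohB1.IsFP F₀) (hG₀ : CohB1.IsFP G₀) (h₀ : F₀ ⟶ G₀) {X : Scheme.{u}} (f : X ⟶ c.pt)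
    (qX : X ⟶ X₀) (sq : IsPullback qX f f₀ (c.π.app i₀)) (x : X)
    (h : CondAt f ((Scheme.Modules.pullback qX).map h₀) x) :
    ∃ (j : Over i₀) (v : X ⟶ pullback f₀ (D.map j.hom)),
      v ≫ pullback.fst _ _ = qX ∧ v ≫ pullback.snd _ _ = f ≫ c.π.app j.left ∧
      CondAt (pullback.snd f₀ (D.map j.hom))
        ((Scheme.Modules.pullback (pullback.fst f₀ (D.map j.hom))).map h₀) (v x) := by
  obtain ⟨_, ⟨V₀, hV₀, rfl⟩, hxV, -⟩ := (D.obj i₀).isBasis_affineOpens.exists_subset_of_mem_open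
    (Set.mem_univ (f₀ (qX x))) isOpen_univ
  obtain ⟨_, ⟨U₀, hU₀, rfl⟩, hxU, e₀⟩ := X₀.isBasis_affineOpens.exists_subset_of_mem_open
    (show qX x ∈ (f₀ ⁻¹ᵁ V₀ : X₀.Opens) from hxV) (f₀ ⁻¹ᵁ V₀).2
  letI := (f₀.appLE V₀ U₀ e₀).hom.toAlgebra
  letI : Module Γ(D.obj i₀, V₀) Γ(G₀, U₀) := Module.compHom _ (f₀.appLE V₀ U₀ e₀).hom
  haveI : IsScalarTower Γ(D.obj i₀, V₀) Γ(X₀, U₀) Γ(G₀, U₀) :=
    IsScalarTower.of_algebraMap_smul fun _ _ => rfl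
  letI : Module Γ(D.obj i₀, V₀) Γ(F₀, U₀) := Module.compHom _ (f₀.appLE V₀ U₀ e₀).hom
  haveI : IsScalarTower Γ(D.obj i₀, V₀) Γ(X₀, U₀) Γ(F₀, U₀) :=
    IsScalarTower.of_algebraMap_smul fun _ _ => rfl
  haveI : Algebra.FinitePresentation Γ(D.obj i₀, V₀) Γ(X₀, U₀) := f₀.finitePresentation_appLE hV₀ hU₀ e₀
  haveI : Module.FinitePresentation Γ(X₀, U₀) Γ(G₀, U₀) := (Props.QFP.isFP_iff G₀).1 hG₀ U₀ hU₀
  haveI : Module.FinitePresentation Γ(X₀, U₀) Γ(F₀, U₀) := (Props.QFP.isFP_iff F₀).1 hF₀ U₀ hU₀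
  obtain ⟨n, r, a, R₀, Uv, Z, Z', π, E, E', hR₀, hπ, hE, hE', -, hu⟩ :=
    exists_map_model Γ(D.obj i₀, V₀) Γ(X₀, U₀) (Scheme.appLin h₀ U₀)
  haveI : IsNoetherianRing R₀ := isNoetherianRing_of_fg hR₀
  have hcπ : ∀ i, IsAffineHom (c.π.app i) := fun i => isAffineHom_π_app D c hc i
  haveI : IsAffineHom qX := MorphismProperty.of_isPullback sq.flip (hcπ i₀)
  have hsub : ∀ {T' X' : Scheme.{u}} (g : T' ⟶ D.obj i₀) (pX : X' ⟶ X₀) (f' : X' ⟶ T'),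
      pX ≫ f₀ = f' ≫ g → pX ⁻¹ᵁ U₀ ≤ f' ⁻¹ᵁ (g ⁻¹ᵁ V₀) := fun g pX f' hw y hy => by
    show g (f' y) ∈ V₀
    rw [← Scheme.Hom.comp_apply, ← hw, Scheme.Hom.comp_apply]
    exact e₀ hy
  have hgood := (chart_iff π (c.π.app i₀) qX f (hsub _ _ _ sq.w) h₀ E E' f₀ hV₀ hU₀ e₀ rfl hπ hE hE'
    hu sq (hU₀.preimage qX) x hxU).1 h
  letI : Algebra R₀ Γ(c.pt, c.π.app i₀ ⁻¹ᵁ V₀) := gAlg (c.π.app i₀) (V₀ := V₀) R₀
  obtain ⟨R₁, hR₁, hmodel⟩ := LimCritAlg.exists_model_good Uv Z Z' Γ(c.pt, c.π.app i₀ ⁻¹ᵁ V₀) _ hgood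
  obtain ⟨j, ψ, hψ⟩ := exists_stage_algHom hc hV₀ R₁ hR₁
  let v : X ⟶ pullback f₀ (D.map j.hom) := pullback.lift qX (f ≫ c.π.app j.left)
    (by rw [Category.assoc, c.w j.hom]; exact sq.w)
  have hv₁ : v ≫ pullback.fst _ _ = qX := pullback.lift_fst _ _ _
  have hv₂ : v ≫ pullback.snd _ _ = f ≫ c.π.app j.left := pullback.lift_snd _ _ _
  have hvx : v x ∈ pullback.fst f₀ (D.map j.hom) ⁻¹ᵁ U₀ := by
    show pullback.fst f₀ (D.map j.hom) (v x) ∈ U₀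
    rw [← Scheme.Hom.comp_apply, hv₁]
    exact hxU
  have hUj : IsAffineOpen (pullback.fst f₀ (D.map j.hom) ⁻¹ᵁ U₀) := hU₀.preimage _
  refine ⟨j, v, hv₁, hv₂, (chart_iff π (D.map j.hom) _ _ (hsub _ _ _ pullback.condition) h₀ E E' f₀
    hV₀ hU₀ e₀ rfl hπ hE hE' hu (IsPullback.of_hasPullback _ _) hUj (v x) hvx).2 ?_⟩
  letI : Algebra R₀ Γ(D.obj j.left, D.map j.hom ⁻¹ᵁ V₀) := gAlg (D.map j.hom) (V₀ := V₀) R₀
  refine hmodel _ ψ _ ?_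
  rw [← qPrime_comap π (D.map j.hom) _ _ (hsub _ _ _ pullback.condition) (c.π.app i₀) qX f
    (hsub _ _ _ sq.w) hUj (hU₀.preimage qX) v (c.π.app j.left) hv₁ hv₂
    (LimTop.preimage_le _ _ (c.w j.hom)) x hxU hvx, Ideal.comap_comap, ← mvMap_comp]
  congr 2
  exact RingHom.ext hψ

/-- The condition is stable under affine base change. -/
theorem condAt_of_baseChange {X₀ S₀ X T : Scheme.{u}} (f₀ : X₀ ⟶ S₀)
    [LocallyOfFinitePresentation f₀] {F₀ G₀ : X₀.Modules} [F₀.IsQuasicoherent] [G₀.IsQuasicoherent]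
    (hF₀ : CohB1.IsFP F₀) (hG₀ : CohB1.IsFP G₀) (h₀ : F₀ ⟶ G₀) (g : T ⟶ S₀) [IsAffineHom g]
    (pX : X ⟶ X₀) (f : X ⟶ T) (sq : IsPullback pX f f₀ g) (x : X) (h : CondAt f₀ h₀ (pX x)) :
    CondAt f ((Scheme.Modules.pullback pX).map h₀) x := by
  obtain ⟨_, ⟨V₀, hV₀, rfl⟩, hxV, -⟩ := S₀.isBasis_affineOpens.exists_subset_of_mem_open
    (Set.mem_univ (f₀ (pX x))) isOpen_univ
  obtain ⟨_, ⟨U₀, hU₀, rfl⟩, hxU, e₀⟩ := X₀.isBasis_affineOpens.exists_subset_of_mem_open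
    (show pX x ∈ (f₀ ⁻¹ᵁ V₀ : X₀.Opens) from hxV) (f₀ ⁻¹ᵁ V₀).2
  letI := (f₀.appLE V₀ U₀ e₀).hom.toAlgebra
  letI : Module Γ(S₀, V₀) Γ(G₀, U₀) := Module.compHom _ (f₀.appLE V₀ U₀ e₀).hom
  haveI : IsScalarTower Γ(S₀, V₀) Γ(X₀, U₀) Γ(G₀, U₀) :=
    IsScalarTower.of_algebraMap_smul fun _ _ => rfl
  letI : Module Γ(S₀, V₀) Γ(F₀, U₀) := Module.compHom _ (f₀.appLE V₀ U₀ e₀).hom
  haveI : IsScalarTower Γ(S₀, V₀) Γ(X₀, U₀) Γ(F₀, U₀) :=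
    IsScalarTower.of_algebraMap_smul fun _ _ => rfl
  haveI : Algebra.FinitePresentation Γ(S₀, V₀) Γ(X₀, U₀) := f₀.finitePresentation_appLE hV₀ hU₀ e₀
  haveI : Module.FinitePresentation Γ(X₀, U₀) Γ(G₀, U₀) := (Props.QFP.isFP_iff G₀).1 hG₀ U₀ hU₀
  haveI : Module.FinitePresentation Γ(X₀, U₀) Γ(F₀, U₀) := (Props.QFP.isFP_iff F₀).1 hF₀ U₀ hU₀
  obtain ⟨n, r, a, R₀, Uv, Z, Z', π, E, E', hR₀, hπ, hE, hE', -, hu⟩ :=
    exists_map_model Γ(S₀, V₀) Γ(X₀, U₀) (Scheme.appLin h₀ U₀)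
  haveI : IsNoetherianRing R₀ := isNoetherianRing_of_fg hR₀
  have hgood₀ := (LimCritAlg.good_iff Uv Z Z' Γ(S₀, V₀) Γ(X₀, U₀) π hπ E E' hE hE'
    (Scheme.appLin h₀ U₀) hu (primeOf hU₀ (pX x) hxU)).1
    ⟨(Scheme.isFlatOverAt_cokernel_iff f₀ h₀ hV₀ hU₀ e₀ (pX x) hxU).1 h.2,
      (Scheme.stalk_injective_iff h₀ hU₀ (pX x) hxU).1 h.1⟩
  obtain ⟨R₁, hR₁, hmodel⟩ := LimCritAlg.exists_model_good Uv Z Z' _ _ hgood₀
  haveI : IsAffineHom pX := MorphismProperty.of_isPullback sq.flip ‹IsAffineHom g›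
  have e : pX ⁻¹ᵁ U₀ ≤ f ⁻¹ᵁ (g ⁻¹ᵁ V₀) := fun y hy => by
    show g (f y) ∈ V₀
    rw [← Scheme.Hom.comp_apply, ← sq.w, Scheme.Hom.comp_apply]
    exact e₀ hy
  refine (chart_iff π g pX f e h₀ E E' f₀ hV₀ hU₀ e₀ rfl hπ hE hE' hu sq (hU₀.preimage pX) x hxU).2 ?_
  letI := gAlg g (V₀ := V₀) R₀
  let ψ : R₁ →ₐ[R₀] Γ(T, g ⁻¹ᵁ V₀) :=
    { (g.app V₀).hom.comp R₁.val.toRingHom with commutes' := fun _ => rfl }
  refine hmodel _ ψ _ ?_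
  show Ideal.comap _ (Ideal.comap (piHom π g pX f e) _) = Ideal.comap _ (Ideal.comap π.toRingHom _)
  rw [Ideal.comap_comap, Ideal.comap_comap,
    ← Scheme.primeOf_comap pX hU₀ (hU₀.preimage pX) le_rfl x hxU, Ideal.comap_comap]
  congr 1
  refine MvPolynomial.ringHom_ext (fun b => ?_) fun i => ?_
  · simp only [piHom, RingHom.comp_apply, MvPolynomial.map_C, MvPolynomial.eval₂Hom_C]
    show f.appLE _ _ e (g.app V₀ b.1) = pX.appLE U₀ _ le_rfl (π (MvPolynomial.C b.1))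
    rw [← MvPolynomial.algebraMap_eq, AlgHom.commutes, RingHom.algebraMap_toAlgebra,
      ← CommRingCat.comp_apply, ← CommRingCat.comp_apply, Scheme.Hom.app_eq_appLE,
      Scheme.Hom.appLE_comp_appLE, Scheme.Hom.appLE_comp_appLE]
    simp only [sq.w]
  · simp only [piHom, RingHom.comp_apply, MvPolynomial.map_X, MvPolynomial.eval₂Hom_X']
    rw [Scheme.Hom.app_eq_appLE]
    rfl

end Stage

end Groth.Agent.Fibres16.LimCrit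

namespace Groth.Agent.Fibres16.LimCrit

variable {X Y : Scheme.{u}}

theorem isFlatOverAt_of_iso (f : X ⟶ Y) {M N : X.Modules} (e : M ≅ N) (x : X)
    (h : FlatMod.IsFlatOverAt f M x) : FlatMod.IsFlatOverAt f N x := by
  letI := FlatMod.moduleStalkOver f M x
  letI := FlatMod.moduleStalkOver f N x
  have : Module.Flat (Y.presheaf.stalk (f.base x)) (M.presheaf.stalk x) := h
  have hbij : Function.Bijective (PullStalk.Exact.stalkLin e.hom x) :=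
    haveI : IsIso ((TopCat.Presheaf.stalkFunctor Ab.{u} x).map e.hom.mapPresheaf) :=
      Functor.map_isIso (Scheme.Modules.toPresheaf X ⋙ TopCat.Presheaf.stalkFunctor Ab.{u} x) e.hom
    ConcreteCategory.bijective_of_isIso ((TopCat.Presheaf.stalkFunctor Ab x).map e.hom.mapPresheaf)
  let l : M.presheaf.stalk x →ₗ[Y.presheaf.stalk (f.base x)] N.presheaf.stalk x :=
    { toFun := PullStalk.Exact.stalkLin e.hom x
      map_add' := map_add _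
      map_smul' := fun r m => (PullStalk.Exact.stalkLin e.hom x).map_smul ((f.stalkMap x).hom r) m }
  exact Module.Flat.of_linearEquiv (LinearEquiv.ofBijective l hbij).symm

/-- The condition only depends on the map up to isomorphism. -/
theorem CondAt.of_iso {f : X ⟶ Y} {F G F' G' : X.Modules} {u : F ⟶ G} {u' : F' ⟶ G'} {x : X}
    (h : CondAt f u x) (eF : F ≅ F') (eG : G ≅ G') (w : u ≫ eG.hom = eF.hom ≫ u') :
    CondAt f u' x := by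
  refine ⟨?_, isFlatOverAt_of_iso f (cokernel.mapIso u u' eF eG w) x h.2⟩
  let Φ := Scheme.Modules.toPresheaf X ⋙ TopCat.Presheaf.stalkFunctor Ab.{u} x
  intro a b hab
  have key : ∀ z, Φ.map u (Φ.map eF.inv z) = Φ.map eG.inv (Φ.map u' z) := fun z => by
    rw [← ConcreteCategory.comp_apply, ← ConcreteCategory.comp_apply, ← Φ.map_comp, ← Φ.map_comp]
    congr 3
    rw [Iso.inv_comp_eq, ← Category.assoc, ← w, Category.assoc, Iso.hom_inv_id, Category.comp_id]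
  have h1 : Φ.map eF.inv a = Φ.map eF.inv b := h.1 (by
    show Φ.map u (Φ.map eF.inv a) = Φ.map u (Φ.map eF.inv b)
    rw [key, key]
    exact congrArg _ hab)
  haveI : IsIso (Φ.map eF.inv) := inferInstance
  exact (ConcreteCategory.bijective_of_isIso (Φ.map eF.inv)).1 h1

end Groth.Agent.Fibres16.LimCrit
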