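import Groth.Agent.FibCodepth.SchemeAss
import Groth.Agent.FlatOpen.Scheme
import Mathlib.AlgebraicGeometry.Morphisms.Proper

/-!
# Fibrewise loci on the source and on the base
-/

set_option autoImplicit false
set_option linter.style.haveILetI false

universe u

open CategoryTheory AlgebraicGeometry IsLocalRing TensorProduct
open Groth.Agent.AssSch.Stalk

namespace Groth.Agent.Fibres16.Loci

variable {X Y : Scheme.{u}} (f : X ⟶ Y)

/-- A condition on all points of a fibre, read on the source. -/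
theorem setOf_forall_fiber (P : ∀ y : Y, f.fiber y → Prop) :
    {y : Y | ∀ x : f.fiber y, P y x} = (f.base '' {x : X | P (f x) (f.asFiber x)}ᶜ)ᶜ := by
  have key : ∀ (z : X) (y : Y), f z = y → ∀ w : f.fiber y, f.fiberι y w = z → (P y w ↔ P (f z) (f.asFiber z)) := by
    rintro z y rfl w hw
    rw [show w = f.asFiber z from (f.fiberι (f z)).isEmbedding.injective (hw.trans (f.fiberι_asFiber z).symm)]
  ext y
  simp only [Set.mem_compl_iff, Set.mem_image, not_exists, not_and]
  constructor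
  · intro hy x hx hxy
    subst hxy
    exact hx (hy (f.asFiber x))
  · intro hy w
    have hw := FibCodepth.fiber_fiberι f y w
    rw [key (f.fiberι y w) y hw w rfl]
    by_contra hx
    exact hy _ hx hw

/-- For a closed map, a condition on all points of the fibres is open as soon as it is open on the source. -/
theorem isOpen_forall_fiber [IsProper f] (P : ∀ y : Y, f.fiber y → Prop)
    (h : IsOpen {x : X | P (f x) (f.asFiber x)}) : IsOpen {y : Y | ∀ x : f.fiber y, P y x} := by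
  rw [setOf_forall_fiber, isOpen_compl_iff]
  exact f.isClosedMap _ h.isClosed_compl

/-- Sections over a chart of points of flatness are flat. -/
theorem flat_of_forall_stalkMap {V : Y.Opens} (hV : IsAffineOpen V) {U : X.Opens} (hU : IsAffineOpen U)
    (e : U ≤ f ⁻¹ᵁ V) (h : ∀ x ∈ U, (f.stalkMap x).hom.Flat) :
    letI := (f.appLE V U e).hom.toAlgebra
    Module.Flat Γ(Y, V) Γ(X, U) := by
  letI := (f.appLE V U e).hom.toAlgebra
  refine Module.flat_of_isLocalized_maximal Γ(X, U) _ (fun Q _ => LocalizedModule Q.primeCompl Γ(X, U))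
    (fun Q _ => LocalizedModule.mkLinearMap Q.primeCompl _) fun Q hQ => ?_
  obtain ⟨x, hx, rfl⟩ := AssSch.Basic.exists_point hU Q
  exact (FlatOpen.Scheme.stalkMap_flat_iff f hV hU e x hx).1 (h x hx)

/-- A condition which is open on charts of flatness is open in the flat locus. -/
theorem isOpen_flat_and [LocallyOfFinitePresentation f] (P : X → Prop)
    (h : ∀ (V : Y.Opens) (U : X.Opens) (_ : IsAffineOpen V) (hU : IsAffineOpen U) (e : U ≤ f ⁻¹ᵁ V),
      letI := (f.appLE V U e).hom.toAlgebra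
      ∀ (_ : Algebra.FinitePresentation Γ(Y, V) Γ(X, U)) (_ : Module.Flat Γ(Y, V) Γ(X, U)),
      ∃ O : Set (PrimeSpectrum Γ(X, U)), IsOpen O ∧ ∀ x (hx : x ∈ U), P x ↔ hU.primeIdealOf ⟨x, hx⟩ ∈ O) :
    IsOpen {x : X | (f.stalkMap x).hom.Flat ∧ P x} := by
  rw [isOpen_iff_forall_mem_open]
  rintro x₀ ⟨hfx, hPx⟩
  let L : X.Opens := ⟨_, FlatOpen.Scheme.isOpen_stalkMap_flat f⟩
  obtain ⟨V, hV, hxV, -⟩ := exists_isAffineOpen_mem_and_subset (U := (⊤ : Y.Opens)) (x := f.base x₀) trivial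
  obtain ⟨U, hU, hxU, hUV⟩ := exists_isAffineOpen_mem_and_subset (U := f ⁻¹ᵁ V ⊓ L) (x := x₀) ⟨hxV, hfx⟩
  have e : U ≤ f ⁻¹ᵁ V := fun x hx => (hUV hx).1
  letI := (f.appLE V U e).hom.toAlgebra
  haveI : Algebra.FinitePresentation Γ(Y, V) Γ(X, U) := f.finitePresentation_appLE hV hU e
  haveI := flat_of_forall_stalkMap f hV hU e fun x hx => (hUV hx).2
  obtain ⟨O, hO, hiff⟩ := h V U hV hU e inferInstance inferInstance
  obtain ⟨W, hW, hWm⟩ := FibCodepth.exists_open_of_primeIdealOf hU hO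
  exact ⟨W ∩ U, fun x hx => ⟨(hUV hx.2).2, (hiff x hx.2).2 ((hWm x hx.2).1 hx.1)⟩, hW.inter U.2,
    (hWm x₀ hxU).2 ((hiff x₀ hxU).1 hPx), hxU⟩

/-- Codepth of the fibre's local ring, read on a chart. -/
theorem codepth_ring_iff_chart {V : Y.Opens} (hV : IsAffineOpen V) {U : X.Opens} (hU : IsAffineOpen U)
    (e : U ≤ f ⁻¹ᵁ V) (k : ℕ) (s : Y) (y : f.fiber s) (x : X) (hxy : f.fiberι s y = x) (hx : x ∈ U) :
    letI := (f.appLE V U e).hom.toAlgebra
    ringKrullDim ((f.fiber s).presheaf.stalk y) ≤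
      ((LocCoh.depth ((f.fiber s).presheaf.stalk y) ((f.fiber s).presheaf.stalk y) : ℕ∞) : WithBot ℕ∞) + k ↔
      FibCodepth.CodepthLE Γ(Y, V) Γ(X, U) Γ(X, U) (primeOf hU x hx) k := by
  subst hxy
  letI := (f.appLE V U e).hom.toAlgebra
  haveI := FibCodepth.isLocalRing_fibLocRing (A := Γ(Y, V)) (primeOf hU (f.fiberι s y) hx)
  letI := FibCodepth.fibreAlg f s y hx
  obtain ⟨ε⟩ := FibCodepth.nonempty_fibre_ring_chart f hV hU e s y hx
  let μ : (f.fiber s).presheaf.stalk y ≃ₗ[(f.fiber s).presheaf.stalk y]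
      (f.fiber s).presheaf.stalk y ⊗[Γ(X, U)] Γ(X, U) :=
    (AlgebraTensorModule.rid Γ(X, U) ((f.fiber s).presheaf.stalk y) ((f.fiber s).presheaf.stalk y)).symm
  obtain ⟨h1, h2⟩ := EGA4Lib.depth_supportDim_congr μ
  obtain ⟨h3, h4⟩ := EGA4Lib.depth_supportDim_tensor_algEquiv ε Γ(X, U)
  unfold FibCodepth.CodepthLE
  rw [← Module.supportDim_self_eq_ringKrullDim, h1, h2, h3, h4]

end Groth.Agent.Fibres16.Loci
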