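import Groth.Agent.Fibres16.SuppDims
import Mathlib.Topology.NoetherianSpace

/-!
# Finiteness of maximal points
-/

set_option autoImplicit false

universe u

open TopologicalSpace Topology

namespace Groth.Agent.Fibres16.SuppDims

theorem finite_maxPts {T : Type u} [TopologicalSpace T] [T0Space T] [QuasiSober T] [NoetherianSpace T]
    {S : Set T} (hS : IsClosed S) : (maxPts S).Finite := by
  obtain ⟨C, hfin, hcl, hirr, hSC⟩ := NoetherianSpace.exists_finite_set_isClosed_irreducible hS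
  choose g hg using fun Z : C => QuasiSober.sober (hirr Z Z.2) (hcl Z Z.2)
  haveI := hfin.to_subtype
  refine (Set.finite_range g).subset ?_
  rintro w ⟨hw, hmax⟩
  rw [hSC] at hw
  obtain ⟨Z, hZ, hwZ⟩ := Set.mem_sUnion.1 hw
  refine ⟨⟨Z, hZ⟩, hmax _ ?_ ((hg ⟨Z, hZ⟩).specializes hwZ)⟩
  rw [hSC]
  exact Set.mem_sUnion.2 ⟨Z, hZ, (hg ⟨Z, hZ⟩).mem⟩

end Groth.Agent.Fibres16.SuppDims
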