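import Groth.Agent.EquidimPt.Component
import Groth.Agent.GUOpen.Crit
import Groth.Agent.AlgSpD.FibreDimBC
import Groth.Agent.QSect.Scheme
import Groth.Agent.S0565

/-!
# Components over a point where the morphism is open (EGA IV 14.2.1)
-/

set_option autoImplicit false
set_option linter.style.haveILetI false

universe u

open CategoryTheory Limits AlgebraicGeometry TopologicalSpace Topology

namespace Groth.Agent.Fibres16.OpenComp

variable {X Y : Scheme.{u}} (f : X ⟶ Y)

/-- The dimension of the closure of `a` in its fibre. -/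
noncomputable def fd (a : X) : WithBot ℕ∞ := Order.krullDim {z : X | f z = f a ∧ a ⤳ z}

/-- `a` is a maximal point of its fibre. -/
def IsFibMax (a : X) : Prop := ∀ z, f z = f a → z ⤳ a → z = a

theorem fd_eq [LocallyOfFiniteType f] {a : X} (ha : IsFibMax f a) :
    FlatMor.fibreDimAt f a = fd f a := GUOpen.fibreDimAt_of_max f ha

theorem exists_fd_nat [LocallyOfFiniteType f] (a : X) : ∃ t : ℕ, fd f a = t := by
  obtain ⟨n, t, -, -, ht, -, -⟩ := EquidimPt.fibre_facts f a
  exact ⟨t, ht⟩

/-- Every point lies below a maximal point of its fibre. -/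
theorem exists_fibMax [LocallyOfFiniteType f] (a : X) :
    ∃ c, c ⤳ a ∧ f c = f a ∧ IsFibMax f c := by
  obtain ⟨c, hca, hfc, hmax, -⟩ := FibSemi.exists_max_fibre f a
  exact ⟨c, hca, hfc, fun z hz hzc => hmax z (hz.trans hfc) hzc⟩

theorem fd_mono {a c : X} (hca : c ⤳ a) (hfc : f c = f a) : fd f a ≤ fd f c :=
  FibSemi.krullDim_mono fun _ hz => ⟨hz.1.trans hfc.symm, hca.trans hz.2⟩

/-- The points of a fibre bound its dimension. -/
theorem topDim_fiber_le [LocallyOfFiniteType f] {y : Y} {d : WithBot ℕ∞}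
    (h : ∀ a, f a = y → IsFibMax f a → fd f a ≤ d) : topologicalKrullDim ↥(f.fiber y) ≤ d := by
  rw [DimLift.topDim_eq_krullDim_points]
  refine iSup_le fun l => ?_
  have hy : ∀ z : f.fiber y, f (f.fiberι y z) = y := fun z => (f.range_fiberι y).le (Set.mem_range_self z)
  obtain ⟨c, hca, hfc, hc⟩ := exists_fibMax f (f.fiberι y l.last)
  have hfy : f c = y := hfc.trans (hy _)
  refine le_trans ?_ (h c hfy hc)
  refine Order.le_krullDim_iff.2 ⟨LTSeries.mk l.length
    (fun i => ⟨f.fiberι y (l i), (hy _).trans hfy.symm,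
      hca.trans ((show Specializes l.last (l i) from l.monotone (Fin.le_last i)).map (f.fiberι y).continuous)⟩) ?_, rfl⟩
  intro i j hij
  exact lt_of_le_not_ge ((FibSemi.fiberι_le_iff f y _ _).2 (l.monotone hij.le))
    fun hge => (l.strictMono hij).not_ge ((FibSemi.fiberι_le_iff f y _ _).1 hge)

theorem le_topDim_fiber {y : Y} {a : X} (ha : f a = y) : fd f a ≤ topologicalKrullDim ↥(f.fiber y) := by
  subst ha
  rw [fd, ← FibSemi.height_asFiber, ← QSect.topDim_closure_singleton]
  exact IsInducing.subtypeVal.topologicalKrullDim_le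

/-- The dimensions of the components of a fibre. -/
theorem dims_eq [LocallyOfFiniteType f] (y : Y) :
    (fun Z : Set ↥(f.fiber y) => topologicalKrullDim ↥Z) '' irreducibleComponents ↥(f.fiber y) =
      {d | ∃ a, f a = y ∧ IsFibMax f a ∧ fd f a = d} := by
  have hy : ∀ z : f.fiber y, f (f.fiberι y z) = y := fun z => (f.range_fiberι y).le (Set.mem_range_self z)
  have hdim : ∀ w : f.fiber y, topologicalKrullDim ↥(closure ({w} : Set ↥(f.fiber y))) = fd f (f.fiberι y w) := by
    intro w
    obtain ⟨a, ha⟩ : ∃ a, a = f.fiberι y w := ⟨_, rfl⟩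
    obtain rfl : f a = y := ha ▸ hy w
    obtain rfl : w = f.asFiber a :=
      (f.fiberι (f a)).isEmbedding.injective (ha.symm.trans (f.fiberι_asFiber a).symm)
    rw [f.fiberι_asFiber, QSect.topDim_closure_singleton, FibSemi.height_asFiber]
    rfl
  ext d
  constructor
  · rintro ⟨Z, hZ, rfl⟩
    obtain ⟨w, hw, rfl⟩ := FlatOpen.EquiDim.exists_max_closure_eq hZ
    refine ⟨f.fiberι y w, hy w, fun z hz hzw => ?_, (hdim w).symm⟩
    obtain ⟨v, rfl⟩ : z ∈ Set.range (f.fiberι y) := by
      rw [f.range_fiberι]; exact hz.trans (hy w)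
    rw [hw v ((f.fiberι y).isEmbedding.specializes_iff.1 hzw)]
  · rintro ⟨a, rfl, hmax, rfl⟩
    refine ⟨closure {f.asFiber a}, FlatOpen.EquiDim.closure_mem_irreducibleComponents fun z hz => ?_, ?_⟩
    · refine (f.fiberι (f a)).isEmbedding.injective ?_
      rw [f.fiberι_asFiber]
      exact hmax _ ((f.range_fiberι (f a)).le (Set.mem_range_self z))
        ((hz.map (f.fiberι (f a)).continuous).trans (specializes_of_eq (f.fiberι_asFiber a)))
    · show topologicalKrullDim ↥(closure ({f.asFiber a} : Set ↥(f.fiber (f a)))) = _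
      rw [hdim, f.fiberι_asFiber]

theorem topDim_closure_inter_fibre {m : X} {y : Y} (h : f m = y) :
    topologicalKrullDim ↥(closure {m} ∩ f.base ⁻¹' {y}) = fd f m := by
  subst h
  exact FibSemi.topDim_closure_inter_fibre_eq f m (f m)

variable [LocallyOfFiniteType f] [IsLocallyNoetherian Y]

/-- A component carrying the dimension of a fibre component, from the dimension formula. -/
theorem exists_component_of_formula [IrreducibleSpace Y] {ζ : X} (hζ : IsFibMax f ζ)
    (hd : ringKrullDim (X.presheaf.stalk ζ) =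
      ringKrullDim (Y.presheaf.stalk (f ζ)) + ringKrullDim ((f.fiber (f ζ)).presheaf.stalk (f.asFiber ζ))) :
    ∃ m, FlatOpen.EquiDim.Max m ∧ m ⤳ ζ ∧ f m = genericPoint Y ∧ fd f m = fd f ζ := by
  haveI : IsLocallyNoetherian X := LocallyOfFiniteType.isLocallyNoetherian f
  obtain ⟨m, hmζ, hm, hb⟩ := EquidimPt.exists_max_attained ζ
  obtain ⟨hfm, hfd, -⟩ := EquidimPt.component_of_formula f hmζ hm hb hd
  rw [fd_eq f hζ, fd_eq f fun z _ hz => hm z hz] at hfd
  exact ⟨m, hm, hmζ, (hfm _ (genericPoint_specializes _)).symm, hfd⟩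

/-- The dimension formula at a maximal point of a fibre where `f` is open. -/
theorem formula_of_isOpenAt {ζ : X} (hζ : IsFibMax f ζ) (ho : EGA43.IsOpenAt f.base ζ) :
    ringKrullDim (X.presheaf.stalk ζ) =
      ringKrullDim (Y.presheaf.stalk (f ζ)) + ringKrullDim ((f.fiber (f ζ)).presheaf.stalk (f.asFiber ζ)) := by
  haveI : IsLocallyNoetherian X := LocallyOfFiniteType.isLocallyNoetherian f
  refine DimOpen.dim_eq_add f ζ fun z hz _ => ?_
  rw [hζ _ ((f.range_fiberι (f ζ)).le (Set.mem_range_self z))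
    ((((specializes_iff_mem_closure).2 hz).map (f.fiberι (f ζ)).continuous).trans
      (specializes_of_eq (f.fiberι_asFiber ζ)))]
  exact ho

/-- EGA IV 14.2.1: over an irreducible base. -/
theorem exists_component [IrreducibleSpace Y] {ζ : X} (hζ : IsFibMax f ζ) (ho : EGA43.IsOpenAt f.base ζ) :
    ∃ m, FlatOpen.EquiDim.Max m ∧ m ⤳ ζ ∧ f m = genericPoint Y ∧ fd f m = fd f ζ :=
  exists_component_of_formula f hζ (formula_of_isOpenAt f hζ ho)

/-- Over every generization of the image there is a fibre component of the same dimension. -/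
theorem exists_gen {ζ : X} (hζ : IsFibMax f ζ) (ho : EGA43.IsOpenAt f.base ζ) {y' : Y} (hy : y' ⤳ f ζ) :
    ∃ c, c ⤳ ζ ∧ f c = y' ∧ IsFibMax f c ∧ fd f c = fd f ζ := by
  let C : Closeds Y := ⟨closure {y'}, isClosed_closure⟩
  let i := (Scheme.IdealSheafData.vanishingIdeal C).subschemeι
  have hr : Set.range i = closure {y'} := by
    rw [Scheme.IdealSheafData.range_subschemeι, Scheme.IdealSheafData.coe_support_vanishingIdeal]
    rfl
  haveI : IrreducibleSpace ↥(Scheme.IdealSheafData.vanishingIdeal C).subscheme := by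
    obtain ⟨a, ha⟩ : y' ∈ Set.range i := hr.ge (subset_closure rfl)
    rw [irreducibleSpace_def, show (⊤ : Set _) = closure ({a} : Set _) from (Set.eq_univ_of_forall fun z =>
      specializes_iff_mem_closure.1 (i.isEmbedding.specializes_iff.1
        (ha ▸ specializes_iff_mem_closure.2 (hr.le (Set.mem_range_self z))))).symm]
    exact isIrreducible_singleton.closure
  haveI : IsLocallyNoetherian (Scheme.IdealSheafData.vanishingIdeal C).subscheme :=
    LocallyOfFiniteType.isLocallyNoetherian i
  let g := pullback.fst f i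
  let q := pullback.snd f i
  haveI : LocallyOfFiniteType q := MorphismProperty.pullback_snd _ _ inferInstance
  haveI : IsClosedImmersion g := MorphismProperty.pullback_fst _ _ inferInstance
  have sq : IsPullback g q f i := IsPullback.of_hasPullback f i
  obtain ⟨v, hv⟩ : f ζ ∈ Set.range i := hr.ge (specializes_iff_mem_closure.1 hy)
  obtain ⟨p, hp, hqp⟩ := Scheme.exists_preimage_of_isPullback sq ζ v hv.symm
  subst hp
  have hw : ∀ a, f (g a) = i (q a) := fun a => by
    rw [← Scheme.Hom.comp_apply, sq.w, Scheme.Hom.comp_apply]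
  have hpmax : IsFibMax q p := fun z hz hzp => g.isEmbedding.injective
    (hζ (g z) (by rw [hw, hw, hz]) (hzp.map g.continuous))
  have hop : EGA43.IsOpenAt q.base p := by
    intro W hW
    obtain ⟨W', hW', hWW⟩ : ∃ W' ∈ nhds (g p), g ⁻¹' W' ⊆ W := by
      rw [g.isEmbedding.isInducing.nhds_eq_comap] at hW
      exact hW
    refine Filter.mem_of_superset (i.continuous.continuousAt.preimage_mem_nhds
      (t := f '' W') (by rw [← hw]; exact ho W' hW')) ?_
    rintro s ⟨a, ha, has⟩
    obtain ⟨b, hb, hbs⟩ := Scheme.exists_preimage_of_isPullback sq a s has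
    exact ⟨b, hWW (show g b ∈ W' by rw [hb]; exact ha), hbs⟩
  obtain ⟨m, hm, hmp, hqm, hmd⟩ := exists_component q hpmax hop
  have hgen : i (genericPoint ↥(Scheme.IdealSheafData.vanishingIdeal C).subscheme) = y' := by
    have h1 : y' ⤳ i (genericPoint _) := specializes_iff_mem_closure.2 (hr.le (Set.mem_range_self _))
    obtain ⟨w, hw'⟩ : y' ∈ Set.range i := hr.ge (subset_closure rfl)
    exact ((hw' ▸ (genericPoint_specializes w).map i.continuous : i (genericPoint _) ⤳ y').antisymm h1).eq
  have hfm : f (g m) = y' := by rw [hw, hqm, hgen]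
  have hcmax : IsFibMax f (g m) := fun z hz hzm => by
    obtain ⟨b, hb, -⟩ := Scheme.exists_preimage_of_isPullback sq z (genericPoint _)
      ((hz.trans hfm).trans hgen.symm)
    subst hb
    rw [hm b (g.isEmbedding.specializes_iff.1 hzm)]
  refine ⟨g m, hmp.map g.continuous, hfm, hcmax, ?_⟩
  rw [← fd_eq f hcmax, ← fd_eq f hζ, ← AlgSpD.fibreDimAt_of_isPullback f sq,
    ← AlgSpD.fibreDimAt_of_isPullback f sq, fd_eq q fun z _ hz => hm z hz, fd_eq q hpmax, hmd]

omit [IsLocallyNoetherian Y] in
/-- For a closed map the fibre dimension only grows under specialization. -/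
theorem fd_le_topDim_fiber (hf : IsClosedMap f.base) {c : X} {z : Y} (hz : f c ⤳ z) :
    fd f c ≤ topologicalKrullDim ↥(f.fiber z) := by
  obtain ⟨x, hcx, rfl⟩ := hf.specializingMap hz
  obtain ⟨a, hax, hfa, ha⟩ := exists_fibMax f x
  rw [fd, ← FibSemi.topDim_closure_inter_fibre_eq]
  refine (FibSemi.topDim_closure_le_fibreDimAt f hcx).trans ?_
  obtain ⟨b, -, hfb, hb, -, -, e, -, -, he, hbe, -⟩ := FibSemi.exists_max_fibre f x
  rw [he, ← hbe]
  exact le_topDim_fiber f hfb

end Groth.Agent.Fibres16.OpenComp
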