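import Groth.Agent.FlatOpen.SchemeMap
import Groth.Agent.FlatMor.FibreStalk
import Groth.Agent.FDesc.Stalk
import Groth.Agent.AssSch.Basic
import Groth.Agent.LimTop.PullSec
import Groth.Agent.LimTop.TensorQC
import Groth.Agent.Props.QFP
import Groth.Agent.SchDom.Scheme
import Mathlib.RingTheory.Ideal.AssociatedPrime.Finiteness
import Mathlib.LinearAlgebra.TensorProduct.Quotient

/-!
# Elements regular on every base change (EGA IV 11.10, via 11.3.7)

At a point outside `Ass` of the fibre module of a flat finitely presented `F`, some element of the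
maximal ideal stays regular on `F` after every base change; hence universal injectivity of
`F → j_* j^* F` is checked on fibres.
-/

set_option autoImplicit false
set_option linter.style.haveILetI false

universe u

open CategoryTheory CategoryTheory.Limits AlgebraicGeometry TopologicalSpace Opposite TensorProduct
open Groth.Agent.AssSch.Stalk Groth.Agent.FlatOpen Groth.Agent.PullStalk.Sky Groth.Agent.QCoh

namespace Groth.Agent.Fibres16.RegularBC

section Alg

/-- A finite module over a Noetherian local ring without maximal associated prime has a regular element. -/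
theorem exists_regular_mem_maximalIdeal {O M : Type u} [CommRing O] [IsLocalRing O] [IsNoetherianRing O]
    [AddCommGroup M] [Module O M] [Module.Finite O M]
    (h : IsLocalRing.maximalIdeal O ∉ associatedPrimes O M) :
    ∃ a ∈ IsLocalRing.maximalIdeal O, ∀ m : M, a • m = 0 → m = 0 := by
  classical
  have hfin := associatedPrimes.finite O M
  by_contra hcon
  push Not at hcon
  have hsub : (IsLocalRing.maximalIdeal O : Set O) ⊆ ⋃ P ∈ (hfin.toFinset : Set (Ideal O)), (P : Set O) := by
    intro a ha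
    obtain ⟨m, hm, hm0⟩ := hcon a ha
    have : a ∈ ⋃ p ∈ associatedPrimes O M, (p : Set O) := by
      rw [biUnion_associatedPrimes_eq_zero_divisors]
      exact ⟨m, hm0, hm⟩
    simpa using this
  obtain ⟨P, hP, hle⟩ := (Ideal.subset_union_prime (f := id) ⊥ ⊥
    fun P hP _ _ => (hfin.mem_toFinset.1 hP).isPrime).1 hsub
  have hP' := hfin.mem_toFinset.1 hP
  exact h (IsLocalRing.eq_maximalIdeal ((IsLocalRing.maximalIdeal.isMaximal O).eq_of_le
    hP'.isPrime.ne_top hle ▸ IsLocalRing.maximalIdeal.isMaximal O) ▸ hP')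

/-- The kernel of `M → B ⊗ M` for a surjective `O → B`. -/
theorem mem_ker_smul_top {O B M : Type u} [CommRing O] [CommRing B] [Algebra O B] [AddCommGroup M]
    [Module O M] (hs : Function.Surjective (algebraMap O B)) {m : M} :
    (1 : B) ⊗ₜ[O] m = 0 ↔ m ∈ RingHom.ker (algebraMap O B) • (⊤ : Submodule O M) := by
  let I := RingHom.ker (algebraMap O B)
  let e : (O ⧸ I) ≃ₐ[O] B := Ideal.quotientKerAlgEquivOfSurjective (f := Algebra.ofId O B) hs
  let E := (TensorProduct.congr e.toLinearEquiv (LinearEquiv.refl O M)).symm.trans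
    (TensorProduct.quotTensorEquivQuotSMul M I)
  rw [← Submodule.Quotient.mk_eq_zero, ← E.map_eq_zero_iff]
  have : E ((1 : B) ⊗ₜ[O] m) = Submodule.Quotient.mk m := by
    show TensorProduct.quotTensorEquivQuotSMul M I (e.symm (1 : B) ⊗ₜ[O] m) = _
    rw [map_one, show (1 : O ⧸ I) = Ideal.Quotient.mk I 1 from rfl,
      TensorProduct.quotTensorEquivQuotSMul_mk_tmul, one_smul]
  rw [this]

variable {R S : Type u} [CommRing R] [CommRing S] [Algebra R S] {M : Type u} [AddCommGroup M]
  [Module S M] [Module R M] [IsScalarTower R S M]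

/-- Regularity at `Q` with flat cokernel survives base change. -/
theorem exists_smul_eq_zero (Q : Ideal S) [Q.IsPrime] (b : S)
    (hC : FlatCA.FlatAt R Q (M ⧸ LinearMap.range (LinearMap.lsmul S M b)))
    (hreg : ∀ m : M, b • m = 0 → ∃ t ∉ Q, t • m = 0)
    (R' : Type u) [AddCommGroup R'] [Module R R'] (z : M ⊗[R] R') (hz : b • z = 0) :
    ∃ t ∉ Q, t • z = 0 := by
  let u := LinearMap.lsmul S M b
  let W := LinearMap.range u
  haveI : Module.Flat R (LocalizedModule Q.primeCompl (M ⧸ W)) := hC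
  let π : M →ₗ[S] W := u.rangeRestrict
  have hπ : Function.Surjective π := u.surjective_rangeRestrict
  have h1 : (W.subtype.restrictScalars R).rTensor R' ((π.restrictScalars R).rTensor R' z) = 0 := by
    rw [← LinearMap.comp_apply, ← LinearMap.rTensor_comp]
    rw [← hz]
    clear hz
    induction z with
    | zero => simp
    | tmul m r => rfl
    | add x y hx hy => rw [map_add, smul_add, hx, hy]
  obtain ⟨t, ht, htz⟩ := exists_smul_eq_zero_of_flat_coker Q.primeCompl W.subtype W.injective_subtype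
    W.mkQ W.mkQ_surjective (LinearMap.exact_subtype_mkQ W) R' _ h1
  have h2 : (π.restrictScalars R).rTensor R' (t • z) = 0 := by
    rw [← htz]
    clear htz h1 hz
    induction z with
    | zero => simp
    | tmul m r =>
      rw [smul_tmul', LinearMap.rTensor_tmul, LinearMap.rTensor_tmul, smul_tmul']
      congr 1
      exact π.map_smul t m
    | add x y hx hy => rw [smul_add, map_add, map_add, smul_add, hx, hy]
  have hex : Function.Exact ((LinearMap.ker π).subtype.restrictScalars R) (π.restrictScalars R) :=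
    LinearMap.exact_subtype_ker_map π
  obtain ⟨y, hy⟩ := (rTensor_exact R' hex hπ (t • z)).1 h2
  obtain ⟨t', ht', hty⟩ : ∃ t' ∉ Q, t' • y = 0 := by
    clear hy
    induction y with
    | zero => exact ⟨1, fun h => Ideal.IsPrime.ne_top ‹_› ((Ideal.eq_top_iff_one _).2 h), smul_zero _⟩
    | tmul k r =>
      obtain ⟨s, hs, hsk⟩ := hreg k.1 (congrArg Subtype.val (LinearMap.mem_ker.1 k.2))
      exact ⟨s, hs, by rw [smul_tmul', show s • k = 0 from Subtype.ext hsk, zero_tmul]⟩
    | add x y hx hy =>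
      obtain ⟨s, hs, hsx⟩ := hx
      obtain ⟨s', hs', hsy⟩ := hy
      exact ⟨s * s', Ideal.IsPrime.mul_notMem ‹_› hs hs', by
        rw [smul_add, mul_smul, mul_smul s s' y, hsy, smul_zero, smul_comm, hsx, smul_zero, add_zero]⟩
  refine ⟨t' * t, Ideal.IsPrime.mul_notMem ‹_› ht' ht, ?_⟩
  rw [mul_smul, ← hy]
  generalize y = w at hty ⊢
  have : ∀ v, t' • ((LinearMap.ker π).subtype.restrictScalars R).rTensor R' v =
      ((LinearMap.ker π).subtype.restrictScalars R).rTensor R' (t' • v) := by
    intro v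
    induction v with
    | zero => simp
    | tmul k r => rfl
    | add x y hx hy => rw [map_add, smul_add, smul_add, map_add, hx, hy]
  rw [this, hty, map_zero]

/-- Nilpotence at a minimal prime over an ideal. -/
theorem exists_mul_pow_mem {I P : Ideal S} (hP : P ∈ I.minimalPrimes) {b : S} (hb : b ∈ P) :
    ∃ (s : S) (k : ℕ), s ∉ P ∧ s * b ^ k ∈ I := by
  haveI := hP.isPrime
  by_contra hcon
  push Not at hcon
  obtain ⟨q, hq, hIq, hdisj⟩ := Ideal.exists_le_prime_disjoint (I := I) (P.primeCompl ⊔ Submonoid.powers b) (by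
    rw [Set.disjoint_left]
    intro x hxI hxS
    obtain ⟨s, hs, _, ⟨k, rfl⟩, rfl⟩ := Submonoid.mem_sup.1 hxS
    exact hcon s k hs hxI)
  have hqP : q ≤ P := fun x hx => by_contra fun hxP =>
    Set.disjoint_left.1 hdisj hx ((le_sup_left : P.primeCompl ≤ _) hxP)
  exact Set.disjoint_left.1 hdisj (hP.2 ⟨hq, hIq⟩ hqP hb)
    ((le_sup_right : Submonoid.powers b ≤ _) (Submonoid.mem_powers b))

end Alg

variable {X S : Scheme.{u}} (f : X ⟶ S) [LocallyOfFinitePresentation f] (F : X.Modules)
  [F.IsQuasicoherent]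

/-- Injective restriction to an open on a locally Noetherian scheme keeps associated points inside. -/
theorem maximalIdeal_not_mem_of_injective {Z : Scheme.{u}} [IsLocallyNoetherian Z] (M : Z.Modules)
    [M.IsQuasicoherent] (U : Z.Opens)
    (h : ∀ V : Z.Opens, Function.Injective (M.presheaf.map (homOfLE (inf_le_left : V ⊓ U ≤ V)).op))
    (y : Z) (hy : y ∉ U) :
    IsLocalRing.maximalIdeal (Z.presheaf.stalk y) ∉ associatedPrimes (Z.presheaf.stalk y) (M.presheaf.stalk y) := by
  intro hass
  obtain ⟨W, hW, hyW⟩ := AssSch.Basic.exists_affine y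
  haveI := isNoetherianRing_of_isAffineOpen hW
  obtain ⟨hQ, m, hm⟩ := isAssociatedPrime_iff.1 ((mem_ass_iff M hW y hyW).1 hass)
  have h0 : M.presheaf.map (homOfLE (inf_le_left : W ⊓ U ≤ W)).op m = 0 := by
    refine AssSch.Basic.eq_zero_of_germ_eq_zero M _ fun z hz => ?_
    have hne : ¬ primeOf hW y hyW ≤ primeOf hW z hz.1 := fun hle =>
      hy (((AssSch.Basic.primeOf_le_iff hW y z hyW hz.1).1 hle).mem_open U.2 hz.2)
    obtain ⟨g, hg, hgz⟩ := Set.not_subset.1 hne
    have hgm : g • m = 0 := by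
      have : g ∈ (⊥ : Submodule Γ(Z, W) Γ(M, W)).colon {m} := hm ▸ hg
      rwa [Submodule.mem_colon_singleton, Submodule.mem_bot] at this
    refine (M.presheaf.germ_res_apply (homOfLE inf_le_left) z hz m).trans ?_
    exact (germM_eq_zero_iff M hW z hz.1 m).2 ⟨g, hgz, hgm⟩
  have : m = 0 := h W (h0.trans (map_zero _).symm)
  refine hQ.ne_top ((Ideal.eq_top_iff_one _).2 ?_)
  rw [hm, this, Submodule.mem_colon_singleton, smul_zero, Submodule.mem_bot]

/-- A stalk element regular on the fibre. -/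
theorem exists_fibre_regular (hF : CohB1.IsFP F) (U : X.Opens) (x : X) (hx : x ∉ U)
    (hinj : ∀ (V : (↑(f.fiber (f x)) : Scheme.{u}).Opens),
      Function.Injective (((Scheme.Modules.pullback (f.fiberι (f x))).obj F).presheaf.map
        (homOfLE (inf_le_left : V ⊓ (f.fiberι (f x)) ⁻¹ᵁ U ≤ V)).op)) :
    ∃ a ∈ IsLocalRing.maximalIdeal (X.presheaf.stalk x), ∀ m : F.presheaf.stalk x,
      a • m ∈ Ideal.map (f.stalkMap x).hom (IsLocalRing.maximalIdeal (S.presheaf.stalk (f x))) •
          (⊤ : Submodule (X.presheaf.stalk x) (F.presheaf.stalk x)) →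
      m ∈ Ideal.map (f.stalkMap x).hom (IsLocalRing.maximalIdeal (S.presheaf.stalk (f x))) •
          (⊤ : Submodule (X.presheaf.stalk x) (F.presheaf.stalk x)) := by
  have gen : ∀ (x' : X) (s : S) (y : f.fiber s), f.fiberι s y = x' → x' ∉ U →
      (∀ (V : (↑(f.fiber s) : Scheme.{u}).Opens),
        Function.Injective (((Scheme.Modules.pullback (f.fiberι s)).obj F).presheaf.map
          (homOfLE (inf_le_left : V ⊓ (f.fiberι s) ⁻¹ᵁ U ≤ V)).op)) →
      ∃ a ∈ IsLocalRing.maximalIdeal (X.presheaf.stalk x'), ∀ m : F.presheaf.stalk x',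
        a • m ∈ Ideal.map (f.stalkMap x').hom (IsLocalRing.maximalIdeal (S.presheaf.stalk (f x'))) •
            (⊤ : Submodule (X.presheaf.stalk x') (F.presheaf.stalk x')) →
        m ∈ Ideal.map (f.stalkMap x').hom (IsLocalRing.maximalIdeal (S.presheaf.stalk (f x'))) •
            (⊤ : Submodule (X.presheaf.stalk x') (F.presheaf.stalk x')) := by
    rintro _ s y rfl hyU hinj'
    haveI : LocallyOfFiniteType (f.fiberToSpecResidueField s) :=
      MorphismProperty.pullback_snd _ _ (inferInstance : LocallyOfFiniteType f)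
    haveI : IsLocallyNoetherian (f.fiber s) :=
      LocallyOfFiniteType.isLocallyNoetherian (f.fiberToSpecResidueField s)
    let M := (Scheme.Modules.pullback (f.fiberι s)).obj F
    haveI : M.IsQuasicoherent := QCoh.isQuasicoherent_pullback _ F
    haveI : F.IsFiniteType := by
      haveI : SheafOfModules.IsFinitePresentation (R := X.ringCatSheaf) F := hF
      exact inferInstanceAs (SheafOfModules.IsFiniteType (R := X.ringCatSheaf) F)
    letI := ((f.fiberι s).stalkMap y).hom.toAlgebra
    obtain ⟨e, he⟩ := FDesc.Stalk.exists_stalk_equiv (f.fiberι s) F y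
    haveI := LimTop.TensorQC.finite_stalk F (f.fiberι s y)
    haveI : Module.Finite ((f.fiber s).presheaf.stalk y) (M.presheaf.stalk y) := Module.Finite.equiv e
    obtain ⟨a', ha', hreg⟩ := exists_regular_mem_maximalIdeal
      (maximalIdeal_not_mem_of_injective M _ hinj' y hyU)
    have hs := (f.fiberι s).stalkMap_surjective y
    obtain ⟨a, rfl⟩ := hs a'
    refine ⟨a, fun hu => ha' (hu.map ((f.fiberι s).stalkMap y).hom), fun m hm => ?_⟩
    rw [← FlatMor.FibreStalk.ker_stalkMap_fiberι] at hm ⊢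
    replace hm : (1 : (f.fiber s).presheaf.stalk y) ⊗ₜ[X.presheaf.stalk (f.fiberι s y)] (a • m) = 0 :=
      (mem_ker_smul_top hs).2 hm
    refine (mem_ker_smul_top (B := (f.fiber s).presheaf.stalk y) hs).1 ?_
    apply e.injective
    rw [map_zero]
    refine hreg _ ?_
    rw [← map_smul, show ((f.fiberι s).stalkMap y).hom a • ((1 : (f.fiber s).presheaf.stalk y) ⊗ₜ[_] m) =
      (1 : (f.fiber s).presheaf.stalk y) ⊗ₜ[_] (a • m) from by
        rw [TensorProduct.tmul_smul, TensorProduct.smul_tmul', TensorProduct.smul_tmul']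
        congr 1]
    rw [hm, map_zero]
  exact gen x (f x) (f.asFiber x) (f.fiberι_asFiber x) hx hinj

/-- On every base change some element of the maximal ideal is regular, outside `U`. -/
theorem exists_regular (hF : CohB1.IsFP F) (hflat : FlatMod.IsFlatOver f F) (U : X.Opens)
    (hinj : ∀ (s : S) (V : (↑(f.fiber s) : Scheme.{u}).Opens),
      Function.Injective (((Scheme.Modules.pullback (f.fiberι s)).obj F).presheaf.map
        (homOfLE (inf_le_left : V ⊓ (f.fiberι s) ⁻¹ᵁ U ≤ V)).op))
    {S' : Scheme.{u}} (g : S' ⟶ S) (x' : ↑(pullback f g)) (hx' : pullback.fst f g x' ∉ U) :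
    ∃ a ∈ IsLocalRing.maximalIdeal ((pullback f g).presheaf.stalk x'),
      ∀ m : ((Scheme.Modules.pullback (pullback.fst f g)).obj F).presheaf.stalk x',
        a • m = 0 → m = 0 := by
  let x := pullback.fst f g x'
  obtain ⟨a, ha, hfib⟩ := exists_fibre_regular f F hF U x hx' (hinj (f x))
  -- charts
  obtain ⟨US, hS, hsU, -⟩ := exists_isAffineOpen_mem_and_subset (U := (⊤ : S.Opens)) (x := f x) trivial
  obtain ⟨W, hW, hxW, eW⟩ := exists_isAffineOpen_mem_and_subset (U := f ⁻¹ᵁ US) (x := x) hsU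
  obtain ⟨W', hW', hyW', eW'⟩ := exists_isAffineOpen_mem_and_subset
    (U := g ⁻¹ᵁ US) (x := pullback.snd f g x') (by
      show (pullback.snd f g ≫ g) x' ∈ US
      rw [← pullback.condition]
      exact hsU)
  letI := (f.appLE US W eW).hom.toAlgebra
  letI : Module Γ(S, US) Γ(F, W) := Module.compHom _ (f.appLE US W eW).hom
  haveI : IsScalarTower Γ(S, US) Γ(X, W) Γ(F, W) := IsScalarTower.of_algebraMap_smul fun _ _ => rfl
  haveI : Algebra.FinitePresentation Γ(S, US) Γ(X, W) := f.finitePresentation_appLE hS hW eW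
  haveI : Module.FinitePresentation Γ(X, W) Γ(F, W) := (Props.QFP.isFP_iff F).1 hF W hW
  let Q := primeOf hW x hxW
  let I := (Q.comap (algebraMap Γ(S, US) Γ(X, W))).map (algebraMap Γ(S, US) Γ(X, W))
  letI : Algebra Γ(X, W) (X.presheaf.stalk x) := (X.presheaf.germ W x hxW).hom.toAlgebra
  letI : Module Γ(X, W) (F.presheaf.stalk x) := Module.compHom _ (X.presheaf.germ W x hxW).hom
  haveI : IsScalarTower Γ(X, W) (X.presheaf.stalk x) (F.presheaf.stalk x) :=
    IsScalarTower.of_algebraMap_smul fun _ _ => rfl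
  haveI : IsLocalization.AtPrime (X.presheaf.stalk x) Q := hW.isLocalization_stalk ⟨x, hxW⟩
  haveI := isLocalizedModule_germLinear F hW x hxW
  let gl := germLinear F x hxW
  have hJ := Scheme.maximalIdeal_map_stalkMap f hS hW eW x hxW
  obtain ⟨⟨b, s⟩, hb⟩ := IsLocalization.surj Q.primeCompl a
  have hbQ : b ∈ Q := by
    by_contra hbn
    exact ha (isUnit_of_mul_isUnit_left (hb ▸ IsLocalization.map_units (X.presheaf.stalk x) (⟨b, hbn⟩ : Q.primeCompl)))
  have hcrit : ∀ m : Γ(F, W), LinearMap.lsmul Γ(X, W) Γ(F, W) b m ∈ I • (⊤ : Submodule Γ(X, W) Γ(F, W)) →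
      ∃ t ∉ Q, t • m ∈ I • (⊤ : Submodule Γ(X, W) Γ(F, W)) := by
    intro m hm
    refine (Scheme.mem_map_smul_top_iff (A := X.presheaf.stalk x) Q.primeCompl gl I m).1 ?_
    have h1 := (Scheme.mem_map_smul_top_iff (A := X.presheaf.stalk x) Q.primeCompl gl I (b • m)).2
      ⟨1, Q.primeCompl.one_mem, by rw [one_smul]; exact hm⟩
    rw [map_smul, ← algebraMap_smul (X.presheaf.stalk x) b, ← hb, mul_comm, mul_smul,
      Submodule.smul_mem_iff_of_isUnit _ (IsLocalization.map_units _ s)] at h1
    have hJ' : Ideal.map (f.stalkMap x).hom (IsLocalRing.maximalIdeal (S.presheaf.stalk (f x))) =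
        I.map (algebraMap Γ(X, W) (X.presheaf.stalk x)) := hJ
    rw [← hJ'] at h1 ⊢
    exact hfib _ h1
  have hflatQ := (Scheme.isFlatOverAt_iff f hS hW eW x hxW F).1 (hflat x)
  obtain ⟨hC, hreg⟩ := injective_coker_flat_of_fibEq Γ(S, US) Γ(X, W) _ Q hflatQ hcrit
  -- base change
  let P := SchDom.prodOpen f g W W'
  have hsub : P ≤ pullback.snd f g ⁻¹ᵁ W' := SchDom.prodOpen_le_snd f g W W'
  have hfst : P ≤ pullback.fst f g ⁻¹ᵁ W := SchDom.prodOpen_le_fst f g W W'
  have hP : IsAffineOpen P := (SchDom.prod_piece f g hS hW hW' eW eW').1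
  have hxP : x' ∈ P := ⟨hxW, hyW'⟩
  have hpush := (isIso_pushoutSection_iff (IsPullback.of_hasPullback f g) eW' eW rfl).mp
    (isIso_pushoutSection_of_isAffineOpen (IsPullback.of_hasPullback f g) eW' eW rfl hS hW' hW)
  let F' := (Scheme.Modules.pullback (pullback.fst f g)).obj F
  haveI : F'.IsQuasicoherent := QCoh.isQuasicoherent_pullback _ F
  letI := (g.appLE US W' eW').hom.toAlgebra
  letI : Algebra Γ(X, W) Γ(pullback f g, P) := ((pullback.fst f g).appLE W P hfst).hom.toAlgebra
  letI : Algebra Γ(S', W') Γ(pullback f g, P) := ((pullback.snd f g).appLE W' P hsub).hom.toAlgebra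
  letI : Algebra Γ(S, US) Γ(pullback f g, P) :=
    ((algebraMap Γ(S', W') Γ(pullback f g, P)).comp (algebraMap Γ(S, US) Γ(S', W'))).toAlgebra
  haveI : IsScalarTower Γ(S, US) Γ(S', W') Γ(pullback f g, P) := IsScalarTower.of_algebraMap_eq fun _ => rfl
  haveI : IsScalarTower Γ(S, US) Γ(X, W) Γ(pullback f g, P) := IsScalarTower.of_algebraMap_eq fun c =>
    (congrArg (fun φ => φ.hom c) hpush.w).symm
  haveI : Algebra.IsPushout Γ(S, US) Γ(S', W') Γ(X, W) Γ(pullback f g, P) := by
    rw [← CommRingCat.isPushout_iff_isPushout]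
    simp only [RingHom.algebraMap_toAlgebra]
    exact hpush.flip
  letI : Module Γ(X, W) Γ(F', P) := LimTop.secModule (pullback.fst f g) F hfst
  haveI : IsScalarTower Γ(X, W) Γ(pullback f g, P) Γ(F', P) :=
    IsScalarTower.of_algebraMap_smul fun _ _ => rfl
  letI : Module Γ(S', W') Γ(F', P) := Module.compHom _ ((pullback.snd f g).appLE W' P hsub).hom
  haveI : IsScalarTower Γ(S', W') Γ(pullback f g, P) Γ(F', P) :=
    IsScalarTower.of_algebraMap_smul fun _ _ => rfl
  have hbc := LimTop.isBaseChange_unitSec (pullback.fst f g) F hfst hW hP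
  let e : Γ(S', W') ⊗[Γ(S, US)] Γ(F, W) ≃ₗ[Γ(S', W')] Γ(F', P) :=
    (Algebra.IsPushout.cancelBaseChange Γ(S, US) Γ(S', W') Γ(X, W) Γ(pullback f g, P) Γ(F, W)).symm.trans
      (hbc.equiv.restrictScalars Γ(S', W'))
  have he : ∀ (c : Γ(X, W)) (z : Γ(F, W) ⊗[Γ(S, US)] Γ(S', W')),
      e (TensorProduct.comm _ _ _ (c • z)) = c • e (TensorProduct.comm _ _ _ z) := by
    intro c z
    induction z with
    | zero => simp
    | add u v hu hv => simp only [smul_add, map_add, hu, hv]
    | tmul m r =>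
      rw [smul_tmul', TensorProduct.comm_tmul, TensorProduct.comm_tmul]
      show hbc.equiv ((Algebra.IsPushout.cancelBaseChange _ _ _ _ _).symm (r ⊗ₜ (c • m))) =
        c • hbc.equiv ((Algebra.IsPushout.cancelBaseChange _ _ _ _ _).symm (r ⊗ₜ m))
      rw [Algebra.IsPushout.cancelBaseChange_symm_tmul, Algebra.IsPushout.cancelBaseChange_symm_tmul,
        IsBaseChange.equiv_tmul, IsBaseChange.equiv_tmul, map_smul, smul_comm]
  let Q' := primeOf hP x' hxP
  have hQ' : Q'.comap (algebraMap Γ(X, W) Γ(pullback f g, P)) = Q :=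
    Scheme.primeOf_comap (pullback.fst f g) hW hP hfst x' hxP
  let b' := algebraMap Γ(X, W) Γ(pullback f g, P) b
  refine ⟨(pullback f g).presheaf.germ P x' hxP b', ?_, fun m hm => ?_⟩
  · show ¬ IsUnit _
    rw [isUnit_germ_iff hP x' hxP, not_not]
    exact (show b ∈ Q'.comap (algebraMap Γ(X, W) Γ(pullback f g, P)) from hQ' ▸ hbQ)
  · obtain ⟨c, v, hc, hcv⟩ := exists_germ_smul_eq F' hP x' hxP m
    have hbv : germM F' P x' hxP (b' • v) = 0 := by
      rw [germM_smul, ← hcv, smul_comm, hm, smul_zero]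
    obtain ⟨d, hd, hdv⟩ := (germM_eq_zero_iff F' hP x' hxP _).1 hbv
    obtain ⟨z, hz⟩ := ((TensorProduct.comm Γ(S, US) Γ(F, W) Γ(S', W')).toEquiv.trans e.toEquiv).surjective (d • v)
    have hz' : e (TensorProduct.comm _ _ _ z) = d • v := hz
    have hbz : b • z = 0 := by
      apply (TensorProduct.comm Γ(S, US) Γ(F, W) Γ(S', W')).injective
      apply e.injective
      rw [map_zero, map_zero, he, hz', ← algebraMap_smul Γ(pullback f g, P) b, smul_comm]
      exact hdv
    obtain ⟨t, ht, htz⟩ := exists_smul_eq_zero Q b hC hreg _ z hbz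
    have htv : algebraMap Γ(X, W) Γ(pullback f g, P) t • d • v = 0 := by
      rw [algebraMap_smul, ← hz', ← he, htz, map_zero, map_zero]
    have hv0 : germM F' P x' hxP v = 0 :=
      (germM_eq_zero_iff F' hP x' hxP v).2 ⟨algebraMap _ _ t * d,
        Ideal.IsPrime.mul_notMem inferInstance (fun hm => ht (hQ'.le hm)) hd, by rw [mul_smul]; exact htv⟩
    rw [← hcv] at hv0
    exact ((isUnit_germ_iff hP x' hxP c).2 hc).smul_eq_zero.1 hv0

/-- A section vanishing on `U` vanishes, if outside `U` some element of the maximal ideal is regular. -/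
theorem eq_zero_of_res {Z : Scheme.{u}} (M : Z.Modules) [M.IsQuasicoherent] (U : Z.Opens)
    (hreg : ∀ y : Z, y ∉ U → ∃ a ∈ IsLocalRing.maximalIdeal (Z.presheaf.stalk y),
      ∀ m : M.presheaf.stalk y, a • m = 0 → m = 0)
    (V : Z.Opens) (t : Γ(M, V)) (ht : M.presheaf.map (homOfLE (inf_le_left : V ⊓ U ≤ V)).op t = 0) :
    t = 0 := by
  refine AssSch.Basic.eq_zero_of_germ_eq_zero M t fun z hz => ?_
  obtain ⟨W, hW, hzW, hWV⟩ := exists_isAffineOpen_mem_and_subset (U := V) (x := z) hz
  by_contra hne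
  let m := res M hWV t
  let I := (⊥ : Submodule Γ(Z, W) Γ(M, W)).colon {m}
  have hle : I ≤ primeOf hW z hzW := by
    intro g hg
    by_contra hgz
    rw [Submodule.mem_colon_singleton, Submodule.mem_bot] at hg
    exact hne (by rw [← germM_res M hWV z hzW t]; exact (germM_eq_zero_iff M hW z hzW m).2 ⟨g, hgz, hg⟩)
  obtain ⟨P, hP, -⟩ := Ideal.exists_minimalPrimes_le hle
  haveI := hP.isPrime
  obtain ⟨y, hy, rfl⟩ := AssSch.Basic.exists_point hW P
  have hmy : germM M W y hy m ≠ 0 := fun h0 => by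
    obtain ⟨g, hg, hgm⟩ := (germM_eq_zero_iff M hW y hy m).1 h0
    exact hg (hP.1.2 (by rw [Submodule.mem_colon_singleton, Submodule.mem_bot]; exact hgm))
  by_cases hyU : y ∈ U
  · refine hmy ?_
    rw [germM_res M hWV y hy t]
    refine (M.presheaf.germ_res_apply (homOfLE (inf_le_left : V ⊓ U ≤ V)) y ⟨hWV hy, hyU⟩ t).symm.trans ?_
    rw [ht]
    exact map_zero _
  · obtain ⟨a, ha, hreg⟩ := hreg y hyU
    letI : Algebra Γ(Z, W) (Z.presheaf.stalk y) := (Z.presheaf.germ W y hy).hom.toAlgebra
    haveI : IsLocalization.AtPrime (Z.presheaf.stalk y) (primeOf hW y hy) := hW.isLocalization_stalk ⟨y, hy⟩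
    obtain ⟨⟨b, s⟩, hb⟩ := IsLocalization.surj (primeOf hW y hy).primeCompl a
    have hbP : b ∈ primeOf hW y hy := by
      by_contra hbn
      exact ha (isUnit_of_mul_isUnit_left (hb ▸ IsLocalization.map_units (Z.presheaf.stalk y)
        (⟨b, hbn⟩ : (primeOf hW y hy).primeCompl)))
    obtain ⟨c, k, hc, hck⟩ := exists_mul_pow_mem hP hbP
    rw [Submodule.mem_colon_singleton, Submodule.mem_bot] at hck
    have h1 : a ^ k • germM M W y hy m = 0 := by
      have h2 := germM_smul M W y hy (c * b ^ k) m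
      rw [hck, germM_zero] at h2
      have hu : IsUnit (Z.presheaf.germ W y hy c * algebraMap Γ(Z, W) (Z.presheaf.stalk y) s ^ k) :=
        ((isUnit_germ_iff hW y hy c).2 hc).mul ((IsLocalization.map_units _ s).pow k)
      refine hu.smul_eq_zero.1 ?_
      rw [smul_smul, mul_assoc, ← mul_pow, mul_comm (algebraMap Γ(Z, W) (Z.presheaf.stalk y) s) a, hb,
        RingHom.algebraMap_toAlgebra, ← map_pow, ← map_mul]
      exact h2.symm
    clear hck
    induction k with
    | zero => exact hmy (by rwa [pow_zero, one_smul] at h1)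
    | succ k ih => exact ih (hreg _ (by rw [smul_smul, ← pow_succ']; exact h1))

end Groth.Agent.Fibres16.RegularBC
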