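import Mathlib.AlgebraicGeometry.Noetherian
import Mathlib.AlgebraicGeometry.Properties
import Mathlib.Topology.KrullDimension
import Groth.Agent.Goldman.Topology

/-!
# Locally closed points of Noetherian schemes
-/

set_option autoImplicit false

universe u

open CategoryTheory AlgebraicGeometry Topology TopologicalSpace

namespace Groth.Agent.Fibres16.Semilocal

theorem finite_closure_spec {A : Type u} [CommRing A] [IsNoetherianRing A] {z : PrimeSpectrum A}
    (hz : IsLocallyClosed ({z} : Set (PrimeSpectrum A))) : (closure ({z} : Set (PrimeSpectrum A))).Finite := by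
  obtain ⟨V, F, hV, hF, hVF⟩ := hz
  have hzV : z ∈ V ∩ F := hVF ▸ rfl
  obtain ⟨_, ⟨f, rfl⟩, hf, hsub⟩ :=
    PrimeSpectrum.isTopologicalBasis_basic_opens.exists_subset_of_mem_open hzV.1 hV
  let π := Ideal.Quotient.mk z.asIdeal
  have hfB : π f ≠ 0 := by
    rw [Ne, Ideal.Quotient.eq_zero_iff_mem]; exact hf
  have hall : ∀ P : Ideal (A ⧸ z.asIdeal), P.IsPrime → P ≠ ⊥ → π f ∈ P := by
    intro P hP hPb
    by_contra hfP
    let q : PrimeSpectrum A := ⟨P.comap π, inferInstance⟩
    have hzq : z ⤳ q := (PrimeSpectrum.le_iff_specializes z q).mp fun a ha => by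
      show π a ∈ P
      rw [Ideal.Quotient.eq_zero_iff_mem.mpr ha]; exact zero_mem _
    have : q ∈ ({z} : Set _) := hVF ▸ ⟨hsub hfP, hzq.mem_closed hF hzV.2⟩
    apply hPb
    rw [← Ideal.map_comap_of_surjective _ Ideal.Quotient.mk_surjective P,
      show P.comap π = z.asIdeal from congrArg PrimeSpectrum.asIdeal this, Ideal.map_quotient_self]
  obtain ⟨hfin, -⟩ := Goldman.finite_and_dimLE_one_of_forall_mem hfB hall
  haveI := hfin
  refine (Set.finite_range (PrimeSpectrum.comap π)).subset ?_
  rw [PrimeSpectrum.closure_singleton, range_comap_of_surjective _ _ Ideal.Quotient.mk_surjective,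
    Ideal.mk_ker]

/-- A locally closed point of a Noetherian scheme has finite closure. -/
theorem finite_closure {X : Scheme.{u}} [IsNoetherian X] {x : X} (hx : IsLocallyClosed ({x} : Set X)) :
    (closure ({x} : Set X)).Finite := by
  have key : ∀ U : X.affineOpens, (closure ({x} : Set X) ∩ (U.1 : Set X)).Finite := by
    intro U
    haveI : IsNoetherianRing Γ(X, U.1) := IsLocallyNoetherian.component_noetherian U
    by_cases hxU : x ∈ U.1
    · let i := U.2.fromSpec
      obtain ⟨z, hz⟩ : x ∈ Set.range i := by rw [U.2.range_fromSpec]; exact hxU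
      have hpre : i ⁻¹' {x} = {z} := by
        ext w
        simp only [Set.mem_preimage, Set.mem_singleton_iff, ← hz, i.isOpenEmbedding.injective.eq_iff]
      have h1 : (closure ({z} : Set (Spec Γ(X, U.1)))).Finite := by
        exact finite_closure_spec (hpre ▸ hx.preimage i.continuous)
      refine (h1.image i).subset ?_
      rintro y ⟨hy, hyU⟩
      obtain ⟨w, rfl⟩ : y ∈ Set.range i := by rw [U.2.range_fromSpec]; exact hyU
      refine ⟨w, ?_, rfl⟩
      rw [← hpre, ← i.isOpenEmbedding.isOpenMap.preimage_closure_eq_closure_preimage i.continuous]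
      exact hy
    · refine Set.finite_empty.subset ?_
      rintro y ⟨hy, hyU⟩
      exact hxU ((specializes_iff_mem_closure.mpr hy).mem_open U.1.2 hyU)
  obtain ⟨S, hS⟩ := CompactSpace.isCompact_univ.elim_finite_subcover (fun U : X.affineOpens => (U.1 : Set X))
    (fun U => U.1.2) fun y _ => by
      obtain ⟨_, ⟨U, hU, rfl⟩, hyU, -⟩ :=
        X.isBasis_affineOpens.exists_subset_of_mem_open (Set.mem_univ y) isOpen_univ
      exact Set.mem_iUnion.mpr ⟨⟨U, hU⟩, hyU⟩
  refine ((S.finite_toSet.biUnion fun U _ => key U)).subset fun y hy => ?_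
  obtain ⟨U, hU, hyU⟩ := Set.mem_iUnion₂.mp (hS (Set.mem_univ y))
  exact Set.mem_biUnion hU ⟨hy, hyU⟩

/-- In a locally Noetherian scheme, a locally closed point has no two step specializations. -/
theorem eq_or_eq {X : Scheme.{u}} [IsLocallyNoetherian X] {z t w : X} (hz : IsLocallyClosed ({z} : Set X))
    (hzt : z ⤳ t) (htw : t ⤳ w) : t = z ∨ t = w := by
  obtain ⟨_, ⟨U, hU, rfl⟩, hwU, -⟩ :=
    X.isBasis_affineOpens.exists_subset_of_mem_open (Set.mem_univ w) isOpen_univ
  haveI : IsNoetherianRing Γ(X, U) := IsLocallyNoetherian.component_noetherian ⟨U, hU⟩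
  let i := hU.fromSpec
  have htU := htw.mem_open U.2 hwU
  obtain ⟨w', rfl⟩ : w ∈ Set.range i := by rw [hU.range_fromSpec]; exact hwU
  obtain ⟨t', rfl⟩ : t ∈ Set.range i := by rw [hU.range_fromSpec]; exact htU
  obtain ⟨z', rfl⟩ : z ∈ Set.range i := by rw [hU.range_fromSpec]; exact hzt.mem_open U.2 htU
  have hpre : i ⁻¹' {i z'} = {z'} := by
    ext v
    simp only [Set.mem_preimage, Set.mem_singleton_iff, i.isOpenEmbedding.injective.eq_iff]
  have h := Goldman.eq_or_eq_of_isLocallyClosed_singleton (hpre ▸ hz.preimage i.continuous)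
    (i.isOpenEmbedding.isEmbedding.isInducing.specializes_iff.mp hzt)
    (i.isOpenEmbedding.isEmbedding.isInducing.specializes_iff.mp htw)
  exact h.imp (congrArg i) (congrArg i)

/-- In a finite T₀ space points are locally closed. -/
theorem isLocallyClosed_singleton_of_finite {T : Type u} [TopologicalSpace T] [Finite T] [T0Space T] (x : T) :
    IsLocallyClosed ({x} : Set T) := by
  refine ⟨(⋃ y ∈ {y : T | ¬ y ⤳ x}, closure {y})ᶜ, closure {x},
    ((Set.toFinite _).isClosed_biUnion fun _ _ => isClosed_closure).isOpen_compl, isClosed_closure, ?_⟩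
  ext y
  simp only [Set.mem_singleton_iff, Set.mem_inter_iff, Set.mem_compl_iff, Set.mem_iUnion, not_exists]
  constructor
  · rintro rfl
    exact ⟨fun z hz hyz => hz (specializes_iff_mem_closure.mpr hyz), subset_closure rfl⟩
  · rintro ⟨h1, h2⟩
    refine (specializes_iff_mem_closure.mpr h2).antisymm ?_ |>.eq.symm
    by_contra hyx
    exact h1 y hyx (subset_closure rfl)

end Groth.Agent.Fibres16.Semilocal
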