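import Groth.Agent.SepFld.Base
import Mathlib.RingTheory.TensorProduct.Maps
import Mathlib.RingTheory.Filtration
import Mathlib.RingTheory.LocalRing.ResidueField.Ideal

/-!
# The fibrewise criterion for separating families with flat targets (EGA IV 11.10.9)

* `MJI_of_fibres`: a family with flat targets is jointly injective if it is so on the fibres.
* `MJI_univ`: it is then so after every base change.
-/

set_option autoImplicit false
set_option linter.style.haveILetI false

universe u

open TensorProduct Function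

namespace Groth.Agent.Fibres16.SepCrit

open Groth.Agent.SepFld (MJI MJIbc)

/-- The kernel of `W → k(p) ⊗ W`. -/
theorem exists_smul_mem_of_tmul_eq_zero {A : Type u} [CommRing A] (p : Ideal A) [p.IsPrime]
    {W : Type u} [AddCommGroup W] [Module A W] (w : W) (h : (1 : p.ResidueField) ⊗ₜ[A] w = 0) :
    ∃ t ∉ p, t • w ∈ p • (⊤ : Submodule A W) := by
  have h1 : TensorProduct.mk (A ⧸ p) p.ResidueField ((A ⧸ p) ⊗[A] W) 1 ((1 : A ⧸ p) ⊗ₜ[A] w) = 0 := by
    apply (AlgebraTensorModule.cancelBaseChange A (A ⧸ p) p.ResidueField p.ResidueField W).injective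
    rw [TensorProduct.mk_apply, AlgebraTensorModule.cancelBaseChange_tmul, one_smul, h, map_zero]
  obtain ⟨⟨t, ht⟩, htw⟩ := (IsLocalizedModule.eq_zero_iff (nonZeroDivisors (A ⧸ p))
    (TensorProduct.mk (A ⧸ p) p.ResidueField ((A ⧸ p) ⊗[A] W) 1)).mp h1
  obtain ⟨t, rfl⟩ := Ideal.Quotient.mk_surjective t
  refine ⟨t, fun h' => nonZeroDivisors.ne_zero ht (Ideal.Quotient.eq_zero_iff_mem.2 h'), ?_⟩
  rw [Submonoid.smul_def, smul_tmul', smul_eq_mul, mul_one] at htw
  have h3 := congrArg (TensorProduct.quotTensorEquivQuotSMul W p) htw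
  rw [map_zero, TensorProduct.quotTensorEquivQuotSMul_mk_tmul, Submodule.Quotient.mk_eq_zero] at h3
  exact h3

/-- Joint injectivity through compatible isomorphisms. -/
theorem MJI_congr {C C' : Type u} [CommRing C] [CommRing C'] {ι : Type u}
    {M : Type u} [AddCommGroup M] [Module C M] {N : ι → Type u} [∀ i, AddCommGroup (N i)] [∀ i, Module C (N i)]
    {M' : Type u} [AddCommGroup M'] [Module C' M'] {N' : ι → Type u} [∀ i, AddCommGroup (N' i)]
    [∀ i, Module C' (N' i)] {φ : ∀ i, M →ₗ[C] N i} {φ' : ∀ i, M' →ₗ[C'] N' i}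
    (σ : C ≃+* C') (eM : M ≃+ M') (eN : ∀ i, N i ≃+ N' i) (hM : ∀ c x, eM (c • x) = σ c • eM x)
    (hN : ∀ i c x, eN i (c • x) = σ c • eN i x) (hφ : ∀ i x, φ' i (eM x) = eN i (φ i x)) (h : MJI φ) :
    MJI φ' := by
  intro a x hx
  obtain ⟨a, rfl⟩ := σ.surjective a
  obtain ⟨x, rfl⟩ := eM.surjective x
  obtain ⟨m, hm⟩ := h a x fun i => by
    obtain ⟨m, hm⟩ := hx i
    refine ⟨m, (eN i).injective ?_⟩
    rw [hN, ← hφ, map_pow, hm, map_zero]
  exact ⟨m, by rw [← map_pow, ← hM, hm, map_zero]⟩

section Crit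

variable {A C : Type u} [CommRing A] [CommRing C] [Algebra A C] {M : Type u} [AddCommGroup M]
  [Module C M] [Module A M] [IsScalarTower A C M] {ι : Type u} {N : ι → Type u}
  [∀ i, AddCommGroup (N i)] [∀ i, Module C (N i)] [∀ i, Module A (N i)]
  [∀ i, IsScalarTower A C (N i)] (φ : ∀ i, M →ₗ[C] N i)

variable (C) in
/-- `(C ⊗ K) ⊗_C P = P ⊗ K`. -/
noncomputable def fibEquiv (K : Type u) [CommRing K] [Algebra A K] (P : Type u) [AddCommGroup P]
    [Module C P] [Module A P] [IsScalarTower A C P] : (C ⊗[A] K) ⊗[C] P ≃ₗ[C] P ⊗[A] K :=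
  (TensorProduct.comm C (C ⊗[A] K) P).trans (AlgebraTensorModule.cancelBaseChange A C C P K)

omit [∀ i, IsScalarTower A C (N i)] in
theorem fibre_eq_zero [∀ i, IsScalarTower A C (N i)] (p : Ideal A) [p.IsPrime] (K : Type u) [Field K]
    [Algebra A K] (j : p.ResidueField →ₐ[A] K) (hK : MJIbc φ (C ⊗[A] K)) (h : C)
    (y : M ⊗[A] p.ResidueField)
    (hy : ∀ i, ∃ m : ℕ, h ^ m • ((φ i).restrictScalars A).rTensor p.ResidueField y = 0) :
    ∃ m : ℕ, h ^ m • y = 0 := by
  letI := j.toRingHom.toAlgebra
  haveI : IsScalarTower A p.ResidueField K := IsScalarTower.of_algebraMap_eq fun a => (j.commutes a).symm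
  obtain ⟨r, hr⟩ := (Algebra.linearMap p.ResidueField K).exists_leftInverse_of_injective
    (LinearMap.ker_eq_bot.2 (RingHom.injective _))
  let y' := AlgebraTensorModule.lTensor C M j.toLinearMap y
  have hsm : ∀ (P : Type u) [AddCommGroup P] [Module C P] [Module A P] [IsScalarTower A C P] (c : C)
      (w : (C ⊗[A] K) ⊗[C] P), fibEquiv C K P (algebraMap C (C ⊗[A] K) c • w) = c • fibEquiv C K P w := by
    intro P _ _ _ _ c w
    rw [algebraMap_smul, map_smul]
  have hnat : ∀ i w, fibEquiv C K (N i) ((φ i).baseChange (C ⊗[A] K) w) =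
      ((φ i).restrictScalars A).rTensor K (fibEquiv C K M w) := by
    intro i w
    induction w with
    | zero => simp
    | tmul c m =>
      induction c with
      | zero => simp
      | tmul c k => simp [fibEquiv]
      | add u v hu hv => simp only [add_tmul, map_add, hu, hv]
    | add u v hu hv => simp only [map_add, hu, hv]
  have hy' : ∀ i, ∃ m : ℕ, algebraMap C (C ⊗[A] K) h ^ m •
      (φ i).baseChange (C ⊗[A] K) ((fibEquiv C K M).symm y') = 0 := by
    intro i
    obtain ⟨m, hm⟩ := hy i
    refine ⟨m, (fibEquiv C K (N i)).injective ?_⟩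
    rw [← map_pow, hsm, hnat, LinearEquiv.apply_symm_apply, map_zero]
    have hc : ∀ t, ((φ i).restrictScalars A).rTensor K (AlgebraTensorModule.lTensor C M j.toLinearMap t) =
        AlgebraTensorModule.lTensor C (N i) j.toLinearMap (((φ i).restrictScalars A).rTensor _ t) := by
      intro t
      induction t with
      | zero => simp
      | tmul m k => simp
      | add u v hu hv => simp only [map_add, hu, hv]
    rw [hc, ← map_smul, hm, map_zero]
  obtain ⟨m, hm⟩ := hK _ _ hy'
  refine ⟨m, ?_⟩
  have h1 := congrArg (fibEquiv C K M) hm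
  rw [← map_pow, hsm, LinearEquiv.apply_symm_apply, map_zero] at h1
  have h2 := congrArg (AlgebraTensorModule.lTensor C M (r.restrictScalars A)) h1
  rw [map_smul, map_zero] at h2
  rw [← h2]
  congr 1
  clear hy hm h1 h2 hy'
  induction y using TensorProduct.induction_on with
  | zero => simp [y']
  | tmul m k =>
    simp only [y', AlgebraTensorModule.lTensor_tmul, LinearMap.restrictScalars_apply, AlgHom.toLinearMap_apply]
    exact congrArg (m ⊗ₜ[A] ·) (LinearMap.congr_fun hr k).symm
  | add u v hu hv => simp only [y', map_add] at *; rw [← hu, ← hv]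

/-- EGA IV 11.10.9: flat targets, jointly injective on the fibres. -/
theorem MJI_of_fibres [IsNoetherianRing C] [Module.Finite C M] (hN : ∀ i, Module.Flat A (N i))
    (hfib : ∀ (p : Ideal A) [p.IsPrime], ∃ (K : Type u) (_ : Field K) (_ : Algebra A K)
      (_ : p.ResidueField →ₐ[A] K), MJIbc φ (C ⊗[A] K)) : MJI φ := by
  classical
  intro h x hx
  by_contra hcon
  push Not at hcon
  let ann : Ideal C := LinearMap.ker (LinearMap.toSpanSingleton C M x)
  obtain ⟨Q, hQ, hannQ, hdisj⟩ := Ideal.exists_le_prime_disjoint ann (Submonoid.powers h) (by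
    rw [Set.disjoint_left]
    rintro c hc ⟨m, rfl⟩
    exact hcon m hc)
  haveI := hQ
  have hhQ : ∀ m, h ^ m ∉ Q := fun m hm => Set.disjoint_left.mp hdisj hm ⟨m, rfl⟩
  let p : Ideal A := Q.comap (algebraMap A C)
  let pM : ℕ → Submodule C M := fun k => ((p ^ k).map (algebraMap A C)) • ⊤
  -- Krull
  have hex : ∃ n : ℕ, ∀ s ∉ Q, s • x ∉ pM n := by
    by_contra! hall
    let L := Localization.AtPrime Q
    haveI : Module.Finite L (LocalizedModule Q.primeCompl M) :=
      Module.Finite.equiv (LocalizedModule.equivTensorProduct Q.primeCompl M).symm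
    have hzero : LocalizedModule.mk x (1 : Q.primeCompl) ∈
        ⨅ n : ℕ, (IsLocalRing.maximalIdeal L) ^ n • (⊤ : Submodule L (LocalizedModule Q.primeCompl M)) := by
      rw [Submodule.mem_iInf]
      intro n
      obtain ⟨s, hs, hsx⟩ := hall n
      have h2 : LocalizedModule.mk (s • x) (1 : Q.primeCompl) ∈
          (IsLocalRing.maximalIdeal L) ^ n • (⊤ : Submodule L (LocalizedModule Q.primeCompl M)) := by
        refine Submodule.smul_induction_on (p := fun y => LocalizedModule.mk y (1 : Q.primeCompl) ∈ _) hsx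
          (fun a ha y _ => ?_) (fun y z hy hz => ?_)
        · rw [← LocalizedModule.smul'_mk, ← algebraMap_smul L a]
          refine Submodule.smul_mem_smul ?_ Submodule.mem_top
          refine (?_ : ((p ^ n).map (algebraMap A C)).map (algebraMap C L) ≤ _) (Ideal.mem_map_of_mem _ ha)
          rw [Ideal.map_map, Ideal.map_pow, ← Ideal.map_map]
          refine Ideal.pow_right_mono ?_ n
          rw [← Localization.AtPrime.map_eq_maximalIdeal]
          exact Ideal.map_mono (Ideal.map_le_iff_le_comap.mpr le_rfl)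
        · rw [show LocalizedModule.mk (y + z) (1 : Q.primeCompl) =
            LocalizedModule.mk y 1 + LocalizedModule.mk z 1 from
              map_add (LocalizedModule.mkLinearMap Q.primeCompl M) y z]
          exact add_mem hy hz
      rw [← LocalizedModule.smul'_mk, ← algebraMap_smul L s] at h2
      exact (Submodule.smul_mem_iff_of_isUnit _
        (IsLocalization.map_units L (⟨s, hs⟩ : Q.primeCompl))).mp h2
    rw [Ideal.iInf_pow_smul_eq_bot_of_isLocalRing _ (IsLocalRing.maximalIdeal.isMaximal L).ne_top,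
      Submodule.mem_bot] at hzero
    obtain ⟨⟨s, hs⟩, hsx⟩ := (IsLocalizedModule.eq_zero_iff Q.primeCompl
      (LocalizedModule.mkLinearMap Q.primeCompl M)).mp hzero
    exact hs (hannQ hsx)
  obtain ⟨n₀, hn₀, hmin⟩ : ∃ n₀, (∀ s ∉ Q, s • x ∉ pM n₀) ∧ ∀ m < n₀, ¬ ∀ s ∉ Q, s • x ∉ pM m :=
    ⟨Nat.find hex, Nat.find_spec hex, fun m hm => Nat.find_min hex hm⟩
  obtain ⟨n, rfl⟩ : ∃ n, n₀ = n + 1 := by
    refine Nat.exists_eq_succ_of_ne_zero fun h0 => ?_
    subst h0
    refine hn₀ 1 (fun h1 => hQ.ne_top ((Ideal.eq_top_iff_one _).mpr h1)) ?_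
    show (1 : C) • x ∈ ((p ^ 0).map (algebraMap A C)) • (⊤ : Submodule C M)
    rw [pow_zero, Ideal.one_eq_top, Ideal.map_top, Submodule.top_smul]
    trivial
  push Not at hmin
  obtain ⟨s, hsQ, hsx⟩ := hmin n (Nat.lt_succ_self n)
  -- lift to `M ⊗ p ^ n`
  let P := ↥(p ^ n)
  let μ : ∀ (W : Type u) [AddCommGroup W] [Module C W] [Module A W] [IsScalarTower A C W],
      W ⊗[A] P →ₗ[C] W := fun W _ _ _ _ =>
    (AlgebraTensorModule.rid A C W).toLinearMap ∘ₗ AlgebraTensorModule.lTensor C W (Submodule.subtype (p ^ n))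
  obtain ⟨w, hw⟩ : ∃ w, μ M w = s • x := by
    have : pM n ≤ LinearMap.range (μ M) := by
      refine Submodule.smul_le.2 fun a ha y _ => ?_
      induction ha using Submodule.span_induction with
      | mem z hz =>
        obtain ⟨a, ha, rfl⟩ := hz
        exact ⟨y ⊗ₜ[A] (⟨a, ha⟩ : P), by simp [μ, algebraMap_smul]; rfl⟩
      | zero => rw [zero_smul]; exact zero_mem _
      | add u v _ _ hu hv => rw [add_smul]; exact add_mem hu hv
      | smul c u _ hu => rw [smul_eq_mul, mul_smul]; exact Submodule.smul_mem _ c hu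
    exact this hsx
  have hwN : ∀ i, ∃ m : ℕ, h ^ m • ((φ i).restrictScalars A).rTensor P w = 0 := by
    intro i
    obtain ⟨m, hm⟩ := hx i
    refine ⟨m, ?_⟩
    haveI := hN i
    have hinj : Injective (μ (N i)) :=
      (AlgebraTensorModule.rid A C (N i)).injective.comp
        (Module.Flat.lTensor_preserves_injective_linearMap (M := N i) (Submodule.subtype (p ^ n))
          (Submodule.injective_subtype _))
    refine hinj ?_
    have hc : ∀ t, μ (N i) (((φ i).restrictScalars A).rTensor P t) = φ i (μ M t) := by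
      intro t
      induction t with
      | zero => simp
      | tmul m k => simp [μ]
      | add u v hu hv => simp only [map_add, hu, hv]
    rw [map_smul, hc, hw, map_smul, smul_comm, hm, smul_zero, map_zero]
  -- coordinates in the fibre
  obtain ⟨K, _, _, j, hK⟩ := hfib p
  let k := p.ResidueField
  let b := Module.Free.chooseBasis k (k ⊗[A] P)
  let repr' : P →ₗ[A] (Module.Free.ChooseBasisIndex k (k ⊗[A] P) →₀ k) :=
    (b.repr.toLinearMap.restrictScalars A) ∘ₗ TensorProduct.mk A k P 1
  let crd : M ⊗[A] P →ₗ[C] (Module.Free.ChooseBasisIndex k (k ⊗[A] P) →₀ M ⊗[A] k) :=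
    (TensorProduct.finsuppRight A C M k (Module.Free.ChooseBasisIndex k (k ⊗[A] P))).toLinearMap ∘ₗ
      AlgebraTensorModule.lTensor C M repr'
  have ht : ∀ t, ∃ m : ℕ, h ^ m • crd w t = 0 := by
    intro t
    refine fibre_eq_zero φ p K j hK h _ fun i => ?_
    obtain ⟨m, hm⟩ := hwN i
    refine ⟨m, ?_⟩
    let π : P →ₗ[A] k := Finsupp.lapply t ∘ₗ repr'
    have hπ : ∀ (z : M ⊗[A] P), crd z t = AlgebraTensorModule.lTensor C M π z := by
      intro z
      induction z with
      | zero => simp
      | tmul m q => simp [crd, π]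
      | add u v hu hv => simp only [map_add, Finsupp.add_apply, hu, hv]
    have hc : ∀ z, ((φ i).restrictScalars A).rTensor k (AlgebraTensorModule.lTensor C M π z) =
        AlgebraTensorModule.lTensor C (N i) π (((φ i).restrictScalars A).rTensor P z) := by
      intro z
      induction z with
      | zero => simp
      | tmul m q => simp
      | add u v hu hv => simp only [map_add, hu, hv]
    rw [hπ, hc, ← map_smul, hm, map_zero]
  choose m hm using ht
  let e := (crd w).support.sup m
  have hcrd : crd (h ^ e • w) = 0 := by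
    rw [map_smul]
    ext t
    rw [Finsupp.smul_apply, Finsupp.zero_apply]
    by_cases ht : t ∈ (crd w).support
    · obtain ⟨d, hd⟩ := Nat.exists_eq_add_of_le (Finset.le_sup (f := m) ht)
      rw [show e = (crd w).support.sup m from rfl, hd, add_comm, pow_add, mul_smul, hm, smul_zero]
    · rw [Finsupp.notMem_support_iff.mp ht, smul_zero]
  have h0 : (1 : k) ⊗ₜ[A] (h ^ e • w) = 0 := by
    have h1 : AlgebraTensorModule.lTensor C M repr' (h ^ e • w) = 0 :=
      (TensorProduct.finsuppRight A C M k _).injective (hcrd.trans (map_zero _).symm)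
    have h2 : (TensorProduct.mk A k P 1).lTensor M (h ^ e • w) = 0 := by
      have hinj : Injective ((b.repr.toLinearMap.restrictScalars A).lTensor M) :=
        (LinearEquiv.lTensor M (b.repr.restrictScalars A)).injective
      refine hinj ?_
      rw [map_zero, ← LinearMap.comp_apply, ← LinearMap.lTensor_comp]
      exact h1
    have h3 : ∀ z : M ⊗[A] P, TensorProduct.leftComm A M k P ((TensorProduct.mk A k P 1).lTensor M z) =
        (1 : k) ⊗ₜ[A] z := by
      intro z
      induction z with
      | zero => simp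
      | tmul m q => simp
      | add u v hu hv => rw [map_add, map_add, hu, hv, tmul_add]
    rw [← h3, h2, map_zero]
  obtain ⟨t, htp, htw⟩ := exists_smul_mem_of_tmul_eq_zero p _ h0
  refine hn₀ (algebraMap A C t * h ^ e * s)
    (fun hh => (hQ.mem_or_mem hh).elim (fun hh => (hQ.mem_or_mem hh).elim htp (hhQ e)) hsQ) ?_
  have hμ : μ M (t • (h ^ e • w)) ∈ pM (n + 1) := by
    refine Submodule.smul_induction_on (p := fun z => μ M z ∈ pM (n + 1)) htw (fun a ha z hz => ?_)
      (fun u v hu hv => by rw [map_add]; exact add_mem hu hv)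
    clear hz
    induction z with
    | zero => simp
    | add u v hu hv => rw [smul_add, map_add]; exact add_mem hu hv
    | tmul y q =>
      rw [← algebraMap_smul C a, map_smul, show μ M (y ⊗ₜ[A] q) = algebraMap A C (q : A) • y by simp [μ, algebraMap_smul]; rfl,
        ← mul_smul]
      refine Submodule.smul_mem_smul ?_ Submodule.mem_top
      rw [← map_mul, pow_succ']
      exact Ideal.mem_map_of_mem _ (Ideal.mul_mem_mul ha q.2)
  rwa [← algebraMap_smul C t, map_smul, map_smul, hw, ← mul_smul, ← mul_smul] at hμ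

end Crit

section Univ

variable {A C : Type u} [CommRing A] [CommRing C] [Algebra A C] {M : Type u} [AddCommGroup M]
  [Module C M] [Module A M] [IsScalarTower A C M] {ι : Type u} {N : ι → Type u}
  [∀ i, AddCommGroup (N i)] [∀ i, Module C (N i)] [∀ i, Module A (N i)]
  [∀ i, IsScalarTower A C (N i)] (φ : ∀ i, M →ₗ[C] N i)

omit [Module A M] [IsScalarTower A C M] [∀ i, Module A (N i)] [∀ i, IsScalarTower A C (N i)] [Algebra A C] in
/-- Transitivity of base change. -/
theorem MJI_tower (C' C'' : Type u) [CommRing C'] [Algebra C C'] [CommRing C''] [Algebra C C'']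
    [Algebra C' C''] [IsScalarTower C C' C''] :
    MJI (fun i => ((φ i).baseChange C').baseChange C'') ↔ MJIbc φ C'' := by
  have key : ∀ i x, (φ i).baseChange C'' (AlgebraTensorModule.cancelBaseChange C C' C'' C'' M x) =
      AlgebraTensorModule.cancelBaseChange C C' C'' C'' (N i) (((φ i).baseChange C').baseChange C'' x) := by
    intro i x
    induction x with
    | zero => simp
    | tmul c y =>
      induction y with
      | zero => simp
      | tmul d m => simp
      | add u v hu hv => simp only [tmul_add, map_add, hu, hv]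
    | add u v hu hv => simp only [map_add, hu, hv]
  constructor
  · exact MJI_congr (RingEquiv.refl C'') (AlgebraTensorModule.cancelBaseChange C C' C'' C'' M).toAddEquiv
      (fun i => (AlgebraTensorModule.cancelBaseChange C C' C'' C'' (N i)).toAddEquiv)
      (fun c x => LinearEquiv.map_smul (AlgebraTensorModule.cancelBaseChange C C' C'' C'' M) c x)
      (fun i c x => LinearEquiv.map_smul (AlgebraTensorModule.cancelBaseChange C C' C'' C'' (N i)) c x) key
  · exact MJI_congr (RingEquiv.refl C'') (AlgebraTensorModule.cancelBaseChange C C' C'' C'' M).symm.toAddEquiv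
      (fun i => (AlgebraTensorModule.cancelBaseChange C C' C'' C'' (N i)).symm.toAddEquiv)
      (fun c x => LinearEquiv.map_smul (AlgebraTensorModule.cancelBaseChange C C' C'' C'' M).symm c x)
      (fun i c x => LinearEquiv.map_smul (AlgebraTensorModule.cancelBaseChange C C' C'' C'' (N i)).symm c x) fun i x => by
        obtain ⟨x, rfl⟩ := (AlgebraTensorModule.cancelBaseChange C C' C'' C'' M).surjective x
        apply (AlgebraTensorModule.cancelBaseChange C C' C'' C'' (N i)).injective
        exact ((congrArg (fun z => AlgebraTensorModule.cancelBaseChange C C' C'' C'' (N i)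
          (((φ i).baseChange C').baseChange C'' z)) (LinearEquiv.symm_apply_apply _ x)).trans
          (key i x).symm).trans (LinearEquiv.apply_symm_apply _ _).symm

omit [Module A M] [IsScalarTower A C M] [∀ i, Module A (N i)] [∀ i, IsScalarTower A C (N i)] in
/-- Joint injectivity on a fibre passes to bigger fields. -/
theorem MJI_field_ext (K L : Type u) [Field K] [Field L] [Algebra A K] [Algebra A L] [Algebra K L]
    [IsScalarTower A K L] (h : MJIbc φ (C ⊗[A] K)) : MJIbc φ (C ⊗[A] L) := by
  let j : C ⊗[A] K →ₐ[C] C ⊗[A] L := Algebra.TensorProduct.map (AlgHom.id C C) (IsScalarTower.toAlgHom A K L)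
  letI : Algebra (C ⊗[A] K) (C ⊗[A] L) := j.toRingHom.toAlgebra
  haveI : IsScalarTower C (C ⊗[A] K) (C ⊗[A] L) := IsScalarTower.of_algebraMap_eq fun c => (j.commutes c).symm
  refine (MJI_tower φ (C ⊗[A] K) (C ⊗[A] L)).1 ?_
  letI : Algebra K (C ⊗[A] K) := Algebra.TensorProduct.rightAlgebra
  let e : L ⊗[K] (C ⊗[A] K) ≃+* C ⊗[A] L :=
    ((Algebra.TensorProduct.congr (AlgEquiv.refl (R := K) (A₁ := L))
      (Algebra.TensorProduct.commRight A K C).symm).toRingEquiv.trans
      ((Algebra.TensorProduct.cancelBaseChange A K K L C).toRingEquiv)).trans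
      (Algebra.TensorProduct.comm A L C).toRingEquiv
  refine Groth.Agent.SepFld.MJI.baseChange_field (k := K) _ e (fun a => ?_) h
  induction a with
  | zero => simp
  | tmul c k =>
    show e _ = j (c ⊗ₜ k)
    simp [e, j, Algebra.smul_def]
  | add u v hu hv => rw [tmul_add, map_add, map_add, hu, hv]

omit [Module A M] [IsScalarTower A C M] in
/-- Flatness of the targets after base change. -/
theorem flat_baseChange (S : Type u) [CommRing S] [Algebra A S] (P : Type u) [AddCommGroup P] [Module C P]
    [Module A P] [IsScalarTower A C P] [Module.Flat A P] :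
    letI : Algebra S (C ⊗[A] S) := Algebra.TensorProduct.rightAlgebra
    Module.Flat S ((C ⊗[A] S) ⊗[C] P) := by
    letI : Algebra S (C ⊗[A] S) := Algebra.TensorProduct.rightAlgebra
    let C' := C ⊗[A] S
    let e₀ : C' ⊗[C] P ≃ₗ[A] S ⊗[A] P :=
      ((fibEquiv C S (P)).restrictScalars A).trans (TensorProduct.comm A (P) S)
    let e : C' ⊗[C] P ≃ₗ[S] S ⊗[A] P :=
      { e₀ with
        map_smul' := fun a x => by
          show e₀ (a • x) = a • e₀ x
          rw [← algebraMap_smul C' a x]
          induction x with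
          | zero => simp
          | add u v hu hv => rw [smul_add, map_add, map_add, hu, hv, smul_add]
          | tmul c y =>
            induction c using TensorProduct.induction_on with
            | zero => simp
            | add u v hu hv => rw [add_tmul, smul_add, map_add, map_add, hu, hv, smul_add]
            | tmul c t =>
              rw [smul_tmul', smul_eq_mul,
                show algebraMap S C' a = (1 : C) ⊗ₜ[A] a from rfl, Algebra.TensorProduct.tmul_mul_tmul]
              simp [e₀, fibEquiv, smul_tmul'] }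
    exact Module.Flat.of_linearEquiv e

omit [Module A M] [IsScalarTower A C M] [∀ i, Module A (N i)] [∀ i, IsScalarTower A C (N i)] in
/-- `(C ⊗ S) ⊗_S L = C ⊗ L` over `C ⊗ S`. -/
theorem exists_algEquiv_baseChange (S L : Type u) [CommRing S] [Algebra A S] [CommRing L] [Algebra A L]
    [Algebra S L] [IsScalarTower A S L] :
    letI : Algebra S (C ⊗[A] S) := Algebra.TensorProduct.rightAlgebra
    letI : Algebra (C ⊗[A] S) (C ⊗[A] L) :=
      (Algebra.TensorProduct.map (AlgHom.id C C) (IsScalarTower.toAlgHom A S L)).toRingHom.toAlgebra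
    Nonempty ((C ⊗[A] S) ⊗[S] L ≃ₐ[C ⊗[A] S] C ⊗[A] L) := by
  letI : Algebra S (C ⊗[A] S) := Algebra.TensorProduct.rightAlgebra
  let i₁ := Algebra.TensorProduct.map (AlgHom.id C C) (IsScalarTower.toAlgHom A S L)
  letI : Algebra (C ⊗[A] S) (C ⊗[A] L) := i₁.toRingHom.toAlgebra
  let E : (C ⊗[A] S) ⊗[S] L ≃+* C ⊗[A] L :=
    ((Algebra.TensorProduct.comm S (C ⊗[A] S) L).toRingEquiv.trans
      (Algebra.TensorProduct.congr (AlgEquiv.refl (R := S) (A₁ := L))
        (Algebra.TensorProduct.commRight A S C).symm).toRingEquiv).trans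
      ((Algebra.TensorProduct.cancelBaseChange A S S L C).toRingEquiv.trans
        (Algebra.TensorProduct.comm A L C).toRingEquiv)
  refine ⟨AlgEquiv.ofRingEquiv (f := E) fun c => ?_⟩
  induction c using TensorProduct.induction_on with
  | zero => simp
  | tmul c t =>
    show E ((c ⊗ₜ[A] t) ⊗ₜ[S] (1 : L)) = i₁ (c ⊗ₜ t)
    simp [E, i₁, Algebra.smul_def]
  | add u v hu hv => rw [map_add, map_add, map_add, hu, hv]

omit [Module A M] [IsScalarTower A C M] [∀ i, Module A (N i)] [∀ i, IsScalarTower A C (N i)] [Algebra A C] in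
/-- A common extension of two residue fields. -/
theorem exists_field_over (S : Type u) [CommRing S] [Algebra A S] (q : Ideal S) [q.IsPrime]
    (K : Type u) [Field K] [Algebra A K] (j : (q.comap (algebraMap A S)).ResidueField →ₐ[A] K) :
    ∃ (L : Type u) (_ : Field L) (_ : Algebra A L) (_ : Algebra S L) (_ : IsScalarTower A S L),
      Nonempty (q.ResidueField →ₐ[S] L) ∧ Nonempty (K →ₐ[A] L) := by
  let k := (q.comap (algebraMap A S)).ResidueField
  letI : Algebra k q.ResidueField := (Ideal.ResidueField.map _ q (algebraMap A S) rfl).toAlgebra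
  haveI : IsScalarTower A k q.ResidueField := IsScalarTower.of_algebraMap_eq fun a => by
    rw [RingHom.algebraMap_toAlgebra, Ideal.ResidueField.map_algebraMap,
      ← IsScalarTower.algebraMap_apply]
  letI : Algebra k K := j.toRingHom.toAlgebra
  haveI : IsScalarTower A k K := IsScalarTower.of_algebraMap_eq fun a => (j.commutes a).symm
  haveI : Nontrivial (K ⊗[k] q.ResidueField) := inferInstance
  obtain ⟨m, hm⟩ := Ideal.exists_maximal (K ⊗[k] q.ResidueField)
  letI := Ideal.Quotient.field m
  let L := (K ⊗[k] q.ResidueField) ⧸ m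
  let jq : q.ResidueField →ₐ[k] L :=
    (Ideal.Quotient.mkₐ k m).comp Algebra.TensorProduct.includeRight
  letI : Algebra S L := (jq.toRingHom.comp (algebraMap S q.ResidueField)).toAlgebra
  have hAL : ∀ a, algebraMap A L a = jq (algebraMap A q.ResidueField a) := fun a => by
    rw [IsScalarTower.algebraMap_apply A k q.ResidueField, AlgHom.commutes,
      ← IsScalarTower.algebraMap_apply A k L]
  exact ⟨L, inferInstance, inferInstance, inferInstance, IsScalarTower.of_algebraMap_eq fun a => by
    rw [hAL, IsScalarTower.algebraMap_apply A S q.ResidueField]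
    rfl, ⟨⟨jq.toRingHom, fun a => rfl⟩⟩, ⟨IsScalarTower.toAlgHom A K L⟩⟩

omit [Module A M] [IsScalarTower A C M] [∀ i, Module A (N i)] [∀ i, IsScalarTower A C (N i)] in
/-- Joint injectivity on a fibre of the base change. -/
theorem MJI_fibre_baseChange (S L : Type u) [CommRing S] [Algebra A S] [CommRing L] [Algebra A L]
    [Algebra S L] [IsScalarTower A S L] (hL : MJIbc φ (C ⊗[A] L)) :
    letI : Algebra S (C ⊗[A] S) := Algebra.TensorProduct.rightAlgebra
    MJIbc (C := C ⊗[A] S) (M := (C ⊗[A] S) ⊗[C] M) (N := fun i => (C ⊗[A] S) ⊗[C] N i)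
      (fun i => (φ i).baseChange (C ⊗[A] S)) ((C ⊗[A] S) ⊗[S] L) := by
  letI : Algebra S (C ⊗[A] S) := Algebra.TensorProduct.rightAlgebra
  let i₁ := Algebra.TensorProduct.map (AlgHom.id C C) (IsScalarTower.toAlgHom A S L)
  letI : Algebra (C ⊗[A] S) (C ⊗[A] L) := i₁.toRingHom.toAlgebra
  haveI : IsScalarTower C (C ⊗[A] S) (C ⊗[A] L) := IsScalarTower.of_algebraMap_eq fun c =>
    (i₁.commutes c).symm
  obtain ⟨E'⟩ := exists_algEquiv_baseChange (A := A) (C := C) S L
  exact Groth.Agent.SepFld.MJI.of_algEquiv (C := C ⊗[A] S) (M := (C ⊗[A] S) ⊗[C] M)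
    (N := fun i => (C ⊗[A] S) ⊗[C] N i)
    (fun i => (φ i).baseChange (C ⊗[A] S)) E' ((MJI_tower φ (C ⊗[A] S) (C ⊗[A] L)).2 hL)

/-- The fibrewise criterion holds after every base change. -/
theorem MJI_univ [IsNoetherianRing C] [Module.Finite C M] (hN : ∀ i, Module.Flat A (N i))
    (hfib : ∀ (p : Ideal A) [p.IsPrime], ∃ (K : Type u) (_ : Field K) (_ : Algebra A K)
      (_ : p.ResidueField →ₐ[A] K), MJIbc φ (C ⊗[A] K))
    (R : Type u) [CommRing R] [Algebra A R] : MJIbc φ (C ⊗[A] R) := by
  refine Groth.Agent.SepFld.MJI.baseChange_of_fg φ hN fun S hS => ?_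
  haveI : Algebra.FiniteType A S := (Subalgebra.fg_iff_finiteType S).mp hS
  haveI : IsNoetherianRing (C ⊗[A] S) := Algebra.FiniteType.isNoetherianRing C (C ⊗[A] S)
  letI : Algebra S (C ⊗[A] S) := Algebra.TensorProduct.rightAlgebra
  have hN' : ∀ i, Module.Flat S ((C ⊗[A] S) ⊗[C] N i) := fun i => by
    haveI := hN i
    exact flat_baseChange (A := A) S (N i)
  refine MJI_of_fibres (A := S) (C := C ⊗[A] S) (M := (C ⊗[A] S) ⊗[C] M)
    (N := fun i => (C ⊗[A] S) ⊗[C] N i) (fun i => (φ i).baseChange (C ⊗[A] S)) hN' fun q _ => ?_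
  obtain ⟨K, _, _, j, hK⟩ := hfib (q.comap (algebraMap A S))
  obtain ⟨L, _, _, _, _, ⟨jq⟩, ⟨jK⟩⟩ := exists_field_over (A := A) (↥S) q K j
  letI : Algebra K L := jK.toRingHom.toAlgebra
  haveI : IsScalarTower A K L := IsScalarTower.of_algebraMap_eq fun a => (jK.commutes a).symm
  exact ⟨L, inferInstance, inferInstance, jq, MJI_fibre_baseChange φ (↥S) L (MJI_field_ext φ K L hK)⟩

end Univ

end Groth.Agent.Fibres16.SepCrit
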