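import Groth.Agent.Fibres16.SepCrit
import Groth.Agent.SchDom.Scheme
import Groth.Agent.QCoh.FiniteType
import Groth.Agent.FlatSect.Basic

/-!
# Universally separating families are checked on fibres
-/

set_option autoImplicit false
set_option linter.style.haveILetI false

universe u

open CategoryTheory CategoryTheory.Limits AlgebraicGeometry TopologicalSpace Opposite TensorProduct
open Groth.Agent.Fibres16.Separating Groth.Agent.QCoh

noncomputable section

namespace Groth.Agent.Fibres16.SepCrit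

variable {X S : Scheme.{u}} {US : S.Opens}

/-- The residue field of a prime of an affine open maps to the residue field of the point. -/
theorem exists_residueField_hom (hS : IsAffineOpen US) (P : Ideal Γ(S, US)) [P.IsPrime] :
    ∃ (s : S) (eW' : (⊤ : (Spec (S.residueField s)).Opens) ≤ S.fromSpecResidueField s ⁻¹ᵁ US)
      (_ : IsField Γ(Spec (S.residueField s), ⊤)),
      letI := ((S.fromSpecResidueField s).appLE US ⊤ eW').hom.toAlgebra
      Nonempty (P.ResidueField →ₐ[Γ(S, US)] Γ(Spec (S.residueField s), ⊤)) := by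
  let s : S := hS.fromSpec ⟨P, inferInstance⟩
  have hs : s ∈ US := by
    have : s ∈ Set.range hS.fromSpec := ⟨_, rfl⟩
    rwa [hS.range_fromSpec] at this
  let g := S.fromSpecResidueField s
  have eW' : (⊤ : (Spec (S.residueField s)).Opens) ≤ g ⁻¹ᵁ US := fun z _ => by
    show g z ∈ US
    rwa [Scheme.fromSpecResidueField_apply]
  letI := (g.appLE US ⊤ eW').hom.toAlgebra
  let K := Γ(Spec (S.residueField s), ⊤)
  have hfld : IsField K :=
    (Scheme.ΓSpecIso (S.residueField s)).commRingCatIsoToRingEquiv.toMulEquiv.isField (Field.toIsField _)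
  refine ⟨s, eW', hfld, ?_⟩
  letI : Field K := hfld.toField
  obtain ⟨z⟩ : Nonempty (Spec (S.residueField s)) := inferInstance
  have h3 : ∀ a : Γ(S, US), a ∉ P ↔ s ∈ S.basicOpen a := by
    intro a
    show _ ↔ (⟨P, inferInstance⟩ : Spec Γ(S, US)) ∈ hS.fromSpec ⁻¹ᵁ S.basicOpen a
    rw [hS.fromSpec_preimage_basicOpen]
    rfl
  have hker : ∀ a : Γ(S, US), algebraMap Γ(S, US) K a = 0 ↔ a ∈ P := by
    intro a
    have h2 : (⊤ : (Spec (S.residueField s)).Opens) ⊓ g ⁻¹ᵁ S.basicOpen a =
        (Spec (S.residueField s)).basicOpen (algebraMap Γ(S, US) K a) :=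
      (Scheme.basicOpen_appLE g ⊤ US eW' a).symm
    constructor
    · intro h0
      by_contra ha
      rw [h0, Scheme.basicOpen_zero] at h2
      have hz : z ∈ (⊤ : (Spec (S.residueField s)).Opens) ⊓ g ⁻¹ᵁ S.basicOpen a :=
        ⟨trivial, show g z ∈ S.basicOpen a by rw [Scheme.fromSpecResidueField_apply]; exact (h3 a).mp ha⟩
      rw [h2] at hz
      exact hz
    · intro ha
      by_contra h0
      have hu : IsUnit (algebraMap Γ(S, US) K a) := isUnit_iff_ne_zero.mpr h0
      rw [Scheme.basicOpen_of_isUnit _ hu] at h2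
      have hz : z ∈ (⊤ : (Spec (S.residueField s)).Opens) ⊓ g ⁻¹ᵁ S.basicOpen a := by rw [h2]; trivial
      have hz2 : g z ∈ S.basicOpen a := hz.2
      rw [Scheme.fromSpecResidueField_apply] at hz2
      exact (h3 a).mpr hz2 ha
  let φ : P.ResidueField →+* K := Ideal.ResidueField.lift P (algebraMap Γ(S, US) K)
    (fun a ha => (hker a).mpr ha) (fun a ha => isUnit_iff_ne_zero.mpr fun h0 => ha ((hker a).mp h0))
  exact ⟨{ φ with commutes' := fun a => Ideal.ResidueField.lift_algebraMap _ _ _ _ a }⟩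

/-- The affine pieces of a fibre product, as algebras. -/
theorem pieceEquiv {S' : Scheme.{u}} (p : X ⟶ S) (g : S' ⟶ S) {W : X.Opens} {W' : S'.Opens}
    (hS : IsAffineOpen US) (hW : IsAffineOpen W) (hW' : IsAffineOpen W') (eW : W ≤ p ⁻¹ᵁ US)
    (eW' : W' ≤ g ⁻¹ᵁ US) :
    letI := (p.appLE US W eW).hom.toAlgebra
    letI := (g.appLE US W' eW').hom.toAlgebra
    letI := ((pullback.fst p g).appLE W (SchDom.prodOpen p g W W')
      (SchDom.prodOpen_le_fst p g W W')).hom.toAlgebra
    IsAffineOpen (SchDom.prodOpen p g W W') ∧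
      Nonempty ((Γ(X, W) ⊗[Γ(S, US)] Γ(S', W')) ≃ₐ[Γ(X, W)]
        Γ(pullback p g, SchDom.prodOpen p g W W')) := by
  letI := (p.appLE US W eW).hom.toAlgebra
  letI := (g.appLE US W' eW').hom.toAlgebra
  letI := ((pullback.fst p g).appLE W (SchDom.prodOpen p g W W')
    (SchDom.prodOpen_le_fst p g W W')).hom.toAlgebra
  obtain ⟨hP, e, he⟩ := SchDom.prod_piece p g hS hW hW' eW eW'
  refine ⟨hP, ⟨AlgEquiv.ofRingEquiv
    (f := (Algebra.TensorProduct.comm Γ(S, US) Γ(X, W) Γ(S', W')).toRingEquiv.trans e) fun b => ?_⟩⟩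
  show e ((1 : Γ(S', W')) ⊗ₜ b) = _
  rw [he, map_one, one_mul]
  rfl

/-- Universally separating families with flat targets are checked on fibres. -/
theorem isSep_pullback_of_fibres [IsLocallyNoetherian X] (p : X ⟶ S) (F : X.Modules) (hF : Coh.IsCoh F)
    {ι : Type u} (G : ι → X.Modules) [∀ i, Coh.IsQCoh (G i)] (hG : ∀ i, FlatMod.IsFlatOver p (G i))
    (u : ∀ i, F ⟶ G i)
    (hfib : ∀ s : S, IsSep (fun i => (Scheme.Modules.pullback (p.fiberι s)).map (u i)))
    {S' : Scheme.{u}} (g : S' ⟶ S) :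
    IsSep (fun i => (Scheme.Modules.pullback (pullback.fst p g)).map (u i)) := by
  haveI : F.IsQuasicoherent := hF.1
  haveI : SheafOfModules.IsFiniteType.{u} F := hF.2
  refine SepFld.isSep_pullback u (pullback.fst p g) fun y => ?_
  obtain ⟨US, hS, hsU, -⟩ := exists_isAffineOpen_mem_and_subset
    (U := ⊤) (x := p (pullback.fst p g y)) trivial
  obtain ⟨W, hW, hxW, eW⟩ := exists_isAffineOpen_mem_and_subset
    (U := p ⁻¹ᵁ US) (x := pullback.fst p g y) hsU
  obtain ⟨W', hW', hyW', eW'⟩ := exists_isAffineOpen_mem_and_subset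
    (U := g ⁻¹ᵁ US) (x := pullback.snd p g y) (by
      show (pullback.snd p g ≫ g) y ∈ US
      rw [← pullback.condition]
      exact hsU)
  obtain ⟨hP, ⟨e⟩⟩ := pieceEquiv p g hS hW hW' eW eW'
  refine ⟨W, SchDom.prodOpen p g W W', hW, hP, SchDom.prodOpen_le_fst p g W W', ⟨hxW, hyW'⟩, ?_⟩
  letI := (p.appLE US W eW).hom.toAlgebra
  letI := (g.appLE US W' eW').hom.toAlgebra
  letI := ((pullback.fst p g).appLE W (SchDom.prodOpen p g W W')
    (SchDom.prodOpen_le_fst p g W W')).hom.toAlgebra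
  letI : Module Γ(S, US) Γ(F, W) := Module.compHom _ (p.appLE US W eW).hom
  haveI : IsScalarTower Γ(S, US) Γ(X, W) Γ(F, W) := IsScalarTower.of_algebraMap_smul fun _ _ => rfl
  letI : ∀ i, Module Γ(S, US) Γ(G i, W) := fun i => Module.compHom _ (p.appLE US W eW).hom
  haveI : ∀ i, IsScalarTower Γ(S, US) Γ(X, W) Γ(G i, W) := fun i =>
    IsScalarTower.of_algebraMap_smul fun _ _ => rfl
  haveI : IsNoetherianRing Γ(X, W) := IsLocallyNoetherian.component_noetherian ⟨W, hW⟩
  haveI : Module.Finite Γ(X, W) Γ(F, W) := QCoh.finite_sections_of_isFiniteType F hW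
  refine SepFld.MJI.of_algEquiv _ e.symm (MJI_univ (SepFld.secLin u W)
    (fun i => FlatSect.flat_sections_of_isFlatOverAt p hS hW eW (G i) (fun x _ => hG i x)) (fun P _ => ?_)
    Γ(S', W'))
  obtain ⟨s, eT, hfld, ⟨j⟩⟩ := exists_residueField_hom hS P
  letI := ((S.fromSpecResidueField s).appLE US ⊤ eT).hom.toAlgebra
  refine ⟨Γ(Spec (S.residueField s), ⊤), hfld.toField, inferInstance, j, ?_⟩
  haveI : IsAffine (Spec (S.residueField s)) := inferInstance
  have hT : IsAffineOpen (⊤ : (Spec (S.residueField s)).Opens) := isAffineOpen_top _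
  obtain ⟨hPs, ⟨es⟩⟩ := pieceEquiv p (S.fromSpecResidueField s) hS hW hT eW eT
  letI := ((pullback.fst p (S.fromSpecResidueField s)).appLE W
    (SchDom.prodOpen p (S.fromSpecResidueField s) W ⊤)
    (SchDom.prodOpen_le_fst p (S.fromSpecResidueField s) W ⊤)).hom.toAlgebra
  exact SepFld.MJI.of_algEquiv _ es (SepFld.MJI_baseChange_of_isSep (pullback.fst p (S.fromSpecResidueField s))
    (hfib s) hW hPs (SchDom.prodOpen_le_fst p (S.fromSpecResidueField s) W ⊤))

end Groth.Agent.Fibres16.SepCrit
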