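import Groth.Agent.SepFld.Base
import Groth.Agent.SchDom.Scheme
import Groth.Agent.FlatOpen.Descend
import Groth.Agent.FlatMisc.GenericFreeLoc

/-!
# Flat base change of finite presentation preserves separating families (EGA IV 11.10.5)

* `eq_zero_noetherian`: Noetherian induction with generic freeness.
* `eq_zero_of_flat`: over any ring, for a flat algebra of finite presentation.
* `MJI.baseChange_flat`: the version on every basic open.
-/

set_option autoImplicit false
set_option linter.style.haveILetI false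

universe u

open TensorProduct Function

namespace Groth.Agent.Fibres16.SepFlat

open Groth.Agent.SepFld (MJI eq_zero_of_free)

/-- The kernel of `W → (A ⧸ I)_a ⊗ W` is `a`-power torsion, if `I` kills `W`. -/
theorem exists_pow_smul_eq_zero {A : Type u} [CommRing A] (I : Ideal A) (a : A) (W : Type u)
    [AddCommGroup W] [Module A W] (hIW : ∀ c ∈ I, ∀ x : W, c • x = 0) (x : W)
    (hx : (1 : Localization.Away (Ideal.Quotient.mk I a)) ⊗ₜ[A] x = 0) : ∃ n : ℕ, a ^ n • x = 0 := by
  have ht : Module.IsTorsionBySet A W (I : Set A) := fun y c => hIW c c.2 y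
  letI := ht.module
  haveI : IsScalarTower A (A ⧸ I) W := ht.isScalarTower
  let L := Localization.Away (Ideal.Quotient.mk I a)
  let g : L ⊗[A] W →ₗ[A] L ⊗[A ⧸ I] W := TensorProduct.lift ((TensorProduct.mk (A ⧸ I) L W).restrictScalars₁₂ A A)
  have h0 : TensorProduct.mk (A ⧸ I) L W 1 x = 0 :=
    (TensorProduct.lift.tmul (1 : L) x).symm.trans ((congrArg g hx).trans (map_zero g))
  obtain ⟨⟨_, n, rfl⟩, hn⟩ := (IsLocalizedModule.eq_zero_iff (Submonoid.powers (Ideal.Quotient.mk I a))
    (TensorProduct.mk (A ⧸ I) L W 1)).mp h0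
  refine ⟨n, ?_⟩
  rw [Submonoid.smul_def] at hn
  rw [← algebraMap_smul (A ⧸ I) (a ^ n) x]
  exact hn

/-- Elements of `M ⊗ P` killed by a separating family vanish (Noetherian base, `I • M = 0`). -/
theorem eq_zero_noetherian {A : Type u} [CommRing A] [IsNoetherianRing A] {d r : ℕ}
    (Z : Submodule (MvPolynomial (Fin d) A) (FlatOpen.Vec d r A))
    [Module.Flat A (FlatOpen.Vec d r A ⧸ Z)] {ι : Type u} (I : Ideal A)
    (M : Type u) [AddCommGroup M] [Module A M] (hIM : ∀ a ∈ I, ∀ x : M, a • x = 0)
    (N : ι → Type u) [∀ i, AddCommGroup (N i)] [∀ i, Module A (N i)] (φ : ∀ i, M →ₗ[A] N i)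
    (hφ : MJI φ) (z : M ⊗[A] (FlatOpen.Vec d r A ⧸ Z))
    (hz : ∀ i, (φ i).rTensor (FlatOpen.Vec d r A ⧸ Z) z = 0) : z = 0 := by
  classical
  induction I using WellFoundedGT.induction generalizing M N with
  | ind I ih =>
  let P := FlatOpen.Vec d r A ⧸ Z
  -- elements killed by some `a ∉ I` vanish
  have hkill : ∀ a ∉ I, ∀ y : M ⊗[A] P, (∀ i, (φ i).rTensor P y = 0) → a • y = 0 → y = 0 := by
    intro a ha y hy hay
    let M' := LinearMap.ker (LinearMap.lsmul A M a)
    have hex : Exact (M'.subtype.rTensor P) ((LinearMap.lsmul A M a).rTensor P) :=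
      Module.Flat.rTensor_exact P (LinearMap.exact_subtype_ker_map _)
    have hay' : (LinearMap.lsmul A M a).rTensor P y = 0 := by
      rw [← hay]
      clear hy hay
      induction y with
      | zero => simp
      | tmul m p => simp [smul_tmul']
      | add u v hu hv => rw [map_add, smul_add, hu, hv]
    obtain ⟨y', rfl⟩ := (hex y).1 hay'
    have hI' : ∀ b ∈ I ⊔ Ideal.span {a}, ∀ x : M', b • x = 0 := by
      intro b hb x
      obtain ⟨c, hc, d, hd, rfl⟩ := Submodule.mem_sup.1 hb
      obtain ⟨e, rfl⟩ := Ideal.mem_span_singleton'.1 hd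
      refine Subtype.ext ?_
      show (c + e * a) • (x : M) = 0
      rw [add_smul, hIM c hc, zero_add, mul_smul, show a • (x : M) = 0 from x.2, smul_zero]
    have hlt : I < I ⊔ Ideal.span {a} := lt_of_le_of_ne le_sup_left fun e =>
      ha (e ▸ Ideal.mem_sup_right (Ideal.mem_span_singleton_self a))
    rw [ih _ hlt M' hI' N (fun i => (φ i) ∘ₗ M'.subtype) (fun h x hx => by
      obtain ⟨m, hm⟩ := hφ h (x : M) hx
      exact ⟨m, Subtype.ext hm⟩) y' (fun i => by rw [LinearMap.rTensor_comp]; exact hy i), map_zero]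
  by_cases htop : I = ⊤
  · haveI : Subsingleton M := ⟨fun x y => by
      rw [← one_smul A x, hIM 1 (htop ▸ trivial), ← one_smul A y, hIM 1 (htop ▸ trivial)]⟩
    exact Subsingleton.elim z 0
  by_cases hrad : I.IsRadical
  swap
  · -- `I` not radical
    obtain ⟨b, hb, hb2⟩ : ∃ b ∉ I, b * b ∈ I := by
      obtain ⟨a, ⟨n, (hn : a ^ n ∈ I)⟩, ha⟩ := Set.not_subset.1 hrad
      let e := Nat.find (p := fun k => a ^ k ∈ I) ⟨n, hn⟩
      have he : a ^ e ∈ I := Nat.find_spec (p := fun k => a ^ k ∈ I) ⟨n, hn⟩
      have he2 : 2 ≤ e := by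
        by_contra hlt
        rcases Nat.le_one_iff_eq_zero_or_eq_one.1 (by omega : e ≤ 1) with h0 | h1
        · rw [h0, pow_zero] at he; exact htop ((Ideal.eq_top_iff_one I).2 he)
        · rw [h1, pow_one] at he; exact ha he
      refine ⟨a ^ (e - 1), Nat.find_min (p := fun k => a ^ k ∈ I) ⟨n, hn⟩ (by omega), ?_⟩
      rw [← pow_add]
      exact I.pow_mem_of_pow_mem he (by omega)
    refine hkill b hb z hz (hkill b hb _ (fun i => by rw [map_smul, hz i, smul_zero]) ?_)
    rw [smul_smul]
    clear hz
    induction z with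
    | zero => simp
    | tmul m p => rw [smul_tmul', hIM _ hb2, zero_tmul]
    | add u v hu hv => rw [smul_add, hu, hv, add_zero]
  -- `I` radical: generic freeness
  let R := A ⧸ I
  haveI : IsReduced R := I.isRadical_iff_quotient_reduced.mp hrad
  haveI : Nontrivial R := Ideal.Quotient.nontrivial_iff.mpr htop
  let Q := R ⊗[A] P
  obtain ⟨f, -, hf, hfree⟩ := FlatMisc.GenericFree.genFree (R := R) (MvPolynomial (Fin d) R)
    (FlatOpen.Quot R Z) 1 one_ne_zero
  have hfreeQ : Module.Free (Localization.Away f) (Localization.Away f ⊗[R] Q) :=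
    haveI := hfree.free_tensor
    Module.Free.of_equiv (AlgebraTensorModule.congr (LinearEquiv.refl (Localization.Away f) _)
      (FlatOpen.quotEquiv R Z).symm)
  obtain ⟨a, rfl⟩ := Ideal.Quotient.mk_surjective f
  let L := Localization.Away (Ideal.Quotient.mk I a)
  -- after inverting `a`, the family is jointly injective and `P` is free
  have key : ∀ y : M ⊗[A] P, (∀ i, (φ i).rTensor P y = 0) →
      (1 : L) ⊗ₜ[A] y = 0 := by
    intro y hy
    have hψ : ∀ x : L ⊗[A] M, (∀ i, ((φ i).rangeRestrict).baseChange L x = 0) → x = 0 := by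
      intro x hx
      obtain ⟨k, m, hxm⟩ : ∃ (k : ℕ) (m : M), algebraMap A L a ^ k • x = (1 : L) ⊗ₜ[A] m := by
        clear hx
        induction x with
        | zero => exact ⟨0, 0, by simp⟩
        | tmul l m =>
          obtain ⟨k, c, hc⟩ : ∃ (k : ℕ) (c : A), algebraMap A L a ^ k * l = algebraMap A L c := by
            obtain ⟨⟨c, ⟨_, k, rfl⟩⟩, hc⟩ :=
              IsLocalization.surj (Submonoid.powers (Ideal.Quotient.mk I a)) l
            obtain ⟨c, rfl⟩ := Ideal.Quotient.mk_surjective c
            refine ⟨k, c, ?_⟩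
            rw [mul_comm, IsScalarTower.algebraMap_apply A R L, IsScalarTower.algebraMap_apply A R L]
            rw [map_pow] at hc
            exact hc
          refine ⟨k, c • m, ?_⟩
          rw [smul_tmul', smul_eq_mul, hc, Algebra.algebraMap_eq_smul_one, smul_tmul]
        | add u v hu hv =>
          obtain ⟨k, m, hm⟩ := hu
          obtain ⟨l, n, hn⟩ := hv
          refine ⟨k + l, a ^ l • m + a ^ k • n, ?_⟩
          rw [smul_add, pow_add, mul_smul, mul_smul, hn, smul_comm, hm, tmul_add, tmul_smul, tmul_smul,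
            ← map_pow, ← map_pow, algebraMap_smul, algebraMap_smul]
      have hunit : IsUnit (algebraMap A L a ^ k) := by
        rw [IsScalarTower.algebraMap_apply A R L]
        exact (IsLocalization.Away.algebraMap_isUnit (S := L) (Ideal.Quotient.mk I a)).pow k
      refine (hunit.smul_eq_zero).1 ?_
      rw [hxm]
      obtain ⟨n, hn⟩ := hφ a m fun i => by
        have hi : (1 : L) ⊗ₜ[A] (φ i).rangeRestrict m = 0 := by
          rw [← LinearMap.baseChange_tmul, ← hxm, map_smul, hx i, smul_zero]
        obtain ⟨n, hn⟩ := exists_pow_smul_eq_zero I a (LinearMap.range (φ i)) (fun c hc w => by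
          obtain ⟨w, v, rfl⟩ := w
          refine Subtype.ext ?_
          show c • φ i v = 0
          rw [← map_smul, hIM c hc, map_zero]) _ hi
        exact ⟨n, congrArg Subtype.val hn⟩
      refine ((IsLocalization.Away.algebraMap_isUnit (S := L) (Ideal.Quotient.mk I a)).pow n).smul_eq_zero.1 ?_
      rw [← map_pow, ← map_pow,
        show algebraMap R L (Ideal.Quotient.mk I (a ^ n)) = algebraMap A L (a ^ n) from
          (IsScalarTower.algebraMap_apply A R L (a ^ n)).symm,
        algebraMap_smul, ← tmul_smul, hn, tmul_zero]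
    let y' := TensorProduct.comm A M P y
    haveI : Module.Free L (L ⊗[A] P) :=
      haveI := hfreeQ
      Module.Free.of_equiv (AlgebraTensorModule.cancelBaseChange A R L L P)
    let q : ∀ (W : Type u) [AddCommGroup W] [Module A W],
        P ⊗[A] W →ₗ[A] (L ⊗[A] P) ⊗[L] (L ⊗[A] W) := fun W _ _ =>
      ((AlgebraTensorModule.distribBaseChange A L P W).restrictScalars A).toLinearMap ∘ₗ
        TensorProduct.mk A L (P ⊗[A] W) 1
    have hq : q M y' = 0 := by
      refine eq_zero_of_free (R := L) (fun i => ((φ i).rangeRestrict).baseChange L) hψ _ fun i => ?_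
      have hn : ∀ t, (((φ i).rangeRestrict).baseChange L).lTensor (L ⊗[A] P) (q M t) =
          q _ (((φ i).rangeRestrict).lTensor P t) := by
        intro t
        induction t with
        | zero => simp
        | tmul c p => simp [q]
        | add u v hu hv => simp only [map_add, hu, hv]
      have hzero : ((φ i).rangeRestrict).lTensor P y' = 0 := by
        refine Module.Flat.lTensor_preserves_injective_linearMap (M := P) (LinearMap.range (φ i)).subtype
          (Submodule.injective_subtype _) ?_
        rw [map_zero, ← LinearMap.comp_apply, ← LinearMap.lTensor_comp]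
        show (φ i).lTensor P y' = 0
        have hc : ∀ t, (φ i).lTensor P (TensorProduct.comm A M P t) =
            TensorProduct.comm A (N i) P ((φ i).rTensor P t) := fun t => by
          induction t with
          | zero => simp
          | tmul m c => simp
          | add u v hu hv => simp only [map_add, hu, hv]
        rw [hc, hy i, map_zero]
      rw [hn, hzero, map_zero]
    have h1 : (1 : L) ⊗ₜ[A] y' = 0 :=
      (AlgebraTensorModule.distribBaseChange A L P M).injective (hq.trans (map_zero _).symm)
    have h2 := congrArg ((TensorProduct.comm A M P).symm.toLinearMap.lTensor L) h1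
    rw [LinearMap.lTensor_tmul, map_zero, LinearEquiv.coe_coe, LinearEquiv.symm_apply_apply] at h2
    exact h2
  have hz1 : (1 : L) ⊗ₜ[A] z = 0 := key z hz
  obtain ⟨n, hn⟩ := exists_pow_smul_eq_zero I a (M ⊗[A] P) (fun c hc t => by
    induction t with
    | zero => simp
    | tmul m p => rw [smul_tmul', hIM c hc, zero_tmul]
    | add u v hu hv => rw [smul_add, hu, hv, add_zero]) z hz1
  exact hkill (a ^ n) (fun h => hf (Ideal.Quotient.eq_zero_iff_mem.2 (hrad ⟨n, h⟩))) z hz hn

/-- Elements of `M ⊗ B` killed by a separating family vanish, `B` flat of finite presentation. -/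
theorem eq_zero_of_flat {A : Type u} [CommRing A] (B : Type u) [CommRing B] [Algebra A B]
    [Algebra.FinitePresentation A B] [Module.Flat A B] {ι : Type u}
    {M : Type u} [AddCommGroup M] [Module A M]
    {N : ι → Type u} [∀ i, AddCommGroup (N i)] [∀ i, Module A (N i)] (φ : ∀ i, M →ₗ[A] N i)
    (hφ : MJI φ) (z : M ⊗[A] B) (hz : ∀ i, (φ i).rTensor B z = 0) : z = 0 := by
  obtain ⟨n, r, R₀, Z₀, -, E, hR₀, -, -⟩ := FlatOpen.exists_presentation_model A B B
  haveI : IsNoetherianRing R₀ := isNoetherianRing_of_fg hR₀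
  haveI : Module.Flat A (FlatOpen.Quot A Z₀) := Module.Flat.of_linearEquiv E
  obtain ⟨R₁, hR₁, hflat⟩ := FlatOpen.exists_model_flat_all Z₀ A
  haveI : IsNoetherianRing R₁ := isNoetherianRing_of_fg hR₁
  let P := FlatOpen.Quot R₁ Z₀
  let e₀ : A ⊗[R₁] P ≃ₗ[A] FlatOpen.Quot A Z₀ := (FlatOpen.quotEquiv A (FlatOpen.ext R₁ Z₀)).trans
    ((Submodule.quotEquivOfEq _ _ (FlatOpen.ext_ext A Z₀ R₁)).restrictScalars A)
  let c : ∀ (W : Type u) [AddCommGroup W] [Module A W], W ⊗[A] B ≃ₗ[R₁] W ⊗[R₁] P := fun W _ _ =>
    ((AlgebraTensorModule.congr (LinearEquiv.refl A W) (E.symm.trans e₀.symm)).trans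
      (AlgebraTensorModule.cancelBaseChange R₁ A A W P)).restrictScalars R₁
  refine (c M).injective ((eq_zero_noetherian (FlatOpen.ext R₁ Z₀) ⊥ M
    (fun a ha x => by rw [(Submodule.mem_bot R₁).1 ha, zero_smul]) N
    (fun i => (φ i).restrictScalars R₁) (fun h x hx => ?_) (c M z) fun i => ?_).trans (map_zero _).symm)
  · obtain ⟨m, hm⟩ := hφ (h : A) x fun i => by
      obtain ⟨m, hm⟩ := hx i
      exact ⟨m, hm⟩
    exact ⟨m, hm⟩
  · have hc : ∀ t, ((φ i).restrictScalars R₁).rTensor P (c M t) = c (N i) ((φ i).rTensor B t) := by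
      intro t
      induction t with
      | zero => simp
      | add u v hu hv => simp only [map_add, hu, hv]
      | tmul m b =>
        obtain ⟨b, rfl⟩ := (E.symm.trans e₀.symm).symm.surjective b
        induction b with
        | zero => simp
        | tmul a p => simp [c]
        | add u v hu hv => simp only [map_add, tmul_add, hu, hv]
    rw [hc, hz i, map_zero]

/-- Flat base change of finite presentation preserves joint injectivity on every basic open. -/
theorem baseChange_flat {A : Type u} [CommRing A] (B : Type u) [CommRing B] [Algebra A B]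
    [Algebra.FinitePresentation A B] [Module.Flat A B] {ι : Type u}
    {M : Type u} [AddCommGroup M] [Module A M]
    {N : ι → Type u} [∀ i, AddCommGroup (N i)] [∀ i, Module A (N i)] {φ : ∀ i, M →ₗ[A] N i}
    (hφ : MJI φ) : MJI (fun i => (φ i).baseChange B) := by
  intro h z hz
  let L := Localization.Away h
  haveI : Algebra.FinitePresentation B L := IsLocalization.Away.finitePresentation h
  haveI : Algebra.FinitePresentation A L := Algebra.FinitePresentation.trans A B L
  haveI : Module.Flat B L := IsLocalization.flat L (Submonoid.powers h)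
  haveI : Module.Flat A L := Module.Flat.trans A B L
  let c : ∀ (W : Type u) [AddCommGroup W] [Module A W], L ⊗[B] (B ⊗[A] W) ≃ₗ[A] W ⊗[A] L :=
    fun W _ _ => ((AlgebraTensorModule.cancelBaseChange A B B L W).restrictScalars A).trans
      (TensorProduct.comm A L W)
  have h1 : (1 : L) ⊗ₜ[B] z = 0 := by
    refine (c M).injective ((eq_zero_of_flat L φ hφ (c M (1 ⊗ₜ z)) fun i => ?_).trans (map_zero _).symm)
    have hc : ∀ t : B ⊗[A] M, (φ i).rTensor L (c M (1 ⊗ₜ t)) = c (N i) (1 ⊗ₜ (φ i).baseChange B t) := by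
      intro t
      induction t with
      | zero => simp
      | tmul b m => simp [c]
      | add u v hu hv => simp only [tmul_add, map_add, hu, hv]
    obtain ⟨m, hm⟩ := hz i
    rw [hc]
    have h2 : algebraMap B L h ^ m • ((1 : L) ⊗ₜ[B] (φ i).baseChange B z) = 0 := by
      rw [← map_pow, algebraMap_smul, ← tmul_smul, hm, tmul_zero]
    rw [((IsLocalization.Away.algebraMap_isUnit (S := L) h).pow m).smul_eq_zero.1 h2, map_zero]
  obtain ⟨⟨_, m, rfl⟩, hm⟩ := (IsLocalizedModule.eq_zero_iff (Submonoid.powers h)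
    (TensorProduct.mk B L (B ⊗[A] M) 1)).mp h1
  exact ⟨m, hm⟩

open SchDom in
/-- Flat base change of finite presentation preserves `JI`, for `B = A`. -/
theorem JI_baseChange_flat {A B A' : Type u} [CommRing A] [CommRing B] [Algebra A B] [CommRing A']
    [Algebra A A'] [Algebra.FinitePresentation A A'] [Module.Flat A A'] {ι : Type u} {C : ι → Type u}
    [∀ i, CommRing (C i)] [∀ i, Algebra A (C i)] (f : ∀ i, B →ₐ[A] C i)
    (hb : Surjective (algebraMap A B)) (hf : JI (fun i => (f i).toRingHom)) :
    JI (fun i => (BC A A' (f i)).toRingHom) := by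
  have hφ : MJI (fun i => (f i).toLinearMap) := fun h x hx => by
    obtain ⟨m, hm⟩ := hf (algebraMap A B h) x fun i => by
      obtain ⟨m, hm⟩ := hx i
      refine ⟨m, ?_⟩
      rw [← map_pow, ← Algebra.smul_def]
      show f i (h ^ m • x) = 0
      rw [map_smul]
      exact hm
    exact ⟨m, by rw [Algebra.smul_def, map_pow]; exact hm⟩
  intro h x hx
  obtain ⟨a, rfl⟩ : ∃ a : A', a ⊗ₜ[A] (1 : B) = h := by
    clear hx
    induction h with
    | zero => exact ⟨0, zero_tmul _ _⟩
    | tmul a b =>
      obtain ⟨c, rfl⟩ := hb b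
      exact ⟨c • a, by rw [smul_tmul, Algebra.algebraMap_eq_smul_one]⟩
    | add u v hu hv =>
      obtain ⟨a, rfl⟩ := hu
      obtain ⟨b, rfl⟩ := hv
      exact ⟨a + b, add_tmul _ _ _⟩
  have hmul : ∀ (W : Type u) [CommRing W] [Algebra A W] (c : A') (t : A' ⊗[A] W),
      c ⊗ₜ[A] (1 : W) * t = c • t := fun W _ _ c t => by
    induction t with
    | zero => simp
    | tmul e w => simp [smul_tmul']
    | add u v hu hv => rw [mul_add, smul_add, hu, hv]
  obtain ⟨m, hm⟩ := baseChange_flat A' hφ a x fun i => by
    obtain ⟨m, hm⟩ := hx i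
    refine ⟨m, ?_⟩
    have hc : ∀ t, (f i).toLinearMap.baseChange A' t = BC A A' (f i) t := fun t => by
      induction t with
      | zero => simp
      | tmul e w => simp [BC]
      | add u v hu hv => simp only [map_add, hu, hv]
    rw [Algebra.TensorProduct.tmul_pow, one_pow, hmul] at hm
    rw [← map_smul, hc]
    exact hm
  exact ⟨m, by rw [Algebra.TensorProduct.tmul_pow, one_pow, hmul]; exact hm⟩

open CategoryTheory AlgebraicGeometry in
/-- Schematic dominance is stable under composition with an isomorphism. -/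
theorem SD_comp_iso {X X' : Scheme.{u}} {ι : Type u} {Z : ι → Scheme.{u}} {f : ∀ i, Z i ⟶ X}
    (hf : SchDom.SD f) (e : X ⟶ X') [IsIso e] : SchDom.SD (fun i => f i ≫ e) := by
  intro V t ht
  have h1 : e.app V t = 0 := hf _ _ fun i => ht i
  haveI : IsIso (e.app V) := inferInstance
  exact (ConcreteCategory.bijective_of_isIso (e.app V)).1 (h1.trans (map_zero (e.app V).hom).symm)

end Groth.Agent.Fibres16.SepFlat
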