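import Groth.Agent.PullStalk.Exact
import Groth.Agent.FDesc.Stalk
import Mathlib.LinearAlgebra.TensorProduct.Pi
import Mathlib.LinearAlgebra.Pi

/-!
# Separating families of morphisms of modules
-/

set_option autoImplicit false

universe u

open CategoryTheory AlgebraicGeometry TopologicalSpace Opposite
open Groth.Agent.PullStalk Groth.Agent.PullStalk.Sky Groth.Agent.PullStalk.Exact
open scoped TensorProduct

namespace Groth.Agent.Fibres16.Separating

variable {X X' : Scheme.{u}} {F : X.Modules} {ι : Type u} {G : ι → X.Modules}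

/-- Every section killed by all the members of the family is zero. -/
def IsSep (u : ∀ i, F ⟶ G i) : Prop :=
  ∀ (V : X.Opens) (t : Γ(F, V)), (∀ i, (u i).app V t = 0) → t = 0

theorem germM_zero (M : X.Modules) (U : X.Opens) (x : X) (hx : x ∈ U) : germM M U x hx 0 = 0 :=
  map_zero (M.presheaf.germ U x hx).hom

theorem eq_zero_of_germs (M : X.Modules) (V : X.Opens) (t : Γ(M, V))
    (h : ∀ x (hx : x ∈ V), germM M V x hx t = 0) : t = 0 := by
  refine TopCat.Presheaf.section_ext (⟨M.presheaf, M.isSheaf⟩ : TopCat.Sheaf Ab X) V t 0 fun x hx => ?_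
  exact (h x hx).trans (germM_zero M V x hx).symm

/-- A separating finite family is jointly injective on stalks. -/
theorem stalk_eq_zero [Finite ι] {u : ∀ i, F ⟶ G i} (h : IsSep u) (x : X) (a : F.presheaf.stalk x)
    (ha : ∀ i, stalkLin (u i) x a = 0) : a = 0 := by
  obtain ⟨U, hx, m, rfl⟩ := exists_germM_eq F x a
  have hW : ∀ i, ∃ (W : X.Opens) (hWU : W ≤ U), x ∈ W ∧
      (G i).presheaf.map (homOfLE hWU).op ((u i).app U m) = 0 := fun i => by
    have h1 : germM (G i) U x hx ((u i).app U m) = germM (G i) U x hx 0 := by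
      rw [← stalkLin_germ, ha i, germM_zero]
    obtain ⟨W, hxW, iU, iU', h2⟩ := (G i).presheaf.germ_eq x hx hx _ _ h1
    refine ⟨W, iU.le, hxW, ?_⟩
    rw [show (homOfLE iU.le) = iU from Subsingleton.elim _ _, h2]
    exact map_zero ((G i).presheaf.map iU'.op).hom
  choose W hWU hxW hz using hW
  let V : X.Opens := U ⊓ ⟨⋂ i, (W i : Set X), isOpen_iInter_of_finite fun i => (W i).2⟩
  have hxV : x ∈ V := ⟨hx, Set.mem_iInter.mpr hxW⟩
  have ht : F.presheaf.map (homOfLE (inf_le_left : V ≤ U)).op m = 0 := by
    refine h V _ fun i => ?_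
    have hVW : V ≤ W i := fun y hy => Set.mem_iInter.mp hy.2 i
    have e1 : (u i).app V (F.presheaf.map (homOfLE (inf_le_left : V ≤ U)).op m) =
        (G i).presheaf.map (homOfLE (inf_le_left : V ≤ U)).op ((u i).app U m) :=
      NatTrans.naturality_apply (u i).mapPresheaf (homOfLE (inf_le_left : V ≤ U)).op m
    have e2 : (G i).presheaf.map (homOfLE (inf_le_left : V ≤ U)).op ((u i).app U m) =
        (G i).presheaf.map (homOfLE hVW).op ((G i).presheaf.map (homOfLE (hWU i)).op ((u i).app U m)) := by
      exact ConcreteCategory.congr_hom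
        ((G i).presheaf.map_comp (homOfLE (hWU i)).op (homOfLE hVW).op) _
    rw [e1, e2, hz i]
    exact map_zero ((G i).presheaf.map (homOfLE hVW).op).hom
  have := congrArg (germM F V x hxV) ht
  rwa [germM_zero, show germM F V x hxV (F.presheaf.map (homOfLE (inf_le_left : V ≤ U)).op m) =
    germM F U x hx m from F.presheaf.germ_res_apply _ x hxV m] at this

/-- Joint injectivity on stalks gives a separating family. -/
theorem isSep_of_stalk {u : ∀ i, F ⟶ G i}
    (h : ∀ x (a : F.presheaf.stalk x), (∀ i, stalkLin (u i) x a = 0) → a = 0) : IsSep u :=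
  fun V t ht => eq_zero_of_germs F V t fun x hx => h x _ fun i => by
    rw [stalkLin_germ, ht i, germM_zero]

/-- Stalks of a pullback of a jointly injective finite family along a flat map. -/
theorem stalk_eq_zero_pullback [Finite ι] (u : ∀ i, F ⟶ G i) (g : X' ⟶ X) (x' : X')
    (hg : (g.stalkMap x').hom.Flat)
    (h : ∀ a : F.presheaf.stalk (g x'), (∀ i, stalkLin (u i) (g x') a = 0) → a = 0)
    (b : ((Scheme.Modules.pullback g).obj F).presheaf.stalk x')
    (hb : ∀ i, stalkLin ((Scheme.Modules.pullback g).map (u i)) x' b = 0) : b = 0 := by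
  classical
  haveI := Fintype.ofFinite ι
  letI := (g.stalkMap x').hom.toAlgebra
  haveI : Module.Flat (X.presheaf.stalk (g x')) (X'.presheaf.stalk x') := hg
  let A := X.presheaf.stalk (g x')
  let B := X'.presheaf.stalk x'
  let φ : F.presheaf.stalk (g x') →ₗ[A] ∀ i, (G i).presheaf.stalk (g x') :=
    LinearMap.pi fun i => stalkLin (u i) (g x')
  have hφ : Function.Injective φ :=
    (injective_iff_map_eq_zero φ).mpr fun a ha => h a fun i => congrFun ha i
  have hφB : Function.Injective (φ.lTensor B) := Module.Flat.lTensor_preserves_injective_linearMap φ hφ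
  obtain ⟨e, he⟩ := FDesc.Stalk.exists_stalk_equiv g F x'
  choose eG heG using fun i => FDesc.Stalk.exists_stalk_equiv g (G i) x'
  have key : ∀ (z : B ⊗[A] F.presheaf.stalk (g x')) (i : ι),
      stalkLin ((Scheme.Modules.pullback g).map (u i)) x' (e z) =
        eG i (TensorProduct.piRight A A B (fun i => (G i).presheaf.stalk (g x')) (φ.lTensor B z) i) := by
    intro z i
    induction z with
    | zero => simp
    | add a b ha hb => simp only [map_add, Pi.add_apply, ha, hb]
    | tmul r t =>
      rw [he, map_smul, LinearMap.lTensor_tmul, TensorProduct.piRight_apply, TensorProduct.piRightHom_tmul, heG]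
      exact congrArg (r • ·) (FDesc.Stalk.unitStalkHom_natural g (u i) x' t).symm
  obtain ⟨z, rfl⟩ := e.surjective b
  have h0 : φ.lTensor B z = 0 := by
    refine (TensorProduct.piRight A A B _).injective ?_
    rw [map_zero]
    funext i
    refine (eG i).injective ?_
    rw [← key, hb i, Pi.zero_apply, map_zero]
  rw [hφB (h0.trans (map_zero _).symm), map_zero]

end Groth.Agent.Fibres16.Separating
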