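import Groth.Agent.GeomLoc.Smooth
import Groth.Agent.GrpdLib.DimOnePts
import Groth.Agent.AlgSpD.EtaleTop
import Groth.Agent.Omega.SmoothSerre
import Groth.Prelude.Def_FDesc
import Mathlib.AlgebraicGeometry.Morphisms.Finite

/-!
# Geometric `(R_k)` at a point in terms of the smooth locus
-/

set_option autoImplicit false
set_option linter.style.haveILetI false

universe u

open CategoryTheory Limits AlgebraicGeometry TopologicalSpace

namespace Groth.Agent.Fibres16.SmoothLocus

variable {Z : Scheme.{u}}

/-- The local rings of `Spec O_{Z,x}` are those of `Z` at the generizations of `x`. -/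
theorem nonempty_stalk_equiv (x : Z) (P : PrimeSpectrum (Z.presheaf.stalk x)) :
    Nonempty (Z.presheaf.stalk (Z.fromSpecStalk x P) ≃+* Localization.AtPrime P.asIdeal) := by
  haveI := GrpdLib.DimOnePts.isIso_stalkMap_fromSpecStalk x P
  exact ⟨(asIso ((Z.fromSpecStalk x).stalkMap P)).commRingCatIsoToRingEquiv.trans
    (FBase.PointScheme.specStalkEquiv (Z.presheaf.stalk x) P)⟩

/-- `(R_k)` of a stalk, on the generizations. -/
theorem hasRk_stalk_iff (x : Z) (k : ℕ) :
    LocCoh.HasRk k (Z.presheaf.stalk x) ↔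
      ∀ w, w ⤳ x → ringKrullDim (Z.presheaf.stalk w) ≤ k → IsRegularLocalRing (Z.presheaf.stalk w) := by
  have hdim : ∀ P : PrimeSpectrum (Z.presheaf.stalk x),
      ringKrullDim (Z.presheaf.stalk (Z.fromSpecStalk x P)) = P.asIdeal.height := fun P => by
    rw [ringKrullDim_eq_of_ringEquiv (nonempty_stalk_equiv x P).some,
      IsLocalization.AtPrime.ringKrullDim_eq_height P.asIdeal (Localization.AtPrime P.asIdeal)]
  constructor
  · intro h w hw hwk
    have : w ∈ Set.range (Z.fromSpecStalk x) := Scheme.range_fromSpecStalk ▸ hw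
    obtain ⟨P, rfl⟩ := this
    haveI := h P.asIdeal (by rw [hdim P] at hwk; exact_mod_cast hwk)
    exact IsRegularLocalRing.of_ringEquiv (nonempty_stalk_equiv x P).some.symm
  · intro h p hp hpk
    haveI := h (Z.fromSpecStalk x ⟨p, hp⟩) (by
      have : Z.fromSpecStalk x ⟨p, hp⟩ ∈ Set.range (Z.fromSpecStalk x) := ⟨_, rfl⟩
      rwa [Scheme.range_fromSpecStalk] at this) (by rw [hdim]; exact_mod_cast hpk)
    exact IsRegularLocalRing.of_ringEquiv (nonempty_stalk_equiv x ⟨p, hp⟩).some

variable {k : Type u} [Field k] (f : Z ⟶ Spec (CommRingCat.of k))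

/-- Geometric `(R_n)` for finite extensions of the base field: the generizations of small
codimension are smooth points. -/
theorem geomRk_iff [LocallyOfFiniteType f] [LocallyOfFinitePresentation f] (x : Z) (n : ℕ) :
    (∀ (K : Type u) [Field K] [Algebra k K], Module.Finite k K → ∀ x' : ↥(FBase.bc f K),
      (FBase.bcπ f K).base x' = x → LocCoh.HasRk n ((FBase.bc f K).presheaf.stalk x')) ↔
    ∀ w, w ⤳ x → ringKrullDim (Z.presheaf.stalk w) ≤ n → w ∈ f.smoothLocus := by
  letI : Z.Over (Spec (CommRingCat.of k)) := ⟨f⟩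
  haveI : LocallyOfFinitePresentation (Z ↘ Spec (CommRingCat.of k)) := ‹LocallyOfFinitePresentation f›
  haveI := LocallyOfFiniteType.isLocallyNoetherian f
  have hfin : ∀ (K : Type u) [Field K] [Algebra k K], Module.Finite k K → IsFinite (FBase.bcπ f K) := by
    intro K _ _ hK
    haveI : IsFinite (Spec.map (CommRingCat.ofHom (algebraMap k K))) :=
      (IsFinite.SpecMap_iff _).2 (RingHom.finite_algebraMap.2 hK)
    exact MorphismProperty.pullback_fst _ _ inferInstance
  have hflat : ∀ (K : Type u) [Field K] [Algebra k K], Flat (FBase.bcπ f K) := by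
    intro K _ _
    haveI : Flat (Spec.map (CommRingCat.ofHom (algebraMap k K))) :=
      (HasRingHomProperty.Spec_iff (P := @Flat)).2 (RingHom.flat_algebraMap_iff.2 inferInstance)
    exact MorphismProperty.pullback_fst _ _ inferInstance
  have hdim : ∀ (K : Type u) [Field K] [Algebra k K], Module.Finite k K → ∀ w' : ↥(FBase.bc f K),
      ringKrullDim (Z.presheaf.stalk (FBase.bcπ f K w')) = ringKrullDim ((FBase.bc f K).presheaf.stalk w') := by
    intro K _ _ hK w'
    haveI := hfin K hK
    haveI := hflat K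
    rw [ringKrullDim_stalk_eq_coheight, ringKrullDim_stalk_eq_coheight, AlgSpD.coheight_apply_eq]
  constructor
  · intro h w hwx hwn
    refine (GeomLoc.isGeomRegularAt_iff_mem_smoothLocus (k := k) w).1 ((GeomLoc.isGeomRegularAt_iff w).1.2 ?_)
    intro K _ _ hK _ w' hw'
    haveI := hfin K hK
    obtain ⟨x', hx', hx'x⟩ := (FBase.bcπ f K).isClosedMap.specializingMap (show FBase.bcπ f K w' ⤳ x by
      rw [show FBase.bcπ f K w' = w from hw']; exact hwx)
    exact (hasRk_stalk_iff x' n).1 (h K hK x' hx'x) w' hx' (by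
      rw [← hdim K hK w', show FBase.bcπ f K w' = w from hw']; exact hwn)
  · intro h K _ _ hK x' hx'
    refine (hasRk_stalk_iff x' n).2 fun w' hw' hn => ?_
    exact (GeomLoc.isGeomRegularAt_iff_mem_smoothLocus (k := k) _).2
      (h (FBase.bcπ f K w') (hx' ▸ hw'.map (FBase.bcπ f K).continuous) (by rw [hdim K hK w']; exact hn))
      K (GeomLoc.fg_of_finiteDimensional K) w' rfl

end Groth.Agent.Fibres16.SmoothLocus
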