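import Groth.Agent.Fibres16.SmoothLocus
import Groth.Agent.Fibres16.Loci
import Groth.Agent.FibCodepth.Equidim
import Groth.Agent.FibCodepth.SuppComp
import Groth.Agent.EquidimPt.Component
import Groth.Agent.FlatOpen.SmoothAt
import Groth.Agent.FlatMisc.FibreDimScheme

/-!
# Openness of fibrewise geometric `(R_k)` with equidimensionality and `(S_k)` (EGA IV 12.1.6)
-/

set_option autoImplicit false
set_option linter.style.haveILetI false

universe u

open CategoryTheory AlgebraicGeometry TopologicalSpace TensorProduct IsLocalRing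
open Groth.Agent.AssSch.Stalk Groth.Agent.FibCodepth

namespace Groth.Agent.Fibres16.SmoothOpen

theorem isEquidim_iff_isEquidimModule (R : Type u) [CommRing R] :
    EGA4.IsEquidim R ↔ EGA4.IsEquidimModule R R := by
  unfold EGA4.IsEquidim EGA4.IsEquidimModule
  rw [show Module.annihilator R R = ⊥ from Module.annihilator_eq_bot.2 inferInstance,
    Module.supportDim_self_eq_ringKrullDim]

variable {X Y : Scheme.{u}} (f : X ⟶ Y)

attribute [local instance] Algebra.TensorProduct.rightAlgebra in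
theorem equidim_and_sk_ring_iff_chart {V : Y.Opens} (hV : IsAffineOpen V) {U : X.Opens} (hU : IsAffineOpen U)
    (e : U ≤ f ⁻¹ᵁ V) [hft : LocallyOfFiniteType f] (k : ℕ) (hk : 1 ≤ k) (s : Y) (y : f.fiber s) (x : X)
    (hxy : f.fiberι s y = x) (hx : x ∈ U) :
    letI := (f.appLE V U e).hom.toAlgebra
    (EGA4.IsEquidim ((f.fiber s).presheaf.stalk y) ∧
      LocCoh.HasSk k ((f.fiber s).presheaf.stalk y) ((f.fiber s).presheaf.stalk y)) ↔
      FibSk Γ(Y, V) Γ(X, U) Γ(X, U) (hU.primeIdealOf ⟨x, hx⟩) k ∧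
        ∃ j, AssDimsIn Γ(Y, V) Γ(X, U) Γ(X, U) {j} (hU.primeIdealOf ⟨x, hx⟩) := by
  letI := (f.appLE V U e).hom.toAlgebra
  haveI : Algebra.FiniteType Γ(Y, V) Γ(X, U) := f.finiteType_appLE hV hU e
  rw [hasSk_ring_iff_chart f hV hU e hft k s y x hxy hx, and_comm, isEquidim_iff_isEquidimModule]
  refine and_congr_right fun hsk => ?_
  subst hxy
  set q := hU.primeIdealOf ⟨f.fiberι s y, hx⟩
  haveI := isLocalRing_fibLocRing (A := Γ(Y, V)) q.asIdeal
  let p := q.asIdeal.under Γ(Y, V)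
  haveI : q.asIdeal.LiesOver p := ⟨rfl⟩
  letI := fibreAlg f s y hx
  obtain ⟨ε⟩ := nonempty_fibre_ring_chart f hV hU e s y hx
  let μ : (f.fiber s).presheaf.stalk y ≃ₗ[(f.fiber s).presheaf.stalk y]
      (f.fiber s).presheaf.stalk y ⊗[Γ(X, U)] Γ(X, U) :=
    (AlgebraTensorModule.rid Γ(X, U) ((f.fiber s).presheaf.stalk y) ((f.fiber s).presheaf.stalk y)).symm
  obtain ⟨Q, hQ⟩ := RelDim.exists_over Γ(Y, V) Γ(X, U) q
  obtain ⟨ψ⟩ := nonempty_fibre_algEquiv (A := Γ(Y, V)) p Q q.asIdeal hQ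
  exact ((isEquidimModule_congr μ).trans (isEquidimModule_tensor_algEquiv (ψ.trans ε) Γ(X, U)).symm).trans
    (isEquidimModule_iff_exists_assDims Γ(X, U) Q q hQ k hk hsk)

/-- On a chart where all associated points of the fibre have dimension `j`, the fibre dimension is `j`. -/
theorem fibreDimAt_eq_of_assDims {V : Y.Opens} (hV : IsAffineOpen V) {U : X.Opens} (hU : IsAffineOpen U)
    (e : U ≤ f ⁻¹ᵁ V) [LocallyOfFiniteType f] (j : ℕ) (x : X) (hx : x ∈ U)
    (h : letI := (f.appLE V U e).hom.toAlgebra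
      AssDimsIn Γ(Y, V) Γ(X, U) Γ(X, U) {j} (hU.primeIdealOf ⟨x, hx⟩)) :
    FlatMor.fibreDimAt f x = (j : WithBot ℕ∞) := by
  letI := (f.appLE V U e).hom.toAlgebra
  haveI : Algebra.FiniteType Γ(Y, V) Γ(X, U) := f.finiteType_appLE hV hU e
  obtain ⟨c, hcx, hfc, hmax, n, m, d, -, -, hd, hc, -⟩ := FibSemi.exists_max_fibre f x
  have hcU : c ∈ U := hcx.mem_open U.2 hx
  have hass : IsAssFib Γ(Y, V) Γ(X, U) Γ(X, U) (hU.primeIdealOf ⟨c, hcU⟩) := by
    refine isAssFib_of_minimal _ _ ?_ fun z' hz' hzp _ => ?_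
    · rw [Module.support_of_algebra, RingHom.ker_eq_bot_iff_eq_zero _ |>.2 fun _ h => h]
      simp
    · have hmem : hU.fromSpec z' ∈ U := hU.range_fromSpec.le ⟨z', rfl⟩
      have hz : hU.primeIdealOf ⟨hU.fromSpec z', hmem⟩ = z' :=
        hU.fromSpec.isOpenEmbedding.injective (hU.fromSpec_primeIdealOf _)
      rw [← hz] at hz' hzp ⊢
      have := hmax _ (((primeIdealOf_under_eq_iff f hV hU e hcU hmem).1 hzp).trans hfc)
        ((primeIdealOf_le_iff hU hcU hmem).1 hz')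
      congr 1
      exact Subtype.ext this
  obtain ⟨j', hj', ht⟩ := h _ ((primeIdealOf_le_iff hU hx hcU).2 hcx)
    ((primeIdealOf_under_eq_iff f hV hU e hx hcU).2 hfc) hass
  rw [Finset.mem_singleton.1 hj'] at ht
  have h1 := topDim_closure_fibre f hV hU e (f c) (f.asFiber c) c (f.fiberι_asFiber c) hcU j ht
  rw [QSect.topDim_closure_singleton, FibSemi.height_asFiber, hc] at h1
  rw [hd]
  exact h1

/-- The dimension of a stalk of a fibre. -/
theorem ringKrullDim_stalk_fiber [LocallyOfFiniteType f] (y : Y) (w : f.fiber y) :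
    ∃ n t : ℕ, ringKrullDim ((f.fiber y).presheaf.stalk w) = n ∧
      Order.krullDim {z : X | f z = f (f.fiberι y w) ∧ f.fiberι y w ⤳ z} = t ∧
      FlatMor.fibreDimAt f (f.fiberι y w) = ((n + t : ℕ) : WithBot ℕ∞) := by
  obtain ⟨z, hz⟩ : ∃ z, z = f.fiberι y w := ⟨_, rfl⟩
  obtain rfl : f z = y := hz ▸ FibCodepth.fiber_fiberι f y w
  obtain rfl : w = f.asFiber z :=
    (f.fiberι (f z)).isEmbedding.injective (hz.symm.trans (f.fiberι_asFiber z).symm)
  obtain ⟨n, t, hn, -, ht, -, hd⟩ := EquidimPt.fibre_facts f z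
  exact ⟨n, t, hn, by rw [f.fiberι_asFiber]; exact ht, by rw [f.fiberι_asFiber]; exact hd⟩

variable [LocallyOfFinitePresentation f]

/-- EGA IV 12.1.6. -/
theorem isOpen_flat_equidim_sk_geomRk (s : ℕ) (hs : 1 ≤ s) (r : ℕ) :
    IsOpen {x : X | (f.stalkMap x).hom.Flat ∧
      (∀ (K : Type u) [Field K] [Algebra (IsLocalRing.ResidueField (Y.presheaf.stalk (f.base x))) K],
        Module.Finite (IsLocalRing.ResidueField (Y.presheaf.stalk (f.base x))) K →
        ∀ x' : ↥(FBase.bc (f.fiberToSpecResidueField (f.base x)) K),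
          (FBase.bcπ (f.fiberToSpecResidueField (f.base x)) K).base x' = f.asFiber x →
          LocCoh.HasRk r ((FBase.bc (f.fiberToSpecResidueField (f.base x)) K).presheaf.stalk x')) ∧
      EGA4.IsEquidim ((f.fiber (f.base x)).presheaf.stalk (f.asFiber x)) ∧
      LocCoh.HasSk s ((f.fiber (f.base x)).presheaf.stalk (f.asFiber x))
        ((f.fiber (f.base x)).presheaf.stalk (f.asFiber x))} := by
  rw [isOpen_iff_forall_mem_open]
  rintro x₀ ⟨hfl₀, hRk₀, hEq₀⟩
  let L : X.Opens := ⟨_, FlatOpen.Scheme.isOpen_stalkMap_flat f⟩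
  obtain ⟨V, hV, hxV, -⟩ := exists_isAffineOpen_mem_and_subset (U := (⊤ : Y.Opens)) (x := f.base x₀) trivial
  obtain ⟨U, hU, hxU, hUV⟩ := exists_isAffineOpen_mem_and_subset (U := f ⁻¹ᵁ V ⊓ L) (x := x₀) ⟨hxV, hfl₀⟩
  have e : U ≤ f ⁻¹ᵁ V := fun x hx => (hUV hx).1
  letI := (f.appLE V U e).hom.toAlgebra
  haveI : Algebra.FinitePresentation Γ(Y, V) Γ(X, U) := f.finitePresentation_appLE hV hU e
  haveI := Loci.flat_of_forall_stalkMap f hV hU e fun x hx => (hUV hx).2
  obtain ⟨hsk₀, j, hj₀⟩ :=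
    (equidim_and_sk_ring_iff_chart f hV hU e s hs _ _ x₀ (f.fiberι_asFiber x₀) hxU).1 hEq₀
  obtain ⟨W, hW, hWm⟩ := FibCodepth.exists_open_of_primeIdealOf hU
    ((isOpen_fibSk (A := Γ(Y, V)) (B := Γ(X, U)) Γ(X, U) s).inter
      (isOpen_assLoci (A := Γ(Y, V)) (B := Γ(X, U)) Γ(X, U) {j} 0).1)
  have hdim : ∀ x ∈ W ∩ (U : Set X), FlatMor.fibreDimAt f x = (j : WithBot ℕ∞) := fun x hx =>
    fibreDimAt_eq_of_assDims f hV hU e j x hx.2 ((hWm x hx.2).1 hx.1).2
  let Sc : TopologicalSpace.Closeds X := ⟨(f.smoothLocus : Set X)ᶜ, f.smoothLocus.2.isClosed_compl⟩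
  let I := Scheme.IdealSheafData.vanishingIdeal Sc
  let i := I.subschemeι
  have hrange : ∀ z : X, z ∈ Set.range i ↔ z ∉ f.smoothLocus := fun z => by
    rw [Scheme.IdealSheafData.range_subschemeι, Scheme.IdealSheafData.coe_support_vanishingIdeal]
    rfl
  let C : Set I.subscheme := {a | ∃ d : ℕ, FlatMor.fibreDimAt (i ≫ f) a = d ∧ j ≤ d + r}
  have hC : IsClosed C := by
    by_cases hjr : j ≤ r
    · convert isClosed_univ using 1
      refine Set.eq_univ_of_forall fun a => ?_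
      obtain ⟨n, t, -, -, -, -, hd⟩ := EquidimPt.fibre_facts (i ≫ f) a
      exact ⟨n + t, hd, by omega⟩
    · convert (FlatMisc.FibreDimScheme.isOpen_fibreDimAt_le (i ≫ f) (j - r - 1)).isClosed_compl using 1
      ext a
      obtain ⟨n, t, -, -, -, -, hd⟩ := EquidimPt.fibre_facts (i ≫ f) a
      simp only [C, Set.mem_ofPred_eq, Set.mem_compl_iff, hd, Nat.cast_le, Nat.cast_inj, exists_eq_left']
      omega
  have key : ∀ x ∈ W ∩ (U : Set X),
      (∀ w, w ⤳ f.asFiber x → ringKrullDim ((f.fiber (f x)).presheaf.stalk w) ≤ r →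
        w ∈ (f.fiberToSpecResidueField (f x)).smoothLocus) ↔ x ∉ i '' C := by
    intro x hx
    have hsm : ∀ w : f.fiber (f x), f.fiberι (f x) w ∈ U →
        (f.fiberι (f x) w ∈ f.smoothLocus ↔ w ∈ (f.fiberToSpecResidueField (f x)).smoothLocus) := fun w hw =>
      (FlatOpen.SmoothAt.formallySmooth_stalkMap_iff_fibre f (f x) w).trans (and_iff_right (hUV hw).2)
    constructor
    · rintro h ⟨a, ⟨d, hd, hjd⟩, rfl⟩
      obtain ⟨c, hca, hfc, -, n, m, e', -, -, he', hc, -⟩ := FibSemi.exists_max_fibre (i ≫ f) a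
      have hcx : i c ⤳ i a := hca.map i.continuous
      have hicW : i c ∈ W ∩ (U : Set X) := hcx.mem_open (hW.inter U.2) hx
      obtain ⟨w, hw⟩ : i c ∈ Set.range (f.fiberι (f (i a))) := by
        rw [Scheme.Hom.range_fiberι]; exact hfc
      obtain ⟨n', t, hn', ht, hd'⟩ := ringKrullDim_stalk_fiber f (f (i a)) w
      rw [hw] at ht hd'
      rw [hdim _ hicW] at hd'
      rw [EquidimPt.specs_closedImmersion i f c, ht] at hc
      rw [hd] at he'
      have h1 : d = e' := by exact_mod_cast he'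
      have h2 : t = e' := by exact_mod_cast hc
      have h3 : j = n' + t := by exact_mod_cast hd'
      refine ((hrange (i c)).1 ⟨c, rfl⟩) (hw ▸ (hsm w (hw ▸ hicW.2)).2 (h w ?_ ?_))
      · refine (f.fiberι (f (i a))).isEmbedding.specializes_iff.1 ?_
        rw [hw, f.fiberι_asFiber]; exact hcx
      · rw [hn']; exact_mod_cast (show n' ≤ r by omega)
    · intro h w hwx hwn
      have hzx : f.fiberι (f x) w ⤳ x := (hwx.map (f.fiberι (f x)).continuous).trans (specializes_of_eq (f.fiberι_asFiber x))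
      have hzW : f.fiberι (f x) w ∈ W ∩ (U : Set X) := hzx.mem_open (hW.inter U.2) hx
      by_contra hns
      obtain ⟨b, hb⟩ := (hrange _).2 fun hsw => hns ((hsm w hzW.2).1 hsw)
      obtain ⟨a, ha⟩ : x ∈ Set.range i :=
        hzx.mem_closed i.isClosedEmbedding.isClosed_range ⟨b, hb⟩
      obtain ⟨n, t, hn, ht, hd⟩ := ringKrullDim_stalk_fiber f (f x) w
      rw [hdim _ hzW] at hd
      rw [hn] at hwn
      rw [← hb, ← EquidimPt.specs_closedImmersion i f b] at ht
      obtain ⟨n', t', -, -, -, -, hda⟩ := EquidimPt.fibre_facts (i ≫ f) a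
      have hle := (EquidimPt.le_fibreDimAt (i ≫ f) b).trans
        (EquidimPt.fibreDimAt_mono (i ≫ f) (i.isEmbedding.specializes_iff.1 (hb ▸ ha ▸ hzx : i b ⤳ i a)))
      rw [ht, hda] at hle
      have h1 : t ≤ n' + t' := by exact_mod_cast hle
      have h2 : j = n + t := by exact_mod_cast hd
      have h3 : n ≤ r := by exact_mod_cast hwn
      exact h ⟨a, ⟨n' + t', hda, by omega⟩, ha⟩
  have hfp : ∀ y, LocallyOfFinitePresentation (f.fiberToSpecResidueField y) := fun y =>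
    inferInstanceAs (LocallyOfFinitePresentation (Limits.pullback.snd f (Y.fromSpecResidueField y)))
  have hft : ∀ y, LocallyOfFiniteType (f.fiberToSpecResidueField y) := fun y =>
    inferInstanceAs (LocallyOfFiniteType (Limits.pullback.snd f (Y.fromSpecResidueField y)))
  refine ⟨W ∩ U ∩ (i '' C)ᶜ, fun x ⟨hx, hxC⟩ => ⟨(hUV hx.2).2, ?_, ?_⟩,
    (hW.inter U.2).inter (i.isClosedEmbedding.isClosedMap _ hC).isOpen_compl, ?_⟩
  · exact (@SmoothLocus.geomRk_iff _ _ _ _ (hft _) (hfp _) _ r).2 ((key x hx).2 hxC)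
  · exact (equidim_and_sk_ring_iff_chart f hV hU e s hs _ _ x (f.fiberι_asFiber x) hx.2).2
      ⟨((hWm x hx.2).1 hx.1).1, j, ((hWm x hx.2).1 hx.1).2⟩
  · have hx₀ : x₀ ∈ W ∩ (U : Set X) := ⟨(hWm x₀ hxU).2 ⟨hsk₀, hj₀⟩, hxU⟩
    exact ⟨hx₀, (key x₀ hx₀).1 ((@SmoothLocus.geomRk_iff _ _ _ _ (hft _) (hfp _) _ r).1 hRk₀)⟩

end Groth.Agent.Fibres16.SmoothOpen
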