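import Groth.Agent.Wt12.Count
import Groth.Agent.DVRDom.Basic
import Mathlib.FieldTheory.SplittingField.Construction
import Mathlib.Algebra.Polynomial.Lifts
import Mathlib.RingTheory.Valuation.ValuationSubring

/-!
# Counting points of quasi-finite fibres over a splitting field
-/

set_option autoImplicit false
set_option linter.style.haveILetI false

universe u

open CategoryTheory CategoryTheory.Limits AlgebraicGeometry Polynomial
open Groth.Agent.Wt Groth.Agent.Wt.GeomPts

namespace Groth.Agent.Fibres16.SplitCount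

variable {X Y : Scheme.{u}} (f : X ⟶ Y) [LocallyQuasiFinite f] [QuasiCompact f]

theorem surjective_of_eq_id (K : Type u) [Field K] {s : Spec (CommRingCat.of K)}
    (φ : (Spec (CommRingCat.of K)).residueField s ⟶ CommRingCat.of K)
    (h : ((Spec (CommRingCat.of K)).SpecToEquivOfField K).symm ⟨s, φ⟩ = 𝟙 _) : Function.Surjective φ.hom := by
  change Spec.map φ ≫ (Spec (CommRingCat.of K)).fromSpecResidueField s = 𝟙 _ at h
  rw [← Scheme.Spec.map_residueFieldIso_inv_eq_fromSpecResidueField, ← Spec.map_comp, ← Spec.map_comp,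
    ← Spec.map_id, Spec.map_inj] at h
  intro r
  exact ⟨_, congrArg (fun m => m r) h⟩

/-- All residue fields over `v` embed into any field over which `P` splits. -/
def IsSplitPoly (v : Y) (P : (Y.residueField v)[X]) : Prop :=
  P.Monic ∧ ∀ (K Ω : Type u) [Field K] [Field Ω] (e : Y.residueField v →+* K) (j : K →+* Ω),
    (P.map e).Splits → ∀ (x : X) (h : f x = v) (φ : X.residueField x →+* Ω),
      φ.comp (f.residueFieldMap x).hom = (j.comp e).comp (Y.residueFieldCongr h).hom.hom →
      φ.range ≤ j.range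

theorem exists_isSplitPoly (v : Y) : ∃ P, IsSplitPoly f v P := by
  classical
  haveI : Finite {x : X // f x = v} := (f.finite_preimage_singleton v).to_subtype
  have hb : ∀ x : {x : X // f x = v}, ∃ s : Finset (X.residueField x.1),
      letI : Algebra (Y.residueField v) (X.residueField x.1) :=
        ((Y.residueFieldCongr x.2).inv ≫ f.residueFieldMap x.1).hom.toAlgebra
      Submodule.span (Y.residueField v) (s : Set (X.residueField x.1)) = ⊤ ∧
        Module.Finite (Y.residueField v) (X.residueField x.1) := by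
    rintro ⟨x, rfl⟩
    letI : Algebra (Y.residueField (f x)) (X.residueField x) :=
      ((Y.residueFieldCongr (rfl : f x = f x)).inv ≫ f.residueFieldMap x).hom.toAlgebra
    have hfin : Module.Finite (Y.residueField (f x)) (X.residueField x) := by
      have h := residueFieldMap_finite f x
      rw [← RingHom.finite_algebraMap, RingHom.algebraMap_toAlgebra]
      simpa using h
    obtain ⟨s, hs⟩ := hfin.fg_top
    exact ⟨s, hs, hfin⟩
  choose s hs using hb
  haveI := Fintype.ofFinite {x : X // f x = v}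
  let mp : ∀ x : {x : X // f x = v}, X.residueField x.1 → (Y.residueField v)[X] := fun x a =>
    @minpoly (Y.residueField v) (X.residueField x.1) _ _
      ((Y.residueFieldCongr x.2).inv ≫ f.residueFieldMap x.1).hom.toAlgebra a
  have hmon : ∀ x : {x : X // f x = v}, ∀ a, (mp x a).Monic := fun x a => by
    letI : Algebra (Y.residueField v) (X.residueField x.1) :=
      ((Y.residueFieldCongr x.2).inv ≫ f.residueFieldMap x.1).hom.toAlgebra
    haveI := (hs x).2
    exact minpoly.monic (Algebra.IsIntegral.isIntegral a)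
  refine ⟨∏ x, ∏ a ∈ s x, mp x a, monic_prod_of_monic _ _ fun x _ => monic_prod_of_monic _ _ fun a _ => hmon x a, ?_⟩
  intro K Ω _ _ e j hsp x h φ hφ
  let x' : {x : X // f x = v} := ⟨x, h⟩
  letI : Algebra (Y.residueField v) (X.residueField x) :=
    ((Y.residueFieldCongr h).inv ≫ f.residueFieldMap x).hom.toAlgebra
  have hcomp : φ.comp (algebraMap (Y.residueField v) (X.residueField x)) = j.comp e := by
    refine RingHom.ext fun r => ?_
    have h1 := DFunLike.congr_fun hφ ((Y.residueFieldCongr h).inv r)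
    refine h1.trans ?_
    show j (e ((Y.residueFieldCongr h).hom ((Y.residueFieldCongr h).inv r))) = j (e r)
    rw [← CommRingCat.comp_apply, Iso.inv_hom_id]
    rfl
  intro z hz
  obtain ⟨a, rfl⟩ := hz
  have ha : a ∈ Submodule.span (Y.residueField v) (s x' : Set (X.residueField x)) := by
    have h2 := (hs x').1
    exact h2 ▸ Submodule.mem_top
  induction ha using Submodule.span_induction with
  | mem b hb =>
    have hdvd : mp x' b ∣ ∏ y, ∏ a ∈ s y, mp y a :=
      (Finset.dvd_prod_of_mem _ hb).trans (Finset.dvd_prod_of_mem (fun y => ∏ a ∈ s y, mp y a) (Finset.mem_univ x'))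
    have hne : (∏ y, ∏ a ∈ s y, mp y a).map e ≠ 0 :=
      ((monic_prod_of_monic _ _ fun y _ => monic_prod_of_monic _ _ fun a _ => hmon y a).map e).ne_zero
    have hs1 : ((mp x' b).map e).Splits := hsp.of_dvd hne (Polynomial.map_dvd e hdvd)
    refine hs1.mem_range_of_isRoot (((hmon x' b).map e).ne_zero) ?_
    rw [Polynomial.map_map, ← hcomp, ← Polynomial.map_map]
    exact IsRoot.map (by rw [IsRoot, eval_map_algebraMap]; exact minpoly.aeval _ b)
  | zero => simp
  | add b c _ _ hb hc => rw [map_add]; exact add_mem hb hc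
  | smul r b _ hb =>
    rw [Algebra.smul_def, map_mul]
    exact mul_mem ⟨e r, (DFunLike.congr_fun hcomp r).symm⟩ hb

/-- Over a splitting field the points of the fibre are the geometric points. -/
theorem card_pullback_eq [IsSeparated f] (v : Y) {P : (Y.residueField v)[X]} (hP : IsSplitPoly f v P) {K : Type u} [Field K]
    (e : Y.residueField v →+* K) (hsp : (P.map e).Splits)
    (g₀ : Spec (CommRingCat.of K) ⟶ Y) (hg : g₀ = Spec.map (CommRingCat.ofHom e) ≫ Y.fromSpecResidueField v) :
    MoreMor.nGeomConnComp f v = ENat.card ↥(pullback f g₀) := by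
  let Ω := AlgebraicClosure K
  let j : K →+* Ω := algebraMap K Ω
  let jS : Spec (CommRingCat.of Ω) ⟶ Spec (CommRingCat.of K) := Spec.map (CommRingCat.ofHom j)
  let q := pullback.snd f g₀
  have hv : g₀ (pt jS) = v := by rw [hg]; exact Y.fromSpecResidueField_apply v _
  have hfin : ∀ y : Y, (f ⁻¹' {y}).Finite := fun y => f.finite_preimage_singleton y
  obtain ⟨hF, hcard⟩ := Wt12.nPts_eq_card f hfin g₀ jS
  rw [hv] at hcard
  haveI := hF
  -- every geometric point is rational
  have hrat : ∀ a : GeomFib q jS, ∃ s : Spec (CommRingCat.of K) ⟶ pullback f g₀, s ≫ q = 𝟙 _ ∧ jS ≫ s = a.1 := by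
    intro a
    obtain ⟨⟨x, φ⟩, hφ⟩ := (X.SpecToEquivOfField Ω).symm.surjective (a.1 ≫ pullback.fst f g₀)
    change Spec.map φ ≫ X.fromSpecResidueField x = _ at hφ
    have hw : (Spec.map φ ≫ X.fromSpecResidueField x) ≫ f = Spec.map (CommRingCat.ofHom (j.comp e)) ≫ Y.fromSpecResidueField v := by
      rw [hφ, Category.assoc, pullback.condition, ← Category.assoc, a.2, hg, ← Category.assoc, ← Spec.map_comp]
      rfl
    rw [GeomPts.toComp] at hw
    change (Y.SpecToEquivOfField Ω).symm ⟨f x, _⟩ = (Y.SpecToEquivOfField Ω).symm ⟨v, CommRingCat.ofHom (j.comp e)⟩ at hw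
    obtain ⟨h, hh⟩ := Scheme.SpecToEquivOfField_eq_iff.1 ((Y.SpecToEquivOfField Ω).symm.injective hw)
    have hr := hP.2 K Ω e j hsp x h φ.hom (congrArg CommRingCat.Hom.hom hh)
    choose ψ hψ using fun r => hr ⟨r, rfl⟩
    let ψ' : X.residueField x →+* K :=
      { toFun := ψ
        map_one' := j.injective (by rw [hψ, map_one, map_one])
        map_mul' := fun a b => j.injective (by rw [map_mul, hψ, hψ, hψ, map_mul])
        map_zero' := j.injective (by rw [hψ, map_zero, map_zero])
        map_add' := fun a b => j.injective (by rw [map_add, hψ, hψ, hψ, map_add]) }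
    have hfact : φ = CommRingCat.ofHom ψ' ≫ CommRingCat.ofHom j := by
      ext r; exact (hψ r).symm
    have hsw : (Spec.map (CommRingCat.ofHom ψ') ≫ X.fromSpecResidueField x) ≫ f = 𝟙 _ ≫ g₀ := by
      rw [GeomPts.toComp, Category.id_comp, hg]
      change _ = (Y.SpecToEquivOfField K).symm ⟨v, CommRingCat.ofHom e⟩
      refine congrArg _ (Scheme.SpecToEquivOfField_eq_iff.2 ⟨h, ?_⟩)
      ext r
      refine j.injective ?_
      exact (hψ _).trans (congrArg (fun m => m r) hh)
    refine ⟨pullback.lift _ _ hsw, pullback.lift_snd _ _ _, pullback.hom_ext ?_ ?_⟩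
    · rw [Category.assoc, pullback.lift_fst, ← Category.assoc, ← Spec.map_comp, ← hfact, hφ]
    · rw [Category.assoc, pullback.lift_snd, Category.comp_id]; exact a.2.symm
  -- two rational points at the same point agree
  have huniq : ∀ s₁ s₂ : Spec (CommRingCat.of K) ⟶ pullback f g₀, s₁ ≫ q = 𝟙 _ → s₂ ≫ q = 𝟙 _ →
      pt s₁ = pt s₂ → s₁ = s₂ := by
    intro s₁ s₂ h1 h2 hp
    obtain ⟨⟨p₁, φ₁⟩, rfl⟩ := (pullback f g₀).SpecToEquivOfField K |>.symm.surjective s₁
    obtain ⟨⟨p₂, φ₂⟩, rfl⟩ := (pullback f g₀).SpecToEquivOfField K |>.symm.surjective s₂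
    have e1 : p₁ = p₂ := by
      have hp' := hp
      change (Spec.map φ₁ ≫ Scheme.fromSpecResidueField _ p₁) _ = (Spec.map φ₂ ≫ Scheme.fromSpecResidueField _ p₂) _ at hp'
      exact ((Scheme.fromSpecResidueField_apply p₁ _).symm.trans hp').trans (Scheme.fromSpecResidueField_apply p₂ _)
    subst e1
    change (Spec.map φ₁ ≫ Scheme.fromSpecResidueField _ p₁) ≫ q = 𝟙 _ at h1
    change (Spec.map φ₂ ≫ Scheme.fromSpecResidueField _ p₁) ≫ q = 𝟙 _ at h2
    have h1' := (GeomPts.toComp q p₁ φ₁).symm.trans h1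
    rw [GeomPts.toComp, ← h2, GeomPts.toComp] at h1
    obtain ⟨e3, h3⟩ := Scheme.SpecToEquivOfField_eq_iff.1 (((Spec (CommRingCat.of K)).SpecToEquivOfField K).symm.injective h1)
    simp only [Scheme.residueFieldCongr_refl, Iso.refl_hom, Category.id_comp] at h3
    have hsurj : Function.Surjective (q.residueFieldMap p₁).hom := by
      intro r
      obtain ⟨c, hc⟩ : ∃ c, (q.residueFieldMap p₁ ≫ φ₁) c = φ₁ r := by
        have hid : Function.Surjective (q.residueFieldMap p₁ ≫ φ₁).hom := by
          exact surjective_of_eq_id K (q.residueFieldMap p₁ ≫ φ₁) h1'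
        exact hid _
      exact ⟨c, φ₁.hom.injective hc⟩
    refine congrArg _ (congrArg (Sigma.mk p₁) ?_)
    ext r
    obtain ⟨c, rfl⟩ := hsurj r
    exact congrArg (fun m => m c) h3
  haveI : LocallyQuasiFinite q := inferInstanceAs (LocallyQuasiFinite (pullback.snd _ _))
  have hbij : Function.Bijective fun a : GeomFib q jS => pt a.1 := by
    refine ⟨fun a b hab => ?_, fun p => ?_⟩
    · obtain ⟨s, hs1, hs2⟩ := hrat a
      obtain ⟨t, ht1, ht2⟩ := hrat b
      refine Subtype.ext ?_
      rw [← hs2, ← ht2, huniq s t hs1 ht1 ?_]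
      have := hab
      simp only [← hs2, ← ht2] at this
      exact (eq_pt s _).symm.trans (this.trans (eq_pt t _))
    · obtain ⟨a, ha⟩ := GeomPts.surjective_pt q jS ⟨p, Subsingleton.elim (α := PrimeSpectrum K) _ _⟩
      exact ⟨a, congrArg Subtype.val ha⟩
  rw [Wt12.nGeomConnComp_eq_nPts, hcard, Int.toNat_natCast, ENat.card_congr (Equiv.ofBijective _ hbij).symm]
  exact (ENat.card_eq_coe_natCard (GeomFib q jS)).symm

end Groth.Agent.Fibres16.SplitCount
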