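import Groth.Agent.Fibres16.SuppOpen
import Groth.Agent.Fibres16.Loci
import Groth.Agent.ScSupp.Basic
import Groth.Agent.S4357
import Mathlib.Topology.KrullDimension

/-!
# Components of the support of the fibres of a flat module
-/

set_option autoImplicit false
set_option linter.style.haveILetI false

universe u

open CategoryTheory AlgebraicGeometry TopologicalSpace Topology

namespace Groth.Agent.Fibres16.SuppDims

section Top

variable {T : Type u} [TopologicalSpace T]

/-- Maximal points of a subset. -/
def maxPts (S : Set T) : Set T := {w | w ∈ S ∧ ∀ w' ∈ S, w' ⤳ w → w' = w}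

variable [T0Space T] [QuasiSober T] {S : Set T}

theorem exists_maxPt (hS : IsClosed S) {z : T} (hz : z ∈ S) : ∃ w ∈ maxPts S, w ⤳ z := by
  haveI : QuasiSober S := hS.isClosedEmbedding_subtypeVal.quasiSober
  obtain ⟨η, hη⟩ := QuasiSober.sober (isIrreducible_irreducibleComponent (x := (⟨z, hz⟩ : S)))
    isClosed_irreducibleComponent
  refine ⟨η, ⟨η.2, fun w' hw' h => ?_⟩, (hη.specializes mem_irreducibleComponent).map continuous_subtype_val⟩
  have h' : (⟨w', hw'⟩ : S) ⤳ η := subtype_specializes_iff _ _ |>.mpr h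
  have hle : irreducibleComponent (⟨z, hz⟩ : S) ⊆ closure {(⟨w', hw'⟩ : S)} := by
    rw [← hη.def]; exact specializes_iff_closure_subset.mp h'
  have heq := (irreducibleComponent_mem_irreducibleComponents (⟨z, hz⟩ : S)).2 isIrreducible_singleton.closure hle
  have hmem : (⟨w', hw'⟩ : S) ∈ irreducibleComponent (⟨z, hz⟩ : S) := heq (subset_closure rfl)
  exact ((hη.specializes hmem).map continuous_subtype_val |>.antisymm h).eq.symm

/-- The dimensions of the components of a closed subset. -/
theorem dims_components (hS : IsClosed S) :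
    (fun Z : Set S => topologicalKrullDim ↥Z) '' irreducibleComponents S =
      (fun w => topologicalKrullDim ↥(closure ({w} : Set T))) '' maxPts S := by
  haveI : QuasiSober S := hS.isClosedEmbedding_subtypeVal.quasiSober
  have hdim : ∀ w : S, topologicalKrullDim ↥(closure ({w} : Set S)) = topologicalKrullDim ↥(closure ({(w : T)} : Set T)) := by
    intro w
    have h1 : Subtype.val '' closure ({w} : Set S) = closure {(w : T)} := by
      rw [← hS.isClosedEmbedding_subtypeVal.closure_image_eq, Set.image_singleton]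
    rw [← h1]
    exact IsHomeomorph.topologicalKrullDim_eq _ ((IsEmbedding.subtypeVal.homeomorphImage (closure {w})).isHomeomorph)
  ext d
  constructor
  · rintro ⟨Z, hZ, rfl⟩
    obtain ⟨η, hη⟩ := QuasiSober.sober hZ.1 (isClosed_of_mem_irreducibleComponents Z hZ)
    refine ⟨η, ⟨η.2, fun w' hw' h => ?_⟩, ?_⟩
    · have h' : (⟨w', hw'⟩ : S) ⤳ η := subtype_specializes_iff _ _ |>.mpr h
      have heq := hZ.2 isIrreducible_singleton.closure (show Z ⊆ closure {(⟨w', hw'⟩ : S)} by
        rw [← hη.def]; exact specializes_iff_closure_subset.mp h')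
      exact ((hη.specializes (heq (subset_closure rfl))).map continuous_subtype_val |>.antisymm h).eq.symm
    · show topologicalKrullDim ↥(closure ({(η : T)} : Set T)) = topologicalKrullDim ↥Z
      rw [← hdim, hη.def]
  · rintro ⟨w, ⟨hw, hmax⟩, rfl⟩
    refine ⟨closure {(⟨w, hw⟩ : S)}, ⟨isIrreducible_singleton.closure, fun t ht hle => ?_⟩, hdim ⟨w, hw⟩⟩
    obtain ⟨η, hη⟩ := QuasiSober.sober ht.closure isClosed_closure
    have h1 : η ⤳ (⟨w, hw⟩ : S) := hη.specializes (subset_closure (hle (subset_closure rfl)))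
    have h2 : η = (⟨w, hw⟩ : S) := Subtype.ext (hmax _ η.2 (h1.map continuous_subtype_val))
    intro v hv
    rw [← h2, hη.def]
    exact subset_closure hv

end Top

variable {X Y : Scheme.{u}} (f : X ⟶ Y) [LocallyOfFinitePresentation f] (F : X.Modules)

/-- The restriction of `F` to a fibre. -/
noncomputable abbrev fibMod (y : Y) : (f.fiber y).Modules := (Scheme.Modules.pullback (f.fiberι y)).obj F

/-- The support of the restriction of `F` to a fibre. -/
abbrev suppFib (y : Y) : Set (f.fiber y) := {z | Nontrivial ((fibMod f F y).presheaf.stalk z)}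

theorem isQuasicoherent (hF : CohB1.IsFP F) : F.IsQuasicoherent := by
  haveI : SheafOfModules.IsFinitePresentation.{u} F := hF
  obtain ⟨σ, -⟩ := SheafOfModules.IsFinitePresentation.exists_quasicoherentData.{u} F
  exact { nonempty_quasicoherentData := ⟨σ⟩ }

theorem isLocallyNoetherian_fiber (y : Y) : IsLocallyNoetherian (f.fiber y) :=
  haveI : LocallyOfFiniteType (f.fiberToSpecResidueField y) :=
    MorphismProperty.of_isPullback (P := @LocallyOfFiniteType) (IsPullback.of_hasPullback f (Y.fromSpecResidueField y)) inferInstance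
  LocallyOfFiniteType.isLocallyNoetherian (f.fiberToSpecResidueField y)

variable {F}

theorem suppFib_eq (hF : CohB1.IsFP F) (y : Y) :
    suppFib f F y = (f.fiberι y).base ⁻¹' {x : X | Nontrivial (F.presheaf.stalk x)} := by
  haveI := isQuasicoherent F hF
  haveI : SheafOfModules.IsFinitePresentation.{u} F := hF
  have h := S4357.result (f.fiberι y) F (inferInstance : SheafOfModules.IsFiniteType (R := X.ringCatSheaf) F)
  simpa only [CohB1.support, not_subsingleton_iff_nontrivial] using h

theorem isClosed_suppFib (hF : CohB1.IsFP F) (y : Y) : IsClosed (suppFib f F y) := by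
  haveI := isQuasicoherent F hF
  haveI : SheafOfModules.IsFinitePresentation.{u} F := hF
  rw [suppFib_eq f hF]
  refine IsClosed.preimage (f.fiberι y).continuous ?_
  have h := ScSupp.support_annIdeal F
  simp only [CohB1.support, not_subsingleton_iff_nontrivial] at h
  rw [← h]
  exact (ScSupp.annIdeal F).support.isClosed

theorem mem_ass_of_mem_maxPts (hF : CohB1.IsFP F) (y : Y) {w : f.fiber y} (hw : w ∈ maxPts (suppFib f F y)) :
    w ∈ AssSch.Ass (fibMod f F y) := by
  haveI := isQuasicoherent F hF
  haveI := isLocallyNoetherian_fiber f y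
  haveI : (fibMod f F y).IsQuasicoherent := QCoh.isQuasicoherent_pullback _ F
  obtain ⟨z, hz, hzw⟩ := AssSch.Basic.exists_mem_ass_specializes (fibMod f F y) hw.1
  obtain rfl := hw.2 z (AssSch.Basic.nontrivial_of_mem_ass _ hz) hzw
  exact hz

theorem exists_maxPt_specializes_of_ass (hF : CohB1.IsFP F) (y : Y) {a : f.fiber y}
    (ha : a ∈ AssSch.Ass (fibMod f F y)) : ∃ w ∈ maxPts (suppFib f F y), w ⤳ a :=
  exists_maxPt (isClosed_suppFib f hF y) (AssSch.Basic.nontrivial_of_mem_ass _ ha)

/-- With no embedded associated points, the associated points are the maximal points of the support. -/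
theorem ass_eq_maxPts (hF : CohB1.IsFP F) (y : Y) (h : AssSch.NoEmbedded (fibMod f F y)) :
    AssSch.Ass (fibMod f F y) = maxPts (suppFib f F y) := by
  refine Set.Subset.antisymm (fun a ha => ?_) fun w hw => mem_ass_of_mem_maxPts f hF y hw
  obtain ⟨w, hw, hwa⟩ := exists_maxPt_specializes_of_ass f hF y ha
  rwa [h a ha w (mem_ass_of_mem_maxPts f hF y hw) hwa]

variable (F) in
/-- All associated points of the fibre through a point have their dimension in `Φ`. -/
def AssDimsAt (Φ : Finset ℕ) (y : Y) (x : f.fiber y) : Prop :=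
  ∀ z ∈ AssSch.Ass (fibMod f F y), x ∈ closure {z} →
    ∃ n ∈ Φ, topologicalKrullDim ↥(closure ({z} : Set (f.fiber y))) = (n : WithBot ℕ∞)

/-- EGA IV 12.2.2 (ii): dimensions of components of the fibres of the support persist nearby. -/
theorem exists_nhd_superset (hF : CohB1.IsFP F) (hflat : FlatMod.IsFlatOver f F) (n : ℕ) :
    IsOpen {y : Y | ∃ w ∈ maxPts (suppFib f F y), topologicalKrullDim ↥(closure ({w} : Set (f.fiber y))) = (n : WithBot ℕ∞)} := by
  let W : Set X := {x | AssDimsAt f F {n} (f x) (f.asFiber x)}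
  have hW : IsOpen W := FibCodepth.isOpen_assDims f F hF hflat {n}
  have key : ∀ (y : Y) (z : f.fiber y), f.fiberι y z ∈ W ↔ AssDimsAt f F {n} y z := by
    have : ∀ (x : X) (y : Y), f x = y → ∀ z : f.fiber y, f.fiberι y z = x → (x ∈ W ↔ AssDimsAt f F {n} y z) := by
      rintro x y rfl z hz
      rw [show z = f.asFiber x from (f.fiberι (f x)).isEmbedding.injective (hz.trans (f.fiberι_asFiber x).symm)]
      exact Iff.rfl
    exact fun y z => this _ y (FibCodepth.fiber_fiberι f y z) z rfl
  convert SuppOpen.isOpen_image_support f F hF hflat hW using 1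
  ext y
  constructor
  · rintro ⟨w, hw, hdim⟩
    have hwS : f.fiberι y w ∈ {x : X | Nontrivial (F.presheaf.stalk x)} := (suppFib_eq f hF y).le hw.1
    refine ⟨f.fiberι y w, ⟨(key y w).mpr fun z hz hwz => ⟨n, Finset.mem_singleton_self n, ?_⟩, hwS⟩,
      FibCodepth.fiber_fiberι f y w⟩
    rw [hw.2 z (AssSch.Basic.nontrivial_of_mem_ass _ hz) (specializes_iff_mem_closure.mpr hwz)]
    exact hdim
  · rintro ⟨x, ⟨hxW, hxS⟩, rfl⟩
    have hxS' : f.asFiber x ∈ suppFib f F (f x) := by
      rw [suppFib_eq f hF, Set.mem_preimage, f.fiberι_asFiber]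
      exact hxS
    obtain ⟨w, hw, hwx⟩ := exists_maxPt (isClosed_suppFib f hF (f x)) hxS'
    obtain ⟨m, hm, hdim⟩ := hxW w (mem_ass_of_mem_maxPts f hF _ hw) hwx.mem_closure
    rw [Finset.mem_singleton] at hm
    subst hm
    exact ⟨w, hw, hdim⟩

end Groth.Agent.Fibres16.SuppDims
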